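import Cfsg.Agent.Lib.Classical.Unitary.Transvection
import Cfsg.Agent.Lib.Classical.SimpleQuot

/-!
Eichler transformations, perfectness, primitivity on isotropic points and simplicity of `PSU`.
-/

set_option autoImplicit false

namespace CfsgLib.Classical.Herm

open scoped commutatorElement LinearAlgebra.Projectivization Pointwise

variable {F : Type*} [Field F] {V : Type*} [AddCommGroup V] [Module F V] {σ : F →+* F}
  {B : V →ₛₗ[σ] V →ₗ[F] F}

namespace IsHerm

variable (h : IsHerm B)
include h

/-! ### Eichler transformations -/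

theorem eichMap_preserves {u x : V} (hu : B u u = 0) (hux : B u x = 0) {a : F}
    (ha : a + σ a = -B x x) (y z : V) :
    B (eichMap B u x a y) (eichMap B u x a z) = B y z := by
  simp only [eichMap_apply, map_add, map_sub, map_smul, LinearMap.add_apply, smul_left, smul_right,
    hu, hux, h.eq_zero_symm hux, map_mul, h.symm]
  linear_combination (B u z * B y u) * ha

variable [FiniteDimensional F V]

/-- The Eichler transformation. -/
noncomputable def eich {u x : V} (hu : B u u = 0) (hux : B u x = 0) {a : F}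
    (ha : a + σ a = -B x x) : HU B :=
  h.ofPreserves (eichMap B u x a) (h.eichMap_preserves hu hux ha)

theorem eich_apply {u x : V} (hu : B u u = 0) (hux : B u x = 0) {a : F}
    (ha : a + σ a = -B x x) (y : V) :
    (h.eich hu hux ha : V ≃ₗ[F] V) y = y + B u y • x + (a * B u y - B x y) • u :=
  eichMap_apply u x a y

theorem det_eich {u x : V} (hu : B u u = 0) (hux : B u x = 0) {a : F}
    (ha : a + σ a = -B x x) : HU.det B (h.eich hu hux ha) = 1 := by
  ext
  show ((LinearEquiv.det (h.eich hu hux ha : V ≃ₗ[F] V) : Fˣ) : F) = 1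
  have hE : eichMap B u x a =
      LinearMap.transvection ((a + B x x) • B u - B x) u ∘ₗ LinearMap.transvection (B u) x := by
    refine LinearMap.ext fun y => ?_
    simp only [eichMap_apply, LinearMap.comp_apply, LinearMap.transvection.apply,
      LinearMap.sub_apply, LinearMap.smul_apply, map_add, map_smul, smul_eq_mul, hux]
    match_scalars <;> ring
  rw [LinearEquiv.coe_det, eich, coe_ofPreserves, hE, LinearMap.det_comp,
    LinearMap.transvection.det, LinearMap.transvection.det]
  simp [hu, hux, h.eq_zero_symm hux]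

theorem eich_mem {u x : V} (hu : B u u = 0) (hux : B u x = 0) {a : F}
    (ha : a + σ a = -B x x) : h.eich hu hux ha ∈ HSU B :=
  h.det_eich hu hux ha

/-- Two Eichler transformations with the same centre commute up to a transvection. -/
theorem eich_mul_comm {u x y : V} (hu : B u u = 0) (hux : B u x = 0) (huy : B u y = 0) {a b : F}
    (ha : a + σ a = -B x x) (hb : b + σ b = -B y y) {c : F} (hc : c + σ c = 0)
    (hcxy : c = B y x - B x y) :
    h.eich hu hux ha * h.eich hu huy hb =
      h.tr hu hc * (h.eich hu huy hb * h.eich hu hux ha) := by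
  ext z
  simp only [Subgroup.coe_mul, LinearEquiv.mul_apply, eich_apply, tr_apply, map_add, smul_right,
    hu, hux, huy, h.eq_zero_symm hux, h.eq_zero_symm huy, hcxy]
  match_scalars <;> ring

/-- Every unitary transvection is a commutator in the special unitary group. -/
theorem tr_eq_commutator [Finite F] (h3 : 3 ≤ Module.finrank F V) {u : V} (hu : B u u = 0) {c : F}
    (hc : c + σ c = 0) : ∃ g₁ ∈ HSU B, ∃ g₂ ∈ HSU B, ⁅g₁, g₂⁆ = h.tr hu hc := by
  by_cases hu0 : u = 0
  · refine ⟨1, one_mem _, 1, one_mem _, ?_⟩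
    ext y
    simp [commutatorElement_def, tr_apply, hu0]
  obtain ⟨f, huf, hff⟩ := h.exists_isotropic_partner hu0 hu
  have hd := h.hyperbolic_disc (f := f) hu huf
  have hW := h.pair_nondeg hd
  have hr := h.finrank_orth hW
  rw [h.pair_finrank hd] at hr
  obtain ⟨x, hx, hxx⟩ := h.exists_norm_in (h.orth_nondeg hW) (by omega) (map_one σ)
  have hux : B u x = 0 :=
    h.mem_orth.1 hx u (Submodule.subset_span (Set.mem_insert u _))
  obtain ⟨s, hs⟩ := h.invol.exists_trace_eq (μ := (1 : F)) (map_one σ)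
  set t := -(s * c) with ht
  have huy : B u (t • x) = 0 := by rw [smul_right, hux, mul_zero]
  obtain ⟨a, ha⟩ := h.invol.exists_trace_eq (μ := -B x x) (by rw [map_neg, h.self_fixed])
  obtain ⟨b, hb⟩ := h.invol.exists_trace_eq (μ := -B (t • x) (t • x))
    (by rw [map_neg, h.self_fixed])
  have hσc : σ c = -c := eq_neg_of_add_eq_zero_right hc
  refine ⟨_, h.eich_mem hu hux ha, _, h.eich_mem hu huy hb, ?_⟩
  have key := h.eich_mul_comm hu hux huy ha hb hc (by
    rw [smul_left, smul_right, hxx, ht, map_neg, map_mul, hσc]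
    linear_combination -c * hs)
  rw [commutatorElement_def, key]
  group

theorem HSU_le_commutator [Finite F] (h3 : 3 ≤ Module.finrank F V)
    (hex : Module.finrank F V = 3 → Nat.card (fixedSub σ) ≠ 2) :
    commutator (HSU B) = ⊤ := by
  rw [eq_top_iff]
  rintro g -
  suffices (g : HU B) ∈ (commutator (HSU B)).map (HSU B).subtype by
    obtain ⟨g', hg', he⟩ := Subgroup.mem_map.1 this
    rwa [← Subtype.ext (show (g' : HU B) = g from he)]
  have hle : h.trGroup ≤ (commutator (HSU B)).map (HSU B).subtype := by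
    rw [trGroup, Subgroup.closure_le]
    rintro _ ⟨u, hu, c, hc, rfl⟩
    obtain ⟨g₁, h₁, g₂, h₂, e⟩ := h.tr_eq_commutator h3 hu hc
    refine Subgroup.mem_map.2 ⟨⁅(⟨g₁, h₁⟩ : HSU B), ⟨g₂, h₂⟩⁆, ?_, ?_⟩
    · rw [commutator_def]
      exact Subgroup.commutator_mem_commutator (Subgroup.mem_top _) (Subgroup.mem_top _)
    · rw [map_commutatorElement]
      exact e
  exact hle (h.generated (by omega) hex g.2)

/-! ### Isotropic points -/

omit [FiniteDimensional F V] in
theorem exists_apply_pair {x y : V} (hli : LinearIndependent F ![x, y]) :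
    ∃ k, B x k = 0 ∧ B y k = 1 := by
  by_contra hc
  push Not at hc
  have hall : ∀ k, B x k = 0 → B y k = 0 := fun k hk => by
    by_contra hne
    exact hc ((B y k)⁻¹ • k) (by rw [smul_right, hk, mul_zero])
      (by rw [smul_right, inv_mul_cancel₀ hne])
  have hx0 : x ≠ 0 := LinearIndependent.ne_zero 0 hli
  obtain ⟨k₀, hk₀⟩ := h.exists_apply_eq_one hx0
  have hy : y = σ (B y k₀) • x := sub_eq_zero.1 (h.nondeg _ fun k => by
    have h1 := hall (k - B x k • k₀) (by rw [map_sub, smul_right, hk₀, mul_one, sub_self])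
    rw [map_sub, smul_right] at h1
    rw [sub_left, smul_left, h.invol.invol]
    linear_combination h1)
  have := LinearIndependent.pair_iff.1 hli (σ (B y k₀)) (-1)
    (by rw [neg_one_smul, ← hy, add_neg_cancel])
  exact one_ne_zero (neg_eq_zero.1 this.2)

omit [FiniteDimensional F V] in
theorem exists_perp_partner {u w : V} (hli : LinearIndependent F ![w, u]) (huu : B u u = 0)
    (hwu : B w u = 0) : ∃ s, B s s = 0 ∧ B w s = 0 ∧ B u s = 1 := by
  obtain ⟨k, hwk, huk⟩ := h.exists_apply_pair hli
  obtain ⟨a, ha⟩ := h.invol.exists_trace_eq (μ := -B k k) (by rw [map_neg, h.self_fixed])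
  have hku : B k u = 1 := by rw [← h.symm, huk, map_one]
  refine ⟨k + a • u, ?_, by rw [map_add, smul_right, hwk, hwu, mul_zero, add_zero],
    by rw [map_add, smul_right, huk, huu, mul_zero, add_zero]⟩
  simp only [map_add, LinearMap.add_apply, smul_left, smul_right, huu, huk, hku]
  linear_combination ha

/-- The pointwise stabiliser of an isotropic vector is transitive on its partners. -/
theorem transitive_hyperbolic [Finite F] (h3 : 3 ≤ Module.finrank F V) {u w w' : V}
    (huu : B u u = 0) (huw : B u w = 1) (huw' : B u w' = 1) (hww : B w w = 0)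
    (hww' : B w' w' = 0) :
    ∃ g ∈ HSU B, (g : V ≃ₗ[F] V) u = u ∧ (g : V ≃ₗ[F] V) w = w' := by
  have hli := h.linearIndependent_hyperbolic huu hww huw
  have hli' := h.linearIndependent_hyperbolic huu hww' huw'
  have hwu : B w u = 1 := by rw [← h.symm, huw, map_one]
  have hwu' : B w' u = 1 := by rw [← h.symm, huw', map_one]
  let X := Submodule.span F (Set.range ![u, w])
  let bX : Module.Basis (Fin 2) F X := Module.Basis.span hli
  let φ : X →ₗ[F] V := bX.constr F ![u, w']
  have hφu : φ (bX 0) = u := by simp [φ]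
  have hφw : φ (bX 1) = w' := by simp [φ]
  have hbu : ((bX 0 : X) : V) = u :=
    Module.Basis.coe_span_apply hli _
  have hbw : ((bX 1 : X) : V) = w :=
    Module.Basis.coe_span_apply hli _
  have hexp : ∀ p : X, ∃ r s : F, (p : V) = r • u + s • w ∧ φ p = r • u + s • w' := by
    intro p
    refine ⟨bX.repr p 0, bX.repr p 1, ?_, ?_⟩
    · conv_lhs => rw [← bX.sum_repr p]
      rw [Submodule.coe_sum, Fin.sum_univ_two, Submodule.coe_smul, Submodule.coe_smul, hbu, hbw]
    · conv_lhs => rw [← bX.sum_repr p]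
      rw [map_sum, Fin.sum_univ_two, map_smul, map_smul, hφu, hφw]
  have hinj : Function.Injective φ := by
    rw [injective_iff_map_eq_zero]
    intro p hp
    obtain ⟨r, s, e1, e2⟩ := hexp p
    obtain ⟨hr, hs⟩ := LinearIndependent.pair_iff.1 hli' r s (by rw [← e2, hp])
    exact Subtype.ext (by rw [e1, hr, hs]; simp)
  have hφ : ∀ a b : X, B (φ a) (φ b) = B (a : V) b := by
    intro a b
    obtain ⟨r, s, e1, e2⟩ := hexp a
    obtain ⟨r', s', e1', e2'⟩ := hexp b
    rw [e1, e2, e1', e2']
    simp only [map_add, LinearMap.add_apply, smul_left, smul_right, huu, huw, huw', hww, hww',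
      hwu, hwu']
  obtain ⟨g, hg⟩ := h.exists_extension X φ hinj hφ
  have hgu : (g : V ≃ₗ[F] V) u = u := by
    have := hg (bX 0); rwa [hbu, hφu] at this
  have hgw : (g : V ≃ₗ[F] V) w = w' := by
    have := hg (bX 1); rwa [hbw, hφw] at this
  have hd := h.hyperbolic_disc (f := w) huu huw
  have hW := h.pair_nondeg hd
  have hr := h.finrank_orth hW
  rw [h.pair_finrank hd] at hr
  obtain ⟨v, hv, hvv⟩ := h.exists_norm_in (h.orth_nondeg hW) (by omega) (map_one σ)
  rw [h.mem_orth] at hv
  have hvu : B v u = 0 := h.eq_zero_symm (hv u (Submodule.subset_span (Set.mem_insert u _)))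
  have hvw : B v w = 0 :=
    h.eq_zero_symm (hv w (Submodule.subset_span (Set.mem_insert_of_mem u rfl)))
  have hv0 : B v v ≠ 0 := by rw [hvv]; exact one_ne_zero
  have ha : ((HU.det B g)⁻¹ : Fˣ).val * σ ((HU.det B g)⁻¹ : Fˣ).val = 1 := by
    rw [Units.val_inv_eq_inv_val, map_inv₀, ← mul_inv, h.det_norm_one g, inv_one]
  refine ⟨g * h.quasiIso v hv0 _ ha, ?_, ?_, ?_⟩
  · rw [MonoidHom.mem_ker, map_mul, h.det_quasiIso, mul_inv_cancel]
  · show (g : V ≃ₗ[F] V) (quasi B v hv0 _ u) = u
    rw [quasi_apply_perp _ _ _ hvu, hgu]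
  · show (g : V ≃ₗ[F] V) (quasi B v hv0 _ w) = w'
    rw [quasi_apply_perp _ _ _ hvw, hgw]

end IsHerm

/-- The isotropic points, as a set stable under the special unitary group. -/
def isoPts (B : V →ₛₗ[σ] V →ₗ[F] F) : SubMulAction (HSU B) (ℙ F V) where
  carrier := {p | B p.rep p.rep = 0}
  smul_mem' g p hp := by
    have hv : ((g : HU B) : V ≃ₗ[F] V) p.rep ≠ 0 := by simpa using p.rep_nonzero
    have hgp : g • p = Projectivization.mk F (((g : HU B) : V ≃ₗ[F] V) p.rep) hv := by
      conv_lhs => rw [← p.mk_rep]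
      exact (Projectivization.mk_eq_mk_iff' F _ _ _ _).2 ⟨1, one_smul _ _⟩
    obtain ⟨a, ha⟩ := Projectivization.exists_smul_eq_mk_rep F
      (((g : HU B) : V ≃ₗ[F] V) p.rep) hv
    rw [← hgp] at ha
    show B (g • p).rep (g • p).rep = 0
    rw [← ha, Units.smul_def, smul_left, smul_right, HU.map_eq, hp, mul_zero, mul_zero]

/-- The point of an isotropic vector. -/
def isoPoint {u : V} (hu : u ≠ 0) (huu : B u u = 0) : isoPts B :=
  ⟨Projectivization.mk F u hu, by
    obtain ⟨a, ha⟩ := Projectivization.exists_smul_eq_mk_rep F u hu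
    show B (Projectivization.mk F u hu).rep (Projectivization.mk F u hu).rep = 0
    rw [← ha, Units.smul_def, smul_left, smul_right, huu, mul_zero, mul_zero]⟩

theorem exists_isoPoint_eq (p : isoPts B) :
    ∃ (u : V) (hu : u ≠ 0) (huu : B u u = 0), isoPoint hu huu = p :=
  ⟨p.1.rep, p.1.rep_nonzero, p.2, Subtype.ext p.1.mk_rep⟩

theorem isoPoint_eq_iff {u w : V} (hu : u ≠ 0) (huu : B u u = 0) (hw : w ≠ 0) (hww : B w w = 0) :
    isoPoint hu huu = isoPoint hw hww ↔ ∃ a : F, a • w = u :=
  Subtype.ext_iff.trans (Projectivization.mk_eq_mk_iff' F _ _ _ _)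

theorem smul_isoPoint {g : HSU B} {u v : V} (hu : u ≠ 0) (huu : B u u = 0) (hv : v ≠ 0)
    (hvv : B v v = 0) (e : ((g : HU B) : V ≃ₗ[F] V) u = v) :
    g • isoPoint hu huu = isoPoint hv hvv := by
  refine Subtype.ext ?_
  have hgu : ((g : HU B) : V ≃ₗ[F] V) u ≠ 0 := by rw [e]; exact hv
  show Projectivization.mk F (((g : HU B) : V ≃ₗ[F] V) u) hgu = Projectivization.mk F v hv
  exact (Projectivization.mk_eq_mk_iff' F _ _ _ _).2 ⟨1, by rw [one_smul, e]⟩

/-- The transvections centred at a vector, inside the special unitary group. -/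
def rootGroup (B : V →ₛₗ[σ] V →ₗ[F] F) (u : V) (huu : B u u = 0) : Subgroup (HSU B) where
  carrier := {g | ∃ c : F, c + σ c = 0 ∧
    ∀ y, ((g : HU B) : V ≃ₗ[F] V) y = y + (c * B u y) • u}
  mul_mem' := by
    rintro g k ⟨a, ha, hg⟩ ⟨b, hb, hk⟩
    refine ⟨a + b, by rw [map_add]; linear_combination ha + hb, fun y => ?_⟩
    show ((g : HU B) : V ≃ₗ[F] V) (((k : HU B) : V ≃ₗ[F] V) y) = _
    rw [hk, hg, map_add, smul_right, huu, mul_zero, add_zero]
    match_scalars <;> ring
  one_mem' := ⟨0, by simp, fun y => by simp⟩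
  inv_mem' := by
    rintro g ⟨a, ha, hg⟩
    refine ⟨-a, by rw [map_neg]; linear_combination -ha, fun y => ?_⟩
    show (((g : HU B) : V ≃ₗ[F] V)).symm y = _
    rw [LinearEquiv.symm_apply_eq, hg, map_add, smul_right, huu, mul_zero, add_zero]
    match_scalars <;> ring

namespace IsHerm

variable [FiniteDimensional F V] (h : IsHerm B)
include h

theorem isPreprimitive [Finite F] (h3 : 3 ≤ Module.finrank F V) :
    MulAction.IsPreprimitive (HSU B) (isoPts B) := by
  have hpre : MulAction.IsPretransitive (HSU B) (isoPts B) := ⟨fun p r => by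
    obtain ⟨u, hu, huu, rfl⟩ := exists_isoPoint_eq p
    obtain ⟨w, hw, hww, rfl⟩ := exists_isoPoint_eq r
    obtain ⟨t, ht, e⟩ := h.transitive_isotropic h3 hu hw huu hww
    exact ⟨⟨t, h.trGroup_le ht⟩, smul_isoPoint hu huu hw hww e⟩⟩
  refine { hpre with isTrivialBlock_of_isBlock := fun {Δ} hΔ => ?_ }
  by_cases hsub : Δ.Subsingleton
  · exact Or.inl hsub
  refine Or.inr (Set.eq_univ_iff_forall.2 fun x => ?_)
  have stab : ∀ (p r : isoPts B) (g : HSU B), p ∈ Δ → r ∈ Δ → g • p = p → g • r ∈ Δ := by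
    intro p r g hp hr hgp
    have hgΔ : g • Δ = Δ := hΔ.smul_eq_of_mem hp (by rwa [hgp])
    rw [← hgΔ]
    exact Set.smul_mem_smul_set hr
  obtain ⟨p, hp, r, hr, hpr⟩ := Set.not_subsingleton_iff.1 hsub
  have stepA : ∀ (u w w' : V) (hu : u ≠ 0) (huu : B u u = 0) (hw : w ≠ 0) (hww : B w w = 0)
      (hw' : w' ≠ 0) (hww' : B w' w' = 0),
      isoPoint hu huu ∈ Δ → isoPoint hw hww ∈ Δ → B u w ≠ 0 → B u w' ≠ 0 →
      isoPoint hw' hww' ∈ Δ := by
    intro u w w' hu huu hw hww hw' hww' hpu hpw hne hne'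
    have hw1 : (B u w)⁻¹ • w ≠ 0 := smul_ne_zero (inv_ne_zero hne) hw
    have hw1' : (B u w')⁻¹ • w' ≠ 0 := smul_ne_zero (inv_ne_zero hne') hw'
    have hi : ∀ (a : F) (y : V), B y y = 0 → B (a • y) (a • y) = 0 := fun a y hy => by
      rw [smul_left, smul_right, hy, mul_zero, mul_zero]
    obtain ⟨g, hg, e1, e2⟩ := h.transitive_hyperbolic h3 huu
      (by rw [smul_right, inv_mul_cancel₀ hne]) (by rw [smul_right, inv_mul_cancel₀ hne'])
      (hi _ w hww) (hi _ w' hww')
    rw [← (isoPoint_eq_iff hw1 (hi _ w hww) hw hww).2 ⟨_, rfl⟩] at hpw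
    rw [← (isoPoint_eq_iff hw1' (hi _ w' hww') hw' hww').2 ⟨_, rfl⟩,
      ← smul_isoPoint (g := ⟨g, hg⟩) hw1 (hi _ w hww) hw1' (hi _ w' hww') e2]
    exact stab _ _ _ hpu hpw (smul_isoPoint hu huu hu huu e1)
  have finish : ∀ (u w : V) (hu : u ≠ 0) (huu : B u u = 0) (hw : w ≠ 0) (hww : B w w = 0),
      isoPoint hu huu ∈ Δ → isoPoint hw hww ∈ Δ → B u w ≠ 0 → x ∈ Δ := by
    intro u w hu huu hw hww hpu hpw hne
    obtain ⟨y, hy, hyy, rfl⟩ := exists_isoPoint_eq x
    by_cases hy' : B u y = 0
    · by_cases hli : LinearIndependent F ![y, u]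
      · obtain ⟨z, hzz, hyz, huz⟩ : ∃ z, B z z = 0 ∧ B y z ≠ 0 ∧ B u z ≠ 0 := by
          obtain ⟨s, hss, hys, hus⟩ := h.exists_perp_partner hli huu (h.eq_zero_symm hy')
          obtain ⟨k, huk, hyk⟩ := h.exists_apply_pair (x := u) (y := y)
            (LinearIndependent.pair_symm_iff.1 hli)
          obtain ⟨a, ha⟩ := h.invol.exists_trace_eq (μ := -B (k + s) (k + s))
            (by rw [map_neg, h.self_fixed])
          have hu1 : B u (k + s) = 1 := by rw [map_add, huk, hus, zero_add]
          have h1u : B (k + s) u = 1 := by rw [← h.symm, hu1, map_one]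
          refine ⟨k + s + a • u, ?_, ?_, ?_⟩
          · generalize k + s = z₀ at ha hu1 h1u ⊢
            simp only [map_add, LinearMap.add_apply, smul_left, smul_right, hu1, h1u, huu]
            linear_combination ha
          · rw [map_add, map_add, smul_right, hyk, hys, h.eq_zero_symm hy', mul_zero, add_zero,
              add_zero]
            exact one_ne_zero
          · rw [map_add, smul_right, hu1, huu, mul_zero, add_zero]
            exact one_ne_zero
        have hz0 : z ≠ 0 := by rintro rfl; simp at huz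
        have hpz := stepA u w z hu huu hw hww hz0 hzz hpu hpw hne huz
        exact stepA z u y hz0 hzz hu huu hy hyy hpz hpu
          (fun hc => huz (h.eq_zero_symm hc)) (fun hc => hyz (h.eq_zero_symm hc))
      · rw [LinearIndependent.pair_iff' hy] at hli
        push Not at hli
        obtain ⟨a, ha⟩ := hli
        rwa [(isoPoint_eq_iff hu huu hy hyy).2 ⟨a, ha⟩] at hpu
    · exact stepA u w y hu huu hw hww hy hyy hpu hpw hne hy'
  obtain ⟨u, hu, huu, rfl⟩ := exists_isoPoint_eq p
  obtain ⟨w, hw, hww, rfl⟩ := exists_isoPoint_eq r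
  by_cases huw : B u w = 0
  swap
  · exact finish u w hu huu hw hww hp hr huw
  -- move `u` off its perp by a transvection fixing `w`
  have hli : LinearIndependent F ![w, u] := by
    rw [LinearIndependent.pair_iff' hw]
    exact fun a ha => hpr ((isoPoint_eq_iff hu huu hw hww).2 ⟨a, ha⟩)
  obtain ⟨s, hss, hws, hus⟩ := h.exists_perp_partner hli huu (h.eq_zero_symm huw)
  obtain ⟨θ, hθ0, hθ⟩ := h.exists_skew
  let g : HSU B := ⟨h.tr hss hθ, h.det_tr hss hθ⟩
  have hgw : ((g : HU B) : V ≃ₗ[F] V) w = w := h.tr_fix hss hθ (h.eq_zero_symm hws)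
  set z := ((g : HU B) : V ≃ₗ[F] V) u with hz
  have hzz : B z z = 0 := (HU.map_eq (g : HU B) u u).trans huu
  have hsu : B s u = 1 := by rw [← h.symm, hus, map_one]
  have huz : B u z ≠ 0 := by
    have : z = u + (θ * B s u) • s := h.tr_apply hss hθ u
    rw [this, map_add, smul_right, huu, hsu, hus]
    simpa using hθ0
  have hz0 : z ≠ 0 := by intro hc; rw [hc, map_zero] at huz; exact huz rfl
  have hpz : isoPoint hz0 hzz ∈ Δ := by
    rw [← smul_isoPoint (g := g) hu huu hz0 hzz rfl]
    exact stab _ _ g hr hp (smul_isoPoint hw hww hw hww hgw)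
  exact finish u z hu huu hz0 hzz hp hpz huz

theorem eigen_of_fix_isoPts [Finite F] (h3 : 3 ≤ Module.finrank F V) {g : HSU B}
    (hg : ∀ x : isoPts B, g • x = x) :
    ∃ a : F, ∀ v, ((g : HU B) : V ≃ₗ[F] V) v = a • v := by
  set G := ((g : HU B) : V ≃ₗ[F] V) with hG
  have heig : ∀ (w : V), w ≠ 0 → B w w = 0 → ∃ a : F, G w = a • w := fun w hw hww => by
    obtain ⟨a, ha⟩ := (Projectivization.mk_eq_mk_iff' F _ _ (by simpa using hw) hw).1
      (congrArg Subtype.val (hg (isoPoint hw hww)))
    exact ⟨a, ha.symm⟩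
  obtain ⟨u, hu0, huu⟩ := h.exists_isotropic (by omega)
  obtain ⟨a, ha⟩ := heig u hu0 huu
  obtain ⟨θ, hθ0, hθ⟩ := h.exists_skew
  refine ⟨a, ?_⟩
  -- partners of `u`
  have hpartner : ∀ w, B u w = 1 → B w w = 0 → G w = a • w := by
    intro w huw hww
    have hw0 : w ≠ 0 := by rintro rfl; simp at huw
    have hwu : B w u = 1 := by rw [← h.symm, huw, map_one]
    have hww' : B (u + θ • w) (u + θ • w) = 0 := by
      simp only [map_add, LinearMap.add_apply, smul_left, smul_right, huu, huw, hwu, hww]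
      linear_combination hθ
    have hli := h.linearIndependent_hyperbolic huu hww huw
    have hne : u + θ • w ≠ 0 := fun hc => by
      have := LinearIndependent.pair_iff.1 hli 1 θ (by rw [one_smul, hc])
      exact one_ne_zero this.1
    obtain ⟨b, hb⟩ := heig w hw0 hww
    obtain ⟨c, hc⟩ := heig _ hne hww'
    rw [map_add, map_smul, ha, hb, smul_add, smul_smul, smul_smul] at hc
    have h1 := LinearIndependent.pair_iff.1 hli (a - c) (θ * b - c * θ) (by
      rw [sub_smul, sub_smul, ← sub_eq_zero.2 hc]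
      abel)
    have h2 : b = a := by
      apply mul_left_cancel₀ hθ0
      linear_combination h1.2 - θ * h1.1
    rw [hb, h2]
  have hone : ∀ v, B u v = 1 → G v = a • v := by
    intro v hv
    obtain ⟨t, ht⟩ := h.invol.exists_trace_eq (μ := -B v v) (by rw [map_neg, h.self_fixed])
    have hvu : B v u = 1 := by rw [← h.symm, hv, map_one]
    have h1 := hpartner (v + t • u)
      (by rw [map_add, smul_right, hv, huu, mul_zero, add_zero])
      (by
        simp only [map_add, LinearMap.add_apply, smul_left, smul_right, huu, hv, hvu]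
        linear_combination ht)
    rw [map_add, map_smul, ha, smul_add, smul_comm t a u] at h1
    exact add_right_cancel h1
  intro v
  obtain ⟨f, huf, -⟩ := h.exists_isotropic_partner hu0 huu
  have h1 := hone (v + (1 - B u v) • f) (by rw [map_add, smul_right, huf, mul_one]; ring)
  rw [map_add, map_smul, hone f huf, smul_add, smul_comm (1 - B u v) a f] at h1
  exact add_right_cancel h1

theorem isSimpleGroup_PSU [Finite F] (h3 : 3 ≤ Module.finrank F V)
    (hex : Module.finrank F V = 3 → Nat.card (fixedSub σ) ≠ 2) :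
    IsSimpleGroup (HSU B ⧸ Subgroup.center (HSU B)) := by
  have := h.isPreprimitive h3
  have hscale : ∀ (u : V) (huu : B u u = 0) (a : F) (hau : B (a • u) (a • u) = 0), a ≠ 0 →
      rootGroup B (a • u) hau = rootGroup B u huu := by
    intro u huu a hau ha
    ext g
    constructor
    · rintro ⟨c, hc, hg⟩
      refine ⟨a * σ a * c, ?_, fun y => ?_⟩
      · rw [map_mul, map_mul, h.invol.invol]; linear_combination a * σ a * hc
      · rw [hg, smul_left, smul_smul]; congr 2; ring
    · rintro ⟨c, hc, hg⟩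
      have hsa : σ a ≠ 0 := fun h0 => ha (IsInvol.apply_eq_zero_iff.1 h0)
      refine ⟨c / (a * σ a), ?_, fun y => ?_⟩
      · rw [map_div₀, map_mul, h.invol.invol, mul_comm (σ a), ← add_div, hc, zero_div]
      · rw [hg, smul_left, smul_smul]; congr 2; field_simp
  have hrg : ∀ (u w : V) (huu : B u u = 0) (hww : B w w = 0), u = w →
      rootGroup B u huu = rootGroup B w hww := by
    intro u w _ _ e
    subst e
    rfl
  let I : MulAction.IwasawaStructure (HSU B) (isoPts B) :=
    { T := fun p => rootGroup B p.1.rep p.2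
      is_comm := fun p => ⟨⟨by
        rintro ⟨g, a, ha, hg⟩ ⟨k, b, hb, hk⟩
        apply Subtype.ext
        apply Subtype.ext
        apply Subtype.ext
        apply LinearEquiv.ext
        intro y
        show ((g : HU B) : V ≃ₗ[F] V) (((k : HU B) : V ≃ₗ[F] V) y) =
          ((k : HU B) : V ≃ₗ[F] V) (((g : HU B) : V ≃ₗ[F] V) y)
        have hpp : B p.1.rep p.1.rep = 0 := p.2
        rw [hk, hg, hg, hk, map_add, map_add, smul_right, smul_right, hpp]
        match_scalars <;> ring⟩⟩
      is_conj := fun g p => by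
        have hw : ((g : HU B) : V ≃ₗ[F] V) p.1.rep ≠ 0 := by simpa using p.1.rep_nonzero
        have hww : B (((g : HU B) : V ≃ₗ[F] V) p.1.rep) (((g : HU B) : V ≃ₗ[F] V) p.1.rep) = 0 :=
          (HU.map_eq (g : HU B) _ _).trans p.2
        have hgp : g • p = isoPoint hw hww := by
          conv_lhs => rw [show p = isoPoint p.1.rep_nonzero p.2 from
            Subtype.ext p.1.mk_rep.symm]
          exact smul_isoPoint _ _ _ _ rfl
        obtain ⟨a, ha⟩ := Projectivization.exists_smul_eq_mk_rep F _ hw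
        have hrep : (g • p).1.rep = (a : F) • ((g : HU B) : V ≃ₗ[F] V) p.1.rep := by
          rw [← Units.smul_def, ha, hgp]; rfl
        rw [hrg _ _ (g • p).2 (by rw [smul_left, smul_right, hww, mul_zero, mul_zero]) hrep,
          hscale _ hww _ _ a.ne_zero]
        ext k
        rw [Subgroup.mem_pointwise_smul_iff_inv_smul_mem, MulAut.smul_def, MulAut.inv_apply,
          MulAut.conj_symm_apply]
        constructor
        · rintro ⟨c, hc, hk⟩
          refine ⟨c, hc, fun y => ?_⟩
          show (((g : HU B) : V ≃ₗ[F] V)).symm (((k : HU B) : V ≃ₗ[F] V)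
            (((g : HU B) : V ≃ₗ[F] V) y)) = _
          rw [hk, LinearEquiv.symm_apply_eq, map_add, map_smul, HU.map_eq]
        · rintro ⟨c, hc, hk⟩
          refine ⟨c, hc, fun y => ?_⟩
          obtain ⟨y, rfl⟩ := ((g : HU B) : V ≃ₗ[F] V).surjective y
          have h1 : (((g : HU B) : V ≃ₗ[F] V)).symm (((k : HU B) : V ≃ₗ[F] V)
            (((g : HU B) : V ≃ₗ[F] V) y)) = _ := hk y
          rw [LinearEquiv.symm_apply_eq] at h1
          rw [h1, map_add, map_smul, HU.map_eq]
      is_generator := by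
        rw [eq_top_iff]
        rintro g -
        set K := (⨆ p : isoPts B, rootGroup B p.1.rep p.2) with hK
        suffices (g : HU B) ∈ K.map (HSU B).subtype by
          obtain ⟨g', hg', he⟩ := Subgroup.mem_map.1 this
          rwa [← Subtype.ext (show (g' : HU B) = g from he)]
        refine (?_ : h.trGroup ≤ K.map (HSU B).subtype) (h.generated (by omega) hex g.2)
        rw [trGroup, Subgroup.closure_le]
        rintro _ ⟨u, huu, c, hc, rfl⟩
        by_cases hu : u = 0
        · have : h.tr huu hc = 1 := by ext y; simp [tr_apply, hu]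
          rw [this]
          exact one_mem _
        refine Subgroup.mem_map.2 ⟨⟨h.tr huu hc, h.det_tr huu hc⟩, ?_, rfl⟩
        refine Subgroup.mem_iSup_of_mem (isoPoint hu huu) ?_
        obtain ⟨a, ha⟩ := Projectivization.exists_smul_eq_mk_rep F u hu
        have hrep : (isoPoint (B := B) hu huu).1.rep = (a : F) • u := by
          rw [← Units.smul_def, ha]; rfl
        rw [hrg _ _ (isoPoint hu huu).2 (by rw [smul_left, smul_right, huu, mul_zero, mul_zero])
          hrep, hscale _ huu _ _ a.ne_zero]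
        exact ⟨c, hc, fun y => h.tr_apply huu hc y⟩ }
  refine isSimpleGroup_quotient_center_of_iwasawa I (h.HSU_le_commutator h3 hex) ?_ fun g hg => ?_
  · obtain ⟨u, hu, huu⟩ := h.exists_isotropic (by omega)
    obtain ⟨f, huf, hff⟩ := h.exists_isotropic_partner hu huu
    obtain ⟨θ, hθ0, hθ⟩ := h.exists_skew
    refine ⟨⟨h.tr huu hθ, h.det_tr huu hθ⟩, fun hc => ?_⟩
    obtain ⟨a, ha⟩ := (h.mem_center_HSU_iff h3).1 hc
    have h1 := ha f
    have h2 : (h.tr huu hθ : V ≃ₗ[F] V) f = a • f := h1
    rw [tr_apply, huf, mul_one] at h2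
    have hfu : B f u = 1 := by rw [← h.symm, huf, map_one]
    have h3' := congrArg (B f) h2
    rw [map_add, smul_right, smul_right, hff, hfu, mul_zero, mul_one, zero_add] at h3'
    exact hθ0 h3'
  · exact (h.mem_center_HSU_iff h3).2 (h.eigen_of_fix_isoPts h3 hg)

end IsHerm

end CfsgLib.Classical.Herm
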