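import Cfsg.Agent.Lib.Classical.Unitary.Matrix
import Cfsg.Agent.Lib.Classical.Unitary.Structure

/-!
Transvection matrices in `SU`, and simplicity of `PSU`.
-/

set_option autoImplicit false

namespace CfsgLib.Classical.Herm

open scoped Matrix commutatorElement

variable {n : ℕ} {F : Type*} [Field F] [Fintype F] {q : ℕ}

omit [Field F] [Fintype F] in
theorem map_center_of_equiv {G H : Type*} [Group G] [Group H] (e : G ≃* H) :
    (Subgroup.center G).map e.toMonoidHom = Subgroup.center H := by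
  ext x
  obtain ⟨z, rfl⟩ := e.surjective x
  rw [Subgroup.mem_map_equiv, e.symm_apply_apply, Subgroup.mem_center_iff, Subgroup.mem_center_iff]
  refine ⟨fun h y => ?_, fun h y => e.injective (by rw [map_mul, map_mul, h])⟩
  obtain ⟨w, rfl⟩ := e.surjective y
  rw [← map_mul, h, map_mul]

theorem suEquiv_symm_tr (hF : Fintype.card F = q ^ 2) {v : Fin n → F}
    (hv : hermStd n hF v v = 0) {c : F} (hc : c + powHom hF c = 0) :
    ((((suEquiv n hF).symm ⟨(hermStd_isHerm hF).tr hv hc, (hermStd_isHerm hF).det_tr hv hc⟩ :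
      Cfsg.SU n F q) : Matrix.SpecialLinearGroup (Fin n) F) : Matrix (Fin n) (Fin n) F) =
      Cfsg.unitaryTransvection n q v c := by
  apply Matrix.toLin'.injective
  refine LinearMap.ext fun x => ?_
  rw [Matrix.toLin'_apply, Matrix.toLin'_apply, unitaryTransvection_mulVec hF, ← suEquiv_apply hF,
    MulEquiv.apply_symm_apply]
  exact (hermStd_isHerm hF).tr_apply hv hc x

theorem su_closure_transvections (hF : Fintype.card F = q ^ 2) (n : ℕ) (h2 : 2 ≤ n)
    (hex : n = 3 → q ≠ 2) :
    Subgroup.closure {A : ↥(Cfsg.SU n F q) | ∃ (v : Fin n → F) (c : F),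
      Cfsg.hermForm n F q v v = 0 ∧
      ((A : Matrix.SpecialLinearGroup (Fin n) F) : Matrix (Fin n) (Fin n) F) =
        Cfsg.unitaryTransvection n q v c} = ⊤ := by
  set S := Subgroup.closure {A : ↥(Cfsg.SU n F q) | ∃ (v : Fin n → F) (c : F),
    Cfsg.hermForm n F q v v = 0 ∧
    ((A : Matrix.SpecialLinearGroup (Fin n) F) : Matrix (Fin n) (Fin n) F) =
      Cfsg.unitaryTransvection n q v c} with hS
  rw [eq_top_iff]
  intro A _
  set φ := (HSU (hermStd n hF)).subtype.comp (suEquiv n hF).toMonoidHom with hφ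
  have hinj : Function.Injective φ := fun a b hab =>
    (suEquiv n hF).injective (Subtype.ext hab)
  suffices φ A ∈ S.map φ by
    obtain ⟨A', hA', e⟩ := Subgroup.mem_map.1 this
    rwa [← hinj e]
  refine (?_ : (hermStd_isHerm hF).trGroup ≤ S.map φ) ((hermStd_isHerm hF).generated
    (by rw [finrank_std]; exact h2)
    (by rw [finrank_std, card_fixed_powHom hF]; exact hex) (suEquiv n hF A).2)
  rw [IsHerm.trGroup, Subgroup.closure_le]
  rintro _ ⟨v, hv, c, hc, rfl⟩
  refine Subgroup.mem_map.2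
    ⟨(suEquiv n hF).symm ⟨_, (hermStd_isHerm hF).det_tr hv hc⟩,
      Subgroup.subset_closure ⟨v, c, hv, suEquiv_symm_tr hF hv hc⟩, ?_⟩
  simp [hφ]

theorem transvection_mem_commutatorSet (hF : Fintype.card F = q ^ 2) (hn : 3 ≤ n)
    (A : ↥(Cfsg.SU n F q)) (v : Fin n → F) (c : F) (hv0 : Cfsg.hermForm n F q v v = 0)
    (hA : ((A : Matrix.SpecialLinearGroup (Fin n) F) : Matrix (Fin n) (Fin n) F) =
      Cfsg.unitaryTransvection n q v c) :
    A ∈ commutatorSet ↥(Cfsg.SU n F q) := by
  have h := hermStd_isHerm (n := n) hF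
  by_cases hv : v = 0
  · have : A = 1 := by
      apply Subtype.ext
      apply Matrix.SpecialLinearGroup.ext
      intro i j
      rw [show ((A : Matrix.SpecialLinearGroup (Fin n) F) : Matrix (Fin n) (Fin n) F) i j = _ from
        congrFun₂ hA i j, hv]
      simp [Cfsg.unitaryTransvection, Matrix.SpecialLinearGroup.coe_one]
    exact ⟨1, 1, by rw [this]; simp [commutatorElement_def]⟩
  have hact : ∀ y, ((suEquiv n hF A : HU (hermStd n hF)) : (Fin n → F) ≃ₗ[F] (Fin n → F)) y =
      y + (c * hermStd n hF v y) • v := fun y => by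
    rw [suEquiv_apply, hA, unitaryTransvection_mulVec hF]
  have hvv : hermStd n hF v v = 0 := hv0
  obtain ⟨f, hvf⟩ := h.exists_apply_eq_one hv
  have hfv : hermStd n hF f v = 1 := by rw [← h.symm, hvf, map_one]
  have hc : c + powHom hF c = 0 := by
    have := HU.map_eq (suEquiv n hF A : HU (hermStd n hF)) f f
    rw [hact] at this
    simp only [map_add, LinearMap.add_apply, smul_left, smul_right, hvf, hfv, hvv, mul_one,
      mul_zero, add_zero] at this
    linear_combination this
  obtain ⟨g₁, h₁, g₂, h₂, e⟩ := h.tr_eq_commutator (by rw [finrank_std]; exact hn) hvv hc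
  refine ⟨(suEquiv n hF).symm ⟨g₁, h₁⟩, (suEquiv n hF).symm ⟨g₂, h₂⟩, ?_⟩
  rw [← map_commutatorElement, MulEquiv.symm_apply_eq]
  refine Subtype.ext ?_
  rw [show ((⁅(⟨g₁, h₁⟩ : HSU (hermStd n hF)), ⟨g₂, h₂⟩⁆ : HSU (hermStd n hF)) :
    HU (hermStd n hF)) = ⁅g₁, g₂⁆ from rfl, e]
  refine Subtype.ext (LinearEquiv.ext fun y => ?_)
  rw [h.tr_apply, hact]

theorem isSimpleGroup_PSU' (hF : Fintype.card F = q ^ 2) (n : ℕ) (hn : 3 ≤ n)
    (hex : n = 3 → q ≠ 2) : IsSimpleGroup (Cfsg.PSU n F q) := by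
  have := (hermStd_isHerm (n := n) hF).isSimpleGroup_PSU (by rw [finrank_std]; exact hn)
    (by rw [finrank_std, card_fixed_powHom hF]; exact hex)
  let e : Cfsg.PSU n F q ≃* HSU (hermStd n hF) ⧸ Subgroup.center (HSU (hermStd n hF)) :=
    QuotientGroup.congr _ _ (suEquiv n hF) (map_center_of_equiv (suEquiv n hF))
  exact e.isSimpleGroup_congr.2 this

end CfsgLib.Classical.Herm
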