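import Cfsg.Agent.Lib.Classical.FieldNorm
import Cfsg.Agent.Lib.Classical.SylowGL

/-!
Involutory automorphisms of finite fields: fixed field, trace and norm.
-/

set_option autoImplicit false

namespace CfsgLib.Classical.Herm

variable {F : Type*} [Field F]

/-- The fixed field of an endomorphism. -/
def fixedSub (σ : F →+* F) : Subfield F := σ.eqLocusField (RingHom.id F)

theorem mem_fixedSub {σ : F →+* F} {x : F} : x ∈ fixedSub σ ↔ σ x = x := Iff.rfl

/-- An involutory automorphism different from the identity. -/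
structure IsInvol (σ : F →+* F) : Prop where
  ne_id : σ ≠ RingHom.id F
  invol : ∀ a, σ (σ a) = a

namespace IsInvol

variable {σ : F →+* F} (hσ : IsInvol σ)
include hσ

theorem exists_ne : ∃ a, σ a ≠ a := by
  by_contra h
  push Not at h
  exact hσ.ne_id (RingHom.ext h)

theorem exists_skew : ∃ θ : F, θ ≠ 0 ∧ σ θ = -θ := by
  obtain ⟨a, ha⟩ := hσ.exists_ne
  exact ⟨a - σ a, sub_ne_zero.2 (Ne.symm ha), by simp [hσ.invol]⟩

theorem exists_trace_ne_zero : ∃ x : F, x + σ x ≠ 0 := by
  by_contra h
  push Not at h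
  have h1 := h 1
  rw [map_one] at h1
  refine hσ.ne_id (RingHom.ext fun x => ?_)
  have h2 := h x
  rw [RingHom.id_apply]
  linear_combination h2 - x * h1

theorem trace_mem (x : F) : x + σ x ∈ fixedSub σ := by
  rw [mem_fixedSub, map_add, hσ.invol, add_comm]

theorem norm_mem (x : F) : x * σ x ∈ fixedSub σ := by
  rw [mem_fixedSub, map_mul, hσ.invol, mul_comm]

theorem exists_trace_eq {μ : F} (hμ : σ μ = μ) : ∃ x, x + σ x = μ := by
  obtain ⟨x, hx⟩ := hσ.exists_trace_ne_zero
  refine ⟨μ / (x + σ x) * x, ?_⟩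
  rw [map_mul, map_div₀, map_add, hσ.invol, hμ, add_comm (σ x) x, ← mul_add, div_mul_cancel₀ _ hx]

omit hσ in
theorem apply_eq_zero_iff {x : F} : σ x = 0 ↔ x = 0 :=
  map_eq_zero_iff σ σ.injective

theorem card_sq [Finite F] : Nat.card F = Nat.card (fixedSub σ) ^ 2 := by
  obtain ⟨θ, hθ, hσθ⟩ := hσ.exists_skew
  obtain ⟨x₀, hx₀⟩ := hσ.exists_trace_ne_zero
  rw [pow_two, ← Nat.card_prod]
  refine (Nat.card_congr (Equiv.ofBijective
    (fun p : fixedSub σ × fixedSub σ =>
      (p.1 : F) * (x₀ / (x₀ + σ x₀)) + (p.2 : F) * θ) ⟨?_, ?_⟩)).symm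
  · intro p r h
    have key : ∀ s : fixedSub σ × fixedSub σ,
        (s.1 : F) = ((s.1 : F) * (x₀ / (x₀ + σ x₀)) + (s.2 : F) * θ) +
          σ ((s.1 : F) * (x₀ / (x₀ + σ x₀)) + (s.2 : F) * θ) := by
      intro s
      have h1 : σ (s.1 : F) = s.1 := s.1.2
      have h2 : σ (s.2 : F) = s.2 := s.2.2
      rw [map_add, map_mul, map_mul, map_div₀, map_add, hσ.invol, h1, h2, hσθ,
        add_comm (σ x₀) x₀]
      field_simp
      ring
    have e1 : (p.1 : F) = r.1 := by
      rw [key p, key r]
      simp only at h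
      rw [h]
    have e2 : (p.2 : F) = r.2 := by
      simp only [e1, add_right_inj] at h
      exact mul_right_cancel₀ hθ h
    exact Prod.ext (Subtype.ext e1) (Subtype.ext e2)
  · intro y
    have hmem : (y - (y + σ y) * (x₀ / (x₀ + σ x₀))) / θ ∈ fixedSub σ := by
      rw [mem_fixedSub, map_div₀, map_sub, map_mul, map_div₀, map_add, map_add, hσ.invol,
        hσ.invol, hσθ, div_neg, ← neg_div, add_comm (σ y) y, add_comm (σ x₀) x₀]
      congr 1
      field_simp
      ring
    refine ⟨(⟨y + σ y, hσ.trace_mem y⟩, ⟨_, hmem⟩), ?_⟩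
    simp only
    field_simp
    ring

theorem apply_eq_pow [Finite F] (x : F) : σ x = x ^ Nat.card (fixedSub σ) := by
  have : Fintype (fixedSub σ) := Fintype.ofFinite _
  have : Fintype F := Fintype.ofFinite F
  set Q := Nat.card (fixedSub σ) with hQ
  have hQ' : Q = Fintype.card (fixedSub σ) := Nat.card_eq_fintype_card
  have hQ1 : 1 < Q := by rw [hQ']; exact Fintype.one_lt_card
  have hKfix : ∀ a ∈ fixedSub σ, a ^ Q = a := fun a ha => by
    have h := FiniteField.pow_card (⟨a, ha⟩ : fixedSub σ)
    rw [← hQ'] at h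
    exact congrArg Subtype.val h
  have hadd : ∀ a b : F, (a + b) ^ Q = a ^ Q + b ^ Q := by
    obtain ⟨p, hp⟩ := CharP.exists F
    have : Fact p.Prime := ⟨(CharP.char_is_prime_or_zero F p).resolve_right
      (CharP.char_ne_zero_of_finite F p)⟩
    have : CharP (fixedSub σ) p :=
      (RingHom.charP_iff (fixedSub σ).subtype Subtype.val_injective p).2 hp
    obtain ⟨f, -, hf⟩ := exists_card_eq_prime_pow (F := fixedSub σ) p
    intro a b
    rw [hQ', hf, add_pow_char_pow]
  by_cases hx : σ x = x
  · rw [hKfix x hx, hx]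
  -- `x ^ Q` is a root of the same quadratic over the fixed field
  have htr : (x ^ Q) + (σ x) ^ Q = x + σ x := by
    rw [← hadd, hKfix _ (hσ.trace_mem x)]
  have hnm : (x ^ Q) * (σ x) ^ Q = x * σ x := by
    rw [← mul_pow, hKfix _ (hσ.norm_mem x)]
  have hroot : (x ^ Q - x) * (x ^ Q - σ x) = 0 := by
    linear_combination x ^ Q * htr - hnm
  rcases mul_eq_zero.1 hroot with h | h
  · exfalso
    apply hx
    classical
    have hsub : ((Finset.univ : Finset (fixedSub σ)).map
        ⟨Subtype.val, Subtype.val_injective⟩ : Finset F) ⊆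
        (Polynomial.X ^ Q - Polynomial.X : Polynomial F).roots.toFinset := by
      intro a ha
      simp only [Finset.mem_map, Finset.mem_univ, true_and, Function.Embedding.coeFn_mk] at ha
      obtain ⟨b, rfl⟩ := ha
      rw [Multiset.mem_toFinset, Polynomial.mem_roots (FiniteField.X_pow_card_sub_X_ne_zero F hQ1)]
      simp [hKfix _ b.2]
    have hcard := Polynomial.card_roots' (Polynomial.X ^ Q - Polynomial.X : Polynomial F)
    rw [FiniteField.X_pow_card_sub_X_natDegree_eq F hQ1] at hcard
    have heq := Finset.eq_of_subset_of_card_le hsub (by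
      rw [Finset.card_map, Finset.card_univ, ← hQ']
      exact (Multiset.toFinset_card_le _).trans hcard)
    have hmem : x ∈ (Polynomial.X ^ Q - Polynomial.X : Polynomial F).roots.toFinset := by
      rw [Multiset.mem_toFinset, Polynomial.mem_roots (FiniteField.X_pow_card_sub_X_ne_zero F hQ1)]
      simp [h]
    rw [← heq] at hmem
    simp only [Finset.mem_map, Finset.mem_univ, true_and, Function.Embedding.coeFn_mk] at hmem
    obtain ⟨b, rfl⟩ := hmem
    exact b.2
  · exact (sub_eq_zero.1 h).symm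

omit hσ in
theorem card_ge_two [Finite F] : 2 ≤ Nat.card (fixedSub σ) := Finite.one_lt_card

theorem exists_norm_eq [Finite F] {μ : F} (hμ : σ μ = μ) : ∃ x, x * σ x = μ := by
  by_cases h0 : μ = 0
  · exact ⟨0, by simp [h0]⟩
  have : Fintype F := Fintype.ofFinite F
  have hF : Fintype.card F = Nat.card (fixedSub σ) ^ 2 := by
    rw [← hσ.card_sq, Nat.card_eq_fintype_card]
  obtain ⟨u, hu⟩ := CfsgLib.Classical.exists_norm_eq hF h0 (by rw [← hσ.apply_eq_pow, hμ])
  exact ⟨u, by rw [hσ.apply_eq_pow, ← pow_succ', hu]⟩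

theorem card_norm_fibre [Finite F] {μ : F} (h0 : μ ≠ 0) (hμ : σ μ = μ) :
    Nat.card {x : F // x * σ x = μ} = Nat.card (fixedSub σ) + 1 := by
  have : Fintype F := Fintype.ofFinite F
  have hF : Fintype.card F = Nat.card (fixedSub σ) ^ 2 := by
    rw [← hσ.card_sq, Nat.card_eq_fintype_card]
  rw [← CfsgLib.Classical.card_norm_eq hF h0 (by rw [← hσ.apply_eq_pow, hμ])]
  exact Nat.card_congr (Equiv.subtypeEquivRight fun x => by rw [hσ.apply_eq_pow, ← pow_succ'])

end IsInvol

variable [Fintype F] {q : ℕ}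

theorem exists_prime_pow_root (hF : Fintype.card F = q ^ 2) :
    ∃ (p f : ℕ), p.Prime ∧ CharP F p ∧ q = p ^ f := by
  obtain ⟨p, hp⟩ := CharP.exists F
  obtain ⟨n, hpr, hn⟩ := FiniteField.card F p
  rw [hF] at hn
  obtain ⟨f, -, hf⟩ := (Nat.dvd_prime_pow hpr).1 (hn ▸ dvd_pow_self q two_ne_zero)
  exact ⟨p, f, hpr, hp, hf⟩

/-- The map `x ↦ x ^ q` as a ring endomorphism of a field of order `q ^ 2`. -/
noncomputable def powHom (hF : Fintype.card F = q ^ 2) : F →+* F where
  toFun x := x ^ q
  map_one' := one_pow q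
  map_mul' a b := mul_pow a b q
  map_zero' := zero_pow (by have := two_le_of_card_sq hF; omega)
  map_add' a b := by
    obtain ⟨p, f, hpr, hp, hf⟩ := exists_prime_pow_root hF
    have := Fact.mk hpr
    rw [hf, add_pow_char_pow]

@[simp] theorem powHom_apply (hF : Fintype.card F = q ^ 2) (x : F) : powHom hF x = x ^ q := rfl

theorem powHom_isInvol (hF : Fintype.card F = q ^ 2) : IsInvol (powHom hF) where
  invol a := by
    rw [powHom_apply, powHom_apply, ← pow_mul, ← pow_two, ← hF, FiniteField.pow_card]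
  ne_id h := by
    have hq := two_le_of_card_sq hF
    classical
    have hall : (Finset.univ : Finset F) ⊆
        (Polynomial.X ^ q - Polynomial.X : Polynomial F).roots.toFinset := fun x _ => by
      rw [Multiset.mem_toFinset,
        Polynomial.mem_roots (FiniteField.X_pow_card_sub_X_ne_zero F (by omega))]
      have hx := RingHom.congr_fun h x
      rw [powHom_apply, RingHom.id_apply] at hx
      simp [hx]
    have h1 := (Finset.card_le_card hall).trans
      ((Multiset.toFinset_card_le _).trans (Polynomial.card_roots' _))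
    rw [Finset.card_univ, FiniteField.X_pow_card_sub_X_natDegree_eq F (by omega), hF] at h1
    nlinarith

theorem card_fixed_powHom (hF : Fintype.card F = q ^ 2) :
    Nat.card (fixedSub (powHom hF)) = q := by
  have h := (powHom_isInvol hF).card_sq
  rw [Nat.card_eq_fintype_card (α := F), hF] at h
  exact (Nat.pow_left_injective two_ne_zero h).symm

end CfsgLib.Classical.Herm
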