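import Cfsg.Prelude.Def_Classical
import Cfsg.Agent.Lib.Classical.Unitary.Field

/-!
Numbers of vectors of given Hermitian norm.
-/

set_option autoImplicit false

namespace CfsgLib.Classical.Herm

variable {F : Type*} [Field F] {σ : F →+* F}

/-- The standard norm `∑ i, v i * σ (v i)` of a vector. -/
def normVec (σ : F →+* F) {n : ℕ} (v : Fin n → F) : F := ∑ i, v i * σ (v i)

/-- The number of vectors of length `n` with standard norm `c`. -/
noncomputable def normCount (σ : F →+* F) (n : ℕ) (c : F) : ℕ :=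
  Nat.card {v : Fin n → F // normVec σ v = c}

theorem normCount_scale (hσ : IsInvol σ) [Finite F] (n : ℕ) {c : F} (hc0 : c ≠ 0) (hc : σ c = c) :
    normCount σ n c = normCount σ n 1 := by
  obtain ⟨a, ha⟩ := hσ.exists_norm_eq hc
  have ha0 : a ≠ 0 := by rintro rfl; rw [zero_mul] at ha; exact hc0 ha.symm
  have key : ∀ v : Fin n → F, normVec σ (a • v) = c * normVec σ v := fun v => by
    simp only [normVec, Finset.mul_sum, Pi.smul_apply, smul_eq_mul, map_mul, ← ha]
    exact Finset.sum_congr rfl fun i _ => by ring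
  symm
  refine Nat.card_congr ((Equiv.ofBijective (fun v : Fin n → F => a • v)
    ⟨fun v w h => smul_right_injective _ ha0 h,
      fun w => ⟨a⁻¹ • w, smul_inv_smul₀ ha0 w⟩⟩).subtypeEquiv fun v => ?_)
  show _ ↔ normVec σ (a • v) = c
  rw [key]
  constructor
  · intro h; rw [h, mul_one]
  · intro h; exact mul_left_cancel₀ hc0 (h.trans (mul_one c).symm)

theorem normVec_fixed (hσ : IsInvol σ) {n : ℕ} (v : Fin n → F) : normVec σ v ∈ fixedSub σ :=
  Subfield.sum_mem _ fun i _ => hσ.norm_mem (v i)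

theorem normCount_succ [Fintype F] (n : ℕ) (c : F) :
    normCount σ (n + 1) c = ∑ x : F, normCount σ n (c - x * σ x) := by
  classical
  rw [normCount, Nat.card_congr ((Fin.consEquiv fun _ : Fin (n + 1) => F).symm.subtypeEquiv
    (p := fun v => normVec σ v = c)
    (q := fun p => p.1 * σ p.1 + normVec σ p.2 = c) fun v => by
      simp only [normVec, Fin.consEquiv_symm_apply, Fin.sum_univ_succ, Fin.tail]),
    Nat.card_congr (Equiv.subtypeProdEquivSigmaSubtype
      fun (x : F) (w : Fin n → F) => x * σ x + normVec σ w = c), Nat.card_sigma]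
  refine Finset.sum_congr rfl fun x _ => Nat.card_congr (Equiv.subtypeEquivRight fun w => ?_)
  rw [eq_sub_iff_add_eq, add_comm]

variable [Fintype F]

theorem total (hσ : IsInvol σ) (n : ℕ) :
    (normCount σ n 0 : ℤ) + ((Nat.card (fixedSub σ) : ℤ) - 1) * normCount σ n 1 =
      (Nat.card (fixedSub σ) : ℤ) ^ (2 * n) := by
  classical
  have h1 : Nat.card (Fin n → F) = ∑ c : fixedSub σ, normCount σ n (c : F) := by
    simp only [normCount]
    rw [← Nat.card_sigma]
    exact Nat.card_congr
      { toFun := fun v => ⟨⟨normVec σ v, normVec_fixed hσ v⟩, v, rfl⟩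
        invFun := fun s => s.2.1
        left_inv := fun _ => rfl
        right_inv := by rintro ⟨⟨c, hc⟩, v, hv⟩; simp only at hv; subst hv; rfl }
  rw [Nat.card_fun, hσ.card_sq, Nat.card_fin, ← pow_mul,
    ← Finset.add_sum_erase _ _ (Finset.mem_univ (0 : fixedSub σ)),
    Finset.sum_congr rfl (fun c hc => normCount_scale hσ n
      (fun h => (Finset.mem_erase.1 hc).1 (Subtype.ext h)) c.2),
    Finset.sum_const, Finset.card_erase_of_mem (Finset.mem_univ _), Finset.card_univ,
    ← Nat.card_eq_fintype_card (α := fixedSub σ), smul_eq_mul] at h1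
  have h2 : 1 ≤ Nat.card (fixedSub σ) := by
    have := IsInvol.card_ge_two (σ := σ)
    omega
  have h3 := congrArg (fun k : ℕ => (k : ℤ)) h1
  simp only [Nat.cast_pow, Nat.cast_add, Nat.cast_mul, Nat.cast_sub h2, Nat.cast_one] at h3
  exact h3.symm

theorem normCount_succ_zero (hσ : IsInvol σ) (n : ℕ) :
    (normCount σ (n + 1) 0 : ℤ) =
      normCount σ n 0 + ((Nat.card (fixedSub σ) : ℤ) ^ 2 - 1) * normCount σ n 1 := by
  classical
  rw [normCount_succ, ← Finset.add_sum_erase _ _ (Finset.mem_univ (0 : F)),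
    zero_mul, sub_zero, Finset.sum_congr rfl (fun x hx => normCount_scale hσ n (c := 0 - x * σ x)
      (by
        have hx0 : x ≠ 0 := (Finset.mem_erase.1 hx).1
        rw [zero_sub, neg_ne_zero]
        exact mul_ne_zero hx0 (fun h => hx0 (IsInvol.apply_eq_zero_iff.1 h)))
      (by rw [zero_sub, map_neg, map_mul, hσ.invol, mul_comm])),
    Finset.sum_const, Finset.card_erase_of_mem (Finset.mem_univ _), Finset.card_univ, smul_eq_mul,
    ← Nat.card_eq_fintype_card, hσ.card_sq]
  have h2 : 1 ≤ Nat.card (fixedSub σ) ^ 2 :=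
    Nat.one_le_pow _ _ (by have := IsInvol.card_ge_two (σ := σ); omega)
  push_cast [Nat.cast_sub h2]
  ring

theorem normCount_zero_formula (hσ : IsInvol σ) (n : ℕ) :
    (Nat.card (fixedSub σ) : ℤ) * normCount σ n 0 = (Nat.card (fixedSub σ) : ℤ) ^ (2 * n) +
      (-1) ^ n * ((Nat.card (fixedSub σ) : ℤ) ^ (n + 1) - (Nat.card (fixedSub σ) : ℤ) ^ n) := by
  set q : ℤ := (Nat.card (fixedSub σ) : ℤ) with hq
  induction n with
  | zero =>
    have h : normCount σ 0 (0 : F) = 1 := by
      rw [normCount, Nat.card_eq_one_iff_unique]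
      exact ⟨⟨fun a b => Subtype.ext (Subsingleton.elim _ _)⟩, ⟨⟨0, by simp [normVec]⟩⟩⟩
    rw [h]
    push_cast
    ring
  | succ n ih =>
    have ht := total hσ n
    rw [← hq] at ht
    have hs := normCount_succ_zero hσ n
    rw [← hq] at hs
    rw [hs]
    have hq1 : q - 1 ≠ 0 := by
      have := IsInvol.card_ge_two (σ := σ)
      omega
    apply mul_left_cancel₀ hq1
    linear_combination (q * (q - 1)) * (q + 1) * ht - (q - 1) * q * ih

theorem normCount_one_formula (hσ : IsInvol σ) (n : ℕ) :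
    (Nat.card (fixedSub σ) : ℤ) * normCount σ n 1 =
      (Nat.card (fixedSub σ) : ℤ) ^ (2 * n) - (-1) ^ n * (Nat.card (fixedSub σ) : ℤ) ^ n := by
  set q : ℤ := (Nat.card (fixedSub σ) : ℤ) with hq
  have hq1 : q - 1 ≠ 0 := by
    have := IsInvol.card_ge_two (σ := σ)
    omega
  have ht := total hσ n
  have hz := normCount_zero_formula hσ n
  rw [← hq] at ht hz
  apply mul_left_cancel₀ hq1
  linear_combination q * ht - hz

theorem normCount_one (hσ : IsInvol σ) (n : ℕ) :
    normCount σ (n + 1) 1 = if Even (n + 1)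
      then Nat.card (fixedSub σ) ^ n * (Nat.card (fixedSub σ) ^ (n + 1) - 1)
      else Nat.card (fixedSub σ) ^ n * (Nat.card (fixedSub σ) ^ (n + 1) + 1) := by
  have hf := normCount_one_formula hσ (n + 1)
  have h1 : 1 ≤ Nat.card (fixedSub σ) ^ (n + 1) :=
    Nat.one_le_pow _ _ (by have := IsInvol.card_ge_two (σ := σ); omega)
  have hq0 : (Nat.card (fixedSub σ) : ℤ) ≠ 0 := by
    have := IsInvol.card_ge_two (σ := σ)
    omega
  rw [← Int.natCast_inj]
  apply mul_left_cancel₀ hq0
  rw [hf]
  split_ifs with h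
  · rw [h.neg_one_pow]
    push_cast [Nat.cast_sub h1]
    ring
  · rw [(Nat.not_even_iff_odd.1 h).neg_one_pow]
    push_cast
    ring

theorem normCount_zero (hσ : IsInvol σ) (n : ℕ) :
    normCount σ n 0 = (if Even n
      then (Nat.card (fixedSub σ) ^ n - 1) * (Nat.card (fixedSub σ) ^ (n - 1) + 1)
      else (Nat.card (fixedSub σ) ^ n + 1) * (Nat.card (fixedSub σ) ^ (n - 1) - 1)) + 1 := by
  have hf := normCount_zero_formula hσ n
  have h0 : 1 ≤ Nat.card (fixedSub σ) := by
    have := IsInvol.card_ge_two (σ := σ)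
    omega
  have h1 : 1 ≤ Nat.card (fixedSub σ) ^ n := Nat.one_le_pow _ _ h0
  have h2 : 1 ≤ Nat.card (fixedSub σ) ^ (n - 1) := Nat.one_le_pow _ _ h0
  rw [← Int.natCast_inj]
  apply mul_left_cancel₀ (show (Nat.card (fixedSub σ) : ℤ) ≠ 0 by omega)
  rw [hf]
  rcases n with _ | n
  · simp
  split_ifs with h
  · rw [h.neg_one_pow]
    simp only [Nat.add_sub_cancel]
    push_cast [Nat.cast_sub h1]
    ring
  · rw [(Nat.not_even_iff_odd.1 h).neg_one_pow]
    simp only [Nat.add_sub_cancel] at h2 ⊢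
    push_cast [Nat.cast_sub h2]
    ring

theorem normVec_powHom {q n : ℕ} (hF : Fintype.card F = q ^ 2) (v : Fin n → F) :
    normVec (powHom hF) v = Cfsg.hermForm n F q v v := rfl

end CfsgLib.Classical.Herm
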