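import Cfsg.Agent.Lib.Classical.Unitary.Form
import Cfsg.Agent.Lib.Classical.Unitary.Count

/-!
Orders and centres of the unitary groups of a Hermitian form.
-/

set_option autoImplicit false

namespace CfsgLib.Classical.Herm

open scoped Matrix

variable {F : Type*} [Field F] {V : Type*} [AddCommGroup V] [Module F V] {σ : F →+* F}
  {B : V →ₛₗ[σ] V →ₗ[F] F}

/-- The quasi-reflection with parameter `a` along the anisotropic vector `x`. -/
noncomputable def quasi (B : V →ₛₗ[σ] V →ₗ[F] F) (x : V) (hx : B x x ≠ 0) (a : Fˣ) : V ≃ₗ[F] V :=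
  LinearEquiv.dilatransvection (f := (((a : F) - 1) / B x x) • B x) (v := x) (by
    have : (1 : F) + ((((a : F) - 1) / B x x) • B x) x = a := by
      rw [LinearMap.smul_apply, smul_eq_mul, div_mul_cancel₀ _ hx]; ring
    rw [this]
    exact a.isUnit)

theorem quasi_apply (x : V) (hx : B x x ≠ 0) (a : Fˣ) (y : V) :
    quasi B x hx a y = y + (((a : F) - 1) / B x x * B x y) • x := by
  rw [quasi, LinearEquiv.dilatransvection.apply]
  rfl

theorem quasi_apply_self (x : V) (hx : B x x ≠ 0) (a : Fˣ) : quasi B x hx a x = (a : F) • x := by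
  rw [quasi_apply, div_mul_cancel₀ _ hx]
  module

theorem quasi_apply_perp (x : V) (hx : B x x ≠ 0) (a : Fˣ) {y : V} (hy : B x y = 0) :
    quasi B x hx a y = y := by
  rw [quasi_apply, hy, mul_zero, zero_smul, add_zero]

namespace IsHerm

variable (h : IsHerm B)
include h

theorem quasi_mem (x : V) (hx : B x x ≠ 0) (a : Fˣ) (ha : (a : F) * σ a = 1) :
    quasi B x hx a ∈ HU B := by
  intro y z
  show B (quasi B x hx a y) (quasi B x hx a z) = B y z
  simp only [quasi_apply, map_add, LinearMap.add_apply, smul_left, smul_right, map_mul, map_div₀,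
    map_sub, map_one, h.self_fixed, h.symm]
  field_simp
  linear_combination (B y x * B x z) * ha

/-- The quasi-reflection as an element of the isometry group. -/
noncomputable def quasiIso (x : V) (hx : B x x ≠ 0) (a : Fˣ) (ha : (a : F) * σ a = 1) : HU B :=
  ⟨quasi B x hx a, h.quasi_mem x hx a ha⟩

theorem det_quasiIso [FiniteDimensional F V] (x : V) (hx : B x x ≠ 0) (a : Fˣ)
    (ha : (a : F) * σ a = 1) : HU.det B (h.quasiIso x hx a ha) = a := by
  ext
  show ((LinearEquiv.det (quasi B x hx a) : Fˣ) : F) = a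
  rw [LinearEquiv.coe_det, quasi, LinearEquiv.dilatransvection.coe_toLinearMap,
    LinearMap.transvection.det, LinearMap.smul_apply, smul_eq_mul, div_mul_cancel₀ _ hx]
  ring

theorem det_norm_one [Finite F] [FiniteDimensional F V] (g : HU B) :
    (HU.det B g : F) * σ (HU.det B g : F) = 1 := by
  classical
  obtain ⟨b, hb⟩ := h.exists_orthonormal_basis rfl
  set M := LinearMap.toMatrix b b ((g : V ≃ₗ[F] V) : V →ₗ[F] V) with hM
  have hdet : (HU.det B g : F) = M.det := by
    show ((LinearEquiv.det (g : V ≃ₗ[F] V) : Fˣ) : F) = _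
    rw [LinearEquiv.coe_det, hM, LinearMap.det_toMatrix]
  have hmul : (M.map σ)ᵀ * M = 1 := by
    ext i j
    rw [Matrix.mul_apply, Matrix.one_apply]
    have h1 : B ((g : V ≃ₗ[F] V) (b i)) ((g : V ≃ₗ[F] V) (b j)) = B (b i) (b j) := g.2 _ _
    rw [hb, apply_eq_sum hb] at h1
    rw [← h1]
    exact Finset.sum_congr rfl fun k _ => by
      simp [hM, LinearMap.toMatrix_apply]
  have h2 := congrArg Matrix.det hmul
  rw [Matrix.det_mul, Matrix.det_transpose, Matrix.det_one] at h2
  rw [hdet, mul_comm]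
  have h3 : σ M.det = (M.map σ).det := RingHom.map_det σ M
  rw [h3]
  exact h2

theorem card_norm_eq_count [Finite F] [FiniteDimensional F V] {n : ℕ}
    (hn : Module.finrank F V = n) (c : F) :
    Nat.card {x : V // B x x = c} = normCount σ n c := by
  obtain ⟨b, hb⟩ := h.exists_orthonormal_basis hn
  refine Nat.card_congr (b.equivFun.toEquiv.subtypeEquiv fun x => ?_)
  rw [apply_eq_sum hb]
  show _ ↔ normVec σ (b.equivFun x) = c
  simp [normVec, mul_comm]

theorem span_preserved (x : V) :
    ∀ g ∈ HU B, (∀ y, y ∈ Submodule.span F {x} ↔ g y ∈ Submodule.span F {x}) →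
      ∀ u ∈ h.perp x, g u ∈ h.perp x := by
  intro g hg hgx u hu
  rw [h.mem_perp] at hu ⊢
  obtain ⟨a, ha⟩ := Submodule.mem_span_singleton.1
    ((hgx (g.symm x)).2 (by simp [Submodule.mem_span_singleton_self]))
  have h1 := hg (g.symm x) u
  simp only [LinearEquiv.apply_symm_apply] at h1
  rw [h1, ← ha, smul_left, hu, mul_zero]

theorem card_HU_succ [Finite F] [FiniteDimensional F V] {n : ℕ}
    (hn : Module.finrank F V = n + 1) {x : V} (hx : B x x = 1) :
    Nat.card (HU B) = normCount σ (n + 1) 1 * Nat.card (HU (restrict B (h.perp x))) := by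
  have : Finite V := Module.finite_of_finite F
  have : Finite (V ≃ₗ[F] V) := Finite.of_injective _ DFunLike.coe_injective
  have hx0 : B x x ≠ 0 := by rw [hx]; exact one_ne_zero
  have hstab : MulAction.stabilizer (HU B) x =
      isoFix F (fun u v => B u v) (Submodule.span F ({x} : Set V) : Set V) := by
    ext g
    rw [MulAction.mem_stabilizer_iff]
    constructor
    · intro hg y hy
      obtain ⟨a, rfl⟩ := Submodule.mem_span_singleton.1 hy
      have hg' : (g : V ≃ₗ[F] V) x = x := hg
      simp [hg']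
    · exact fun hg => hg x (Submodule.mem_span_singleton_self x)
  have horb : MulAction.orbit (HU B) x = {y : V | B y y = 1} := by
    ext y
    constructor
    · rintro ⟨g, rfl⟩
      exact (g.2 x x).trans hx
    · intro hy
      obtain ⟨g, hg⟩ := h.exists_map_of_anisotropic hx0 (hx.trans (Eq.symm hy))
      exact ⟨g, hg⟩
  have key : Nat.card (MulAction.orbit (HU B) x) * Nat.card (MulAction.stabilizer (HU B) x) =
      Nat.card (HU B) := by
    rw [← Nat.card_prod]
    exact Nat.card_congr (MulAction.orbitProdStabilizerEquivGroup _ _)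
  rw [← key, horb, hstab, Set.coe_ofPred, h.card_norm_eq_count hn,
    ← Nat.card_congr (isoFixEquiv (f := fun u v => B u v) (h.isCompl_perp hx0) (h.add_add_apply x)
      (h.span_preserved x)).toEquiv]
  rfl

theorem card_HU [Finite F] [FiniteDimensional F V] (n : ℕ) (hn : Module.finrank F V = n) :
    Nat.card (HU B) = Nat.card (fixedSub σ) ^ (n * (n - 1) / 2) * ∏ i ∈ Finset.range n,
      (if Even i then Nat.card (fixedSub σ) ^ (i + 1) + 1
        else Nat.card (fixedSub σ) ^ (i + 1) - 1) := by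
  have : Fintype F := Fintype.ofFinite F
  induction n generalizing V with
  | zero =>
    have : Subsingleton V := Module.finrank_zero_iff.1 hn
    have : Subsingleton (V ≃ₗ[F] V) := ⟨fun a b => LinearEquiv.ext fun x => Subsingleton.elim _ _⟩
    simp
  | succ n ih =>
    obtain ⟨b, hb⟩ := h.exists_orthonormal_basis hn
    have hx : B (b 0) (b 0) = 1 := by rw [hb, if_pos rfl]
    have hx0 : B (b 0) (b 0) ≠ 0 := by rw [hx]; exact one_ne_zero
    rw [h.card_HU_succ hn hx,
      ih (h.restrict_perp hx0) (by have := h.finrank_perp hx0; omega),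
      normCount_one h.invol, Finset.prod_range_succ]
    have he : (n + 1) * (n + 1 - 1) / 2 = n + n * (n - 1) / 2 := by
      rw [← Finset.sum_range_id, ← Finset.sum_range_id, Finset.sum_range_succ, add_comm]
    rw [he, pow_add]
    split_ifs with h1 h2 h2
    · exact absurd h2 (Nat.even_add_one.1 h1)
    · ring
    · ring
    · exact absurd (Nat.even_add_one.2 h2) h1

theorem det_range [Finite F] [FiniteDimensional F V] [Nontrivial V] :
    Nat.card (HU.det B).range = Nat.card (fixedSub σ) + 1 := by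
  rw [← h.invol.card_norm_fibre one_ne_zero (map_one σ)]
  obtain ⟨y, hy⟩ := exists_ne (0 : V)
  obtain ⟨x, hx⟩ := h.exists_anisotropic hy
  refine Nat.card_congr (Equiv.ofBijective (fun a => (⟨((a : Fˣ) : F), ?_⟩ :
      {z : F // z * σ z = 1})) ⟨?_, ?_⟩)
  · obtain ⟨g, hg⟩ := a.2
    rw [← hg]
    exact h.det_norm_one g
  · intro a b hab
    exact Subtype.ext (Units.ext (congrArg Subtype.val hab))
  · rintro ⟨z, hz⟩
    have hz0 : z ≠ 0 := left_ne_zero_of_mul_eq_one hz
    exact ⟨⟨Units.mk0 z hz0, h.quasiIso x hx (Units.mk0 z hz0) hz,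
      h.det_quasiIso x hx (Units.mk0 z hz0) hz⟩, rfl⟩

theorem card_HSU_mul [Finite F] [FiniteDimensional F V] [Nontrivial V] :
    (Nat.card (fixedSub σ) + 1) * Nat.card (HSU B) = Nat.card (HU B) := by
  have h1 := (HU.det B).ker.card_mul_index
  rw [Subgroup.index_ker, h.det_range] at h1
  rw [← h1, mul_comm]

theorem exists_map_det_one [Finite F] [FiniteDimensional F V] {n : ℕ}
    {b : Module.Basis (Fin n) F V} (hb : ∀ i j, B (b i) (b j) = if i = j then 1 else 0)
    {i j k : Fin n} (hki : k ≠ i) :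
    ∃ g : HSU B, ((g : HU B) : V ≃ₗ[F] V) (b i) = b j := by
  obtain ⟨g, hg⟩ := h.exists_map_of_anisotropic (x := b i) (y := b j)
    (by rw [hb, if_pos rfl]; exact one_ne_zero) (by simp [hb])
  have hk : B (b k) (b k) ≠ 0 := by rw [hb, if_pos rfl]; exact one_ne_zero
  have ha : ((HU.det B g)⁻¹ : Fˣ).val * σ ((HU.det B g)⁻¹ : Fˣ).val = 1 := by
    have := h.det_norm_one g
    rw [Units.val_inv_eq_inv_val, map_inv₀, ← mul_inv, this, inv_one]
  refine ⟨⟨g * h.quasiIso (b k) hk _ ha, ?_⟩, ?_⟩
  · rw [MonoidHom.mem_ker, map_mul, h.det_quasiIso, mul_inv_cancel]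
  · show (g : V ≃ₗ[F] V) (quasi B (b k) hk _ (b i)) = b j
    rw [quasi_apply_perp _ _ _ (by rw [hb, if_neg hki]), hg]

theorem exists_norm_one_ne_one [Finite F] : ∃ a : Fˣ, (a : F) ≠ 1 ∧ (a : F) * σ a = 1 := by
  have hcard := h.invol.card_norm_fibre one_ne_zero (map_one σ)
  have h2 := IsInvol.card_ge_two (σ := σ)
  have : Nontrivial {x : F // x * σ x = 1} := Finite.one_lt_card_iff_nontrivial.1 (by omega)
  obtain ⟨⟨x, hx⟩, hne⟩ := exists_ne (⟨1, by simp⟩ : {x : F // x * σ x = 1})
  exact ⟨Units.mk0 x (left_ne_zero_of_mul_eq_one hx), fun h1 => hne (Subtype.ext h1), hx⟩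

theorem mem_center_HSU_iff [Finite F] [FiniteDimensional F V] (h3 : 3 ≤ Module.finrank F V)
    {g : HSU B} :
    g ∈ Subgroup.center (HSU B) ↔ ∃ a : F, ∀ v, ((g : HU B) : V ≃ₗ[F] V) v = a • v := by
  refine ⟨fun hg => ?_, ?_⟩
  · obtain ⟨b, hb⟩ := h.exists_orthonormal_basis rfl
    have hbb : ∀ i, B (b i) (b i) ≠ 0 := fun i => by rw [hb, if_pos rfl]; exact one_ne_zero
    obtain ⟨a, ha1, ha⟩ := h.exists_norm_one_ne_one
    have third : ∀ i j : Fin (Module.finrank F V), ∃ k, k ≠ i ∧ k ≠ j := by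
      intro i j
      by_contra hc
      push Not at hc
      have hsub : (Finset.univ : Finset (Fin (Module.finrank F V))) ⊆ {i, j} := fun k _ => by
        rcases eq_or_ne k i with hk | hk
        · simp [hk]
        · simp [hc k hk]
      have h1 := Finset.card_le_card hsub
      rw [Finset.card_univ, Fintype.card_fin] at h1
      have h2 : ({i, j} : Finset (Fin (Module.finrank F V))).card ≤ 2 := Finset.card_le_two
      omega
    set f := ((g : HU B) : V ≃ₗ[F] V) with hf
    have hcomm : ∀ (k : HSU B) (v : V),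
        f (((k : HU B) : V ≃ₗ[F] V) v) = ((k : HU B) : V ≃ₗ[F] V) (f v) := by
      intro k v
      have h1 := Subgroup.mem_center_iff.1 hg k
      exact (congrArg (fun t : HSU B => ((t : HU B) : V ≃ₗ[F] V) v) h1).symm
    have heig : ∀ i, f (b i) = B (b i) (f (b i)) • b i := by
      intro i
      have hcoef : ∀ j, j ≠ i → B (b j) (f (b i)) = 0 := by
        intro j hji
        obtain ⟨m, hmj, hmi⟩ := third j i
        have ha' : ((a⁻¹ : Fˣ) : F) * σ ((a⁻¹ : Fˣ) : F) = 1 := by
          rw [Units.val_inv_eq_inv_val, map_inv₀, ← mul_inv, ha, inv_one]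
        let d : HSU B := ⟨h.quasiIso (b j) (hbb j) a ha * h.quasiIso (b m) (hbb m) a⁻¹ ha', by
          rw [MonoidHom.mem_ker, map_mul, h.det_quasiIso, h.det_quasiIso, mul_inv_cancel]⟩
        have hd : ((d : HU B) : V ≃ₗ[F] V) (b i) = b i := by
          show quasi B (b j) (hbb j) a (quasi B (b m) (hbb m) a⁻¹ (b i)) = b i
          rw [quasi_apply_perp (b m) (hbb m) a⁻¹ (by rw [hb, if_neg hmi]),
            quasi_apply_perp (b j) (hbb j) a (by rw [hb, if_neg hji])]
        have hdj : ((d : HU B) : V ≃ₗ[F] V) (b j) = (a : F) • b j := by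
          show quasi B (b j) (hbb j) a (quasi B (b m) (hbb m) a⁻¹ (b j)) = _
          rw [quasi_apply_perp (b m) (hbb m) a⁻¹ (by rw [hb, if_neg hmj]), quasi_apply_self]
        have h1 := hcomm d (b i)
        rw [hd] at h1
        have h2 := HU.map_eq (d : HU B) (b j) (f (b i))
        rw [hdj, ← h1, smul_left] at h2
        have h4 : (σ (a : F) - 1) * B (b j) (f (b i)) = 0 := by
          linear_combination h2
        refine (mul_eq_zero.1 h4).resolve_left fun hc => ha1 ?_
        rw [sub_eq_zero] at hc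
        rwa [hc, mul_one] at ha
      refine sub_eq_zero.1 (h.nondeg _ fun w => ?_)
      rw [← b.sum_repr w, map_sum]
      refine Finset.sum_eq_zero fun j _ => ?_
      rw [smul_right, sub_left, smul_left, hb]
      by_cases hji : i = j
      · subst hji
        rw [if_pos rfl, mul_one, h.symm, sub_self, mul_zero]
      · rw [if_neg hji, mul_zero, sub_zero, h.eq_zero_symm (hcoef j (Ne.symm hji)), mul_zero]
    let i₀ : Fin (Module.finrank F V) := ⟨0, by omega⟩
    have heq : ∀ i, B (b i) (f (b i)) = B (b i₀) (f (b i₀)) := by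
      intro i
      obtain ⟨k, hk, -⟩ := third i₀ i₀
      obtain ⟨s, hs⟩ := h.exists_map_det_one hb (i := i₀) (j := i) hk
      have h1 := hcomm s (b i₀)
      rw [hs, heig i, heig i₀, map_smul, hs] at h1
      have h2 := congrArg (B (b i)) h1
      simpa [smul_right, hb] using h2
    refine ⟨B (b i₀) (f (b i₀)), fun v => ?_⟩
    have hlin : ((f : V →ₗ[F] V)) = B (b i₀) (f (b i₀)) • LinearMap.id := by
      refine b.ext fun i => ?_
      rw [LinearMap.smul_apply, LinearMap.id_apply, ← heq i]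
      exact heig i
    exact LinearMap.congr_fun hlin v
  · rintro ⟨a, ha⟩
    refine Subgroup.mem_center_iff.2 fun k => ?_
    ext v
    simp [ha]

theorem card_center_HSU [Finite F] [FiniteDimensional F V] (h3 : 3 ≤ Module.finrank F V) :
    Nat.card (Subgroup.center (HSU B)) =
      Nat.gcd (Module.finrank F V) (Nat.card (fixedSub σ) + 1) := by
  have : Fintype F := Fintype.ofFinite F
  have : Nontrivial V := Module.nontrivial_of_finrank_pos (R := F) (by omega)
  obtain ⟨u, hu⟩ := exists_ne (0 : V)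
  obtain ⟨x, hx⟩ := h.exists_anisotropic hu
  have hx0 : x ≠ 0 := fun hx0 => hx (by rw [hx0]; exact zero_left _)
  set n := Module.finrank F V with hn
  set Q := Nat.card (fixedSub σ) with hQ
  have hFc : Fintype.card F - 1 = (Q + 1) * (Q - 1) := by
    rw [← Nat.card_eq_fintype_card, h.invol.card_sq, ← hQ, ← Nat.sq_sub_sq, one_pow]
  have hgcd : Nat.gcd n (Q + 1) = Nat.card (rootsOfUnity (Nat.gcd n (Q + 1)) F) := by
    rw [card_rootsOfUnity_field, hFc, Nat.gcd_eq_left ((Nat.gcd_dvd_right _ _).mul_right _)]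
  have hnorm : ∀ z : F, z * σ z = z ^ (Q + 1) := fun z => by
    rw [h.invol.apply_eq_pow, ← hQ, pow_succ']
  have hdet : ∀ (g : HU B) (a : F), (∀ v, (g : V ≃ₗ[F] V) v = a • v) →
      (HU.det B g : F) = a ^ n := by
    intro g a ha
    show ((LinearEquiv.det (g : V ≃ₗ[F] V) : Fˣ) : F) = _
    rw [LinearEquiv.coe_det,
      show ((g : V ≃ₗ[F] V) : V →ₗ[F] V) = a • LinearMap.id from LinearMap.ext ha,
      LinearMap.det_smul, LinearMap.det_id, mul_one]
  have hroot : ∀ a : rootsOfUnity (Nat.gcd n (Q + 1)) F,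
      ((a : Fˣ) : F) ^ (Q + 1) = 1 ∧ ((a : Fˣ) : F) ^ n = 1 := by
    intro a
    obtain ⟨h1, h2⟩ := (pow_gcd_eq_one (a := (a : Fˣ)) (m := n) (n := Q + 1)).1
      ((mem_rootsOfUnity _ _).1 a.2)
    exact ⟨by rw [← Units.val_pow_eq_pow_val, h2, Units.val_one],
      by rw [← Units.val_pow_eq_pow_val, h1, Units.val_one]⟩
  have hmem : ∀ a : rootsOfUnity (Nat.gcd n (Q + 1)) F,
      LinearEquiv.smulOfUnit (a : Fˣ) ∈ HU B := fun a y z => by
    show B (((a : Fˣ) : F) • y) (((a : Fˣ) : F) • z) = B y z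
    rw [smul_left, smul_right, ← mul_assoc, mul_comm (σ _), hnorm, (hroot a).1, one_mul]
  rw [hgcd]
  refine (Nat.card_congr (Equiv.ofBijective
    (fun a => (⟨⟨⟨_, hmem a⟩, Units.ext (by
      rw [hdet _ _ (fun v => rfl), (hroot a).2, Units.val_one])⟩,
      (h.mem_center_HSU_iff (by omega)).2 ⟨_, fun v => rfl⟩⟩ : Subgroup.center (HSU B)))
    ⟨fun a c hac => ?_, fun g => ?_⟩)).symm
  · have := congrArg (fun t : Subgroup.center (HSU B) =>
      (((t : HSU B) : HU B) : V ≃ₗ[F] V) x) hac
    exact Subtype.ext (Units.ext (smul_left_injective F hx0 this))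
  · obtain ⟨a, ha⟩ := (h.mem_center_HSU_iff (by omega)).1 g.2
    have h1 : B ((((g : HSU B) : HU B) : V ≃ₗ[F] V) x) ((((g : HSU B) : HU B) : V ≃ₗ[F] V) x) =
        B x x := ((g : HSU B) : HU B).2 x x
    rw [ha, smul_self, hnorm] at h1
    have haQ : a ^ (Q + 1) = 1 := mul_right_cancel₀ hx (by rw [h1, one_mul])
    have han : a ^ n = 1 := by
      rw [← hdet _ _ ha]
      exact congrArg Units.val (MonoidHom.mem_ker.1 (g : HSU B).2)
    have ha0 : a ≠ 0 := by rintro rfl; simp at haQ
    refine ⟨⟨Units.mk0 a ha0, (mem_rootsOfUnity _ _).2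
      ((pow_gcd_eq_one (a := Units.mk0 a ha0)).2 ⟨Units.ext han, Units.ext haQ⟩)⟩, ?_⟩
    ext v
    exact (ha v).symm

end IsHerm

end CfsgLib.Classical.Herm
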