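import Cfsg.Agent.Lib.Classical.Unitary.MatrixStructure
import Cfsg.Agent.Lib.Classical.SL2Sylow

/-!
`SU_2(q) ≅ SL_2(q)` and the orders of the projective special unitary groups.
-/

set_option autoImplicit false

namespace CfsgLib.Classical.Herm

open scoped MatrixGroups

variable {F : Type*} [Field F] {V : Type*} [AddCommGroup V] [Module F V] {σ : F →+* F}
  {B : V →ₛₗ[σ] V →ₗ[F] F}

/-- The two by two matrices over the fixed field, acting in a skew hyperbolic basis. -/
noncomputable def ofSL2 (σ : F →+* F) (b : Module.Basis (Fin 2) F V) :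
    Matrix (Fin 2) (Fin 2) (fixedSub σ) →* Module.End F V :=
  ((Matrix.toLinAlgEquiv b).toMulEquiv.toMonoidHom).comp
    ((fixedSub σ).subtype.mapMatrix).toMonoidHom

theorem ofSL2_apply (b : Module.Basis (Fin 2) F V) (M : Matrix (Fin 2) (Fin 2) (fixedSub σ))
    (j : Fin 2) : ofSL2 σ b M (b j) = (M 0 j : F) • b 0 + (M 1 j : F) • b 1 := by
  show Matrix.toLinAlgEquiv b ((fixedSub σ).subtype.mapMatrix M) (b j) = _
  rw [Matrix.toLinAlgEquiv_self, Fin.sum_univ_two]
  rfl

namespace IsHerm

variable (h : IsHerm B)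
include h

theorem exists_skew_basis [Finite F] [FiniteDimensional F V] (h2 : Module.finrank F V = 2) :
    ∃ (b : Module.Basis (Fin 2) F V) (θ : F), θ ≠ 0 ∧ θ + σ θ = 0 ∧ B (b 0) (b 0) = 0 ∧
      B (b 1) (b 1) = 0 ∧ B (b 0) (b 1) = θ := by
  obtain ⟨u, hu0, huu⟩ := h.exists_isotropic (by omega)
  obtain ⟨f, huf, hff⟩ := h.exists_isotropic_partner hu0 huu
  obtain ⟨θ, hθ0, hθ⟩ := h.exists_skew
  let b : Module.Basis (Fin 2) F V :=
    (basisOfLinearIndependentOfCardEqFinrank (h.linearIndependent_hyperbolic huu hff huf)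
      (by simp [h2])).unitsSMul ![1, Units.mk0 θ hθ0]
  have hb : ∀ i, b i = ((![1, Units.mk0 θ hθ0] : Fin 2 → Fˣ) i : F) • ![u, f] i := fun i => by
    simp [b, Module.Basis.unitsSMul_apply, Units.smul_def]
  refine ⟨b, θ, hθ0, hθ, ?_, ?_, ?_⟩
  · rw [hb]; simp [huu]
  · rw [hb]; simp [smul_left, hff]
  · rw [hb, hb]; simp [huf]

theorem ofSL2_preserves [Finite F] {b : Module.Basis (Fin 2) F V} {θ : F} (hθ : θ + σ θ = 0)
    (h00 : B (b 0) (b 0) = 0) (h11 : B (b 1) (b 1) = 0) (h01 : B (b 0) (b 1) = θ)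
    {M : Matrix (Fin 2) (Fin 2) (fixedSub σ)} (hM : M.det = 1) (y z : V) :
    B (ofSL2 σ b M y) (ofSL2 σ b M z) = B y z := by
  have h10 : B (b 1) (b 0) = -θ := by
    rw [← h.symm, h01]; exact eq_neg_of_add_eq_zero_right hθ
  have hfix : ∀ i j, σ (M i j : F) = M i j := fun i j => mem_fixedSub.1 (M i j).2
  have hdet : (M 0 0 : F) * M 1 1 - (M 0 1 : F) * M 1 0 = 1 := by
    rw [Matrix.det_fin_two] at hM
    have := congrArg (fun t : fixedSub σ => (t : F)) hM
    simpa using this
  rw [← b.sum_repr y, ← b.sum_repr z, Fin.sum_univ_two, Fin.sum_univ_two]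
  simp only [map_add, map_smul, ofSL2_apply, LinearMap.add_apply, smul_left, smul_right, h00,
    h11, h01, h10, map_mul, hfix]
  linear_combination (θ * (σ (b.repr y 0) * b.repr z 1 - σ (b.repr y 1) * b.repr z 0)) * hdet

theorem exists_sl2_equiv [Finite F] [FiniteDimensional F V] (h2 : Module.finrank F V = 2) :
    Nonempty (SL(2, fixedSub σ) ≃* HSU B) := by
  obtain ⟨b, θ, hθ0, hθ, h00, h11, h01⟩ := h.exists_skew_basis h2
  let φ : SL(2, fixedSub σ) →* HU B :=
    { toFun := fun M => h.ofPreserves (ofSL2 σ b (M : Matrix (Fin 2) (Fin 2) (fixedSub σ)))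
        (h.ofSL2_preserves hθ h00 h11 h01 M.2)
      map_one' := Subtype.ext (LinearEquiv.ext fun y => by
        rw [ofPreserves_apply, Matrix.SpecialLinearGroup.coe_one, map_one]
        rfl)
      map_mul' := fun M N => Subtype.ext (LinearEquiv.ext fun y => by
        rw [ofPreserves_apply, Matrix.SpecialLinearGroup.coe_mul, map_mul]
        rfl) }
  have hdet : ∀ M, φ M ∈ HSU B := fun M => by
    rw [MonoidHom.mem_ker]
    ext
    show ((LinearEquiv.det (φ M : V ≃ₗ[F] V) : Fˣ) : F) = 1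
    rw [LinearEquiv.coe_det]
    show LinearMap.det (ofSL2 σ b (M : Matrix (Fin 2) (Fin 2) (fixedSub σ))) = 1
    rw [ofSL2, MonoidHom.comp_apply]
    show LinearMap.det (Matrix.toLin b b _) = 1
    rw [LinearMap.det_toLin]
    show ((fixedSub σ).subtype.mapMatrix (M : Matrix (Fin 2) (Fin 2) (fixedSub σ))).det = 1
    rw [← RingHom.map_det, M.2, map_one]
  have hinj : Function.Injective (φ.codRestrict (HSU B) hdet) := by
    intro M N hMN
    have hl : ofSL2 σ b (M : Matrix (Fin 2) (Fin 2) (fixedSub σ)) = ofSL2 σ b N :=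
      LinearMap.ext fun y =>
        LinearEquiv.congr_fun (congrArg (fun g : HSU B => ((g : HU B) : V ≃ₗ[F] V)) hMN) y
    have := (Matrix.toLinAlgEquiv b).injective hl
    exact Subtype.ext (Matrix.map_injective Subtype.val_injective this)
  have : Fintype F := Fintype.ofFinite F
  have : Fintype (fixedSub σ) := Fintype.ofFinite _
  have : Finite (V ≃ₗ[F] V) := by
    have : Finite V := Module.finite_of_finite F
    exact Finite.of_injective _ DFunLike.coe_injective
  have : Nontrivial V := Module.nontrivial_of_finrank_pos (R := F) (by omega)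
  refine ⟨MulEquiv.ofBijective _ ((Nat.bijective_iff_injective_and_card _).2 ⟨hinj, ?_⟩)⟩
  have h1 := h.card_HSU_mul
  rw [h.card_HU 2 h2] at h1
  simp only [Finset.prod_range_succ, Finset.prod_range_zero, one_mul, Nat.reduceAdd, if_pos,
    Even.zero, pow_one, Nat.not_even_one, if_false] at h1
  rw [CfsgLib.Classical.Two.card_SL_two, ← Nat.card_eq_fintype_card]
  refine Nat.eq_of_mul_eq_mul_left (Nat.succ_pos (Nat.card (fixedSub σ))) ?_
  rw [Nat.succ_eq_add_one, h1]
  ring

end IsHerm

theorem nonempty_su_two_equiv {F K : Type*} [Field F] [Fintype F] [Field K] [Fintype K] {q : ℕ}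
    (hF : Fintype.card F = q ^ 2) (hK : Fintype.card K = q) :
    Nonempty (Cfsg.SU 2 F q ≃* SL(2, K)) := by
  classical
  obtain ⟨e⟩ := (hermStd_isHerm (n := 2) hF).exists_sl2_equiv finrank_std
  have hc : Fintype.card (fixedSub (powHom hF)) = Fintype.card K :=
    Nat.card_eq_fintype_card.symm.trans ((card_fixed_powHom hF).trans hK.symm)
  let r := FiniteField.ringEquivOfCardEq hc
  let m : SL(2, fixedSub (powHom hF)) ≃* SL(2, K) :=
    MonoidHom.toMulEquiv (Matrix.SpecialLinearGroup.map r.toRingHom)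
      (Matrix.SpecialLinearGroup.map r.symm.toRingHom)
      (MonoidHom.ext fun A => Subtype.ext (Matrix.ext fun i j => r.symm_apply_apply _))
      (MonoidHom.ext fun A => Subtype.ext (Matrix.ext fun i j => r.apply_symm_apply _))
  exact ⟨((suEquiv 2 hF).trans e.symm).trans m⟩

theorem card_center_SU_two {F : Type*} [Field F] [Fintype F] {q : ℕ}
    (hF : Fintype.card F = q ^ 2) :
    Nat.card (Subgroup.center (Cfsg.SU 2 F q)) = Nat.gcd 2 (q + 1) := by
  classical
  obtain ⟨e⟩ := (hermStd_isHerm (n := 2) hF).exists_sl2_equiv finrank_std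
  rw [Nat.card_congr (Subgroup.centerCongr ((suEquiv 2 hF).trans e.symm)).toEquiv,
    card_center_SL, Fintype.card_fin, ← Nat.card_eq_fintype_card, card_fixed_powHom hF]
  have := two_le_of_card_sq hF
  conv_rhs => rw [show q + 1 = (q - 1) + 2 by omega, Nat.gcd_add_self_right]

theorem card_center_SU' {F : Type*} [Field F] [Fintype F] {q : ℕ} (hF : Fintype.card F = q ^ 2)
    (n : ℕ) (hn : 2 ≤ n) : Nat.card (Subgroup.center (Cfsg.SU n F q)) = Nat.gcd n (q + 1) := by
  rcases (Nat.eq_or_lt_of_le hn) with h2 | h3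
  · subst h2; exact card_center_SU_two hF
  · exact card_center_SU hF n h3

theorem card_PSU {F : Type*} [Field F] [Fintype F] {q : ℕ} (hF : Fintype.card F = q ^ 2) (n : ℕ)
    (hn : 2 ≤ n) : Nat.gcd n (q + 1) * ((q + 1) * Nat.card (Cfsg.PSU n F q)) =
      q ^ (n * (n - 1) / 2) *
        ∏ i ∈ Finset.range n, (if Even i then q ^ (i + 1) + 1 else q ^ (i + 1) - 1) := by
  rw [← card_SU hF n (by omega), ← card_center_SU' hF n hn,
    (Subgroup.center (Cfsg.SU n F q)).card_eq_card_quotient_mul_card_subgroup]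
  ring

end CfsgLib.Classical.Herm
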