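import Cfsg.Prelude.Def_LieClassical
import Cfsg.Prelude.Def_ClassicalGeometry
import Cfsg.Agent.Lib.Classical.Unitary.Order

/-!
`GU`, `SU` and `PSU` of the standard Hermitian form as groups of isometries.
-/

set_option autoImplicit false

namespace CfsgLib.Classical.Herm

open scoped Matrix

variable {n : ℕ} {F : Type*} [Field F] [Fintype F] {q : ℕ}

/-- The standard Hermitian form, semilinear in the first variable. -/
noncomputable def hermStd (n : ℕ) (hF : Fintype.card F = q ^ 2) :
    (Fin n → F) →ₛₗ[powHom hF] (Fin n → F) →ₗ[F] F :=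
  LinearMap.mk₂'ₛₗ (powHom hF) (RingHom.id F) (fun x y => Cfsg.hermForm n F q y x)
    (fun x x' y => by
      simp only [Cfsg.hermForm, ← Finset.sum_add_distrib, Pi.add_apply, ← powHom_apply hF, map_add,
        mul_add])
    (fun a x y => by
      simp only [Cfsg.hermForm, Pi.smul_apply, smul_eq_mul, Finset.mul_sum, mul_pow, powHom_apply]
      exact Finset.sum_congr rfl fun i _ => by ring)
    (fun x y y' => by
      simp only [Cfsg.hermForm, ← Finset.sum_add_distrib, Pi.add_apply, add_mul])
    (fun a x y => by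
      simp only [Cfsg.hermForm, Pi.smul_apply, smul_eq_mul, Finset.mul_sum, RingHom.id_apply,
        mul_assoc])

theorem hermStd_apply (hF : Fintype.card F = q ^ 2) (x y : Fin n → F) :
    hermStd n hF x y = Cfsg.hermForm n F q y x := rfl

theorem hermStd_isHerm (hF : Fintype.card F = q ^ 2) : IsHerm (hermStd n hF) where
  invol := powHom_isInvol hF
  symm x y := by
    simp only [hermStd_apply, Cfsg.hermForm, map_sum]
    refine Finset.sum_congr rfl fun i _ => ?_
    rw [map_mul, ← powHom_apply hF (x i), (powHom_isInvol hF).invol, powHom_apply, mul_comm]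
  nondeg x hx := by
    funext i
    have h := hx (Pi.single i 1)
    have hq : q ≠ 0 := by have := two_le_of_card_sq hF; omega
    rw [hermStd_apply, Cfsg.hermForm, Finset.sum_eq_single i (fun j _ hj => by simp [hj])
      (by simp)] at h
    simpa [hq] using h

omit [Fintype F] in
theorem finrank_std : Module.finrank F (Fin n → F) = n := Module.finrank_fin_fun F

theorem iso_hermForm_eq (hF : Fintype.card F = q ^ 2) :
    Iso F (Cfsg.hermForm n F q) = HU (hermStd n hF) := by
  ext g
  exact ⟨fun h u v => h v u, fun h u v => h v u⟩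

/-- `GU` as an isometry group. -/
noncomputable def guEquiv (n : ℕ) (hF : Fintype.card F = q ^ 2) :
    Cfsg.GU n F q ≃* HU (hermStd n hF) :=
  (preservingEquivIso (Cfsg.hermForm n F q)).trans (MulEquiv.subgroupCongr (iso_hermForm_eq hF))

theorem guEquiv_apply (hF : Fintype.card F = q ^ 2) (g : Cfsg.GU n F q) (v : Fin n → F) :
    (guEquiv n hF g : (Fin n → F) ≃ₗ[F] (Fin n → F)) v =
      ((g : Matrix.GeneralLinearGroup (Fin n) F) : Matrix (Fin n) (Fin n) F) *ᵥ v := rfl

theorem guEquiv_det (hF : Fintype.card F = q ^ 2) (g : Cfsg.GU n F q) :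
    (HU.det (hermStd n hF) (guEquiv n hF g) : F) =
      ((g : Matrix.GeneralLinearGroup (Fin n) F) : Matrix (Fin n) (Fin n) F).det := by
  show ((LinearEquiv.det ((guEquiv n hF g : (Fin n → F) ≃ₗ[F] (Fin n → F))) : Fˣ) : F) = _
  rw [LinearEquiv.coe_det,
    show ((guEquiv n hF g : (Fin n → F) ≃ₗ[F] (Fin n → F)) : (Fin n → F) →ₗ[F] (Fin n → F)) =
      Matrix.toLin' ((g : Matrix.GeneralLinearGroup (Fin n) F) : Matrix (Fin n) (Fin n) F) from
      LinearMap.ext fun v => rfl,
    LinearMap.det_toLin']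

omit [Fintype F] in
theorem toGL_mem_GU (g : Cfsg.SU n F q) :
    Matrix.SpecialLinearGroup.toGL (g : Matrix.SpecialLinearGroup (Fin n) F) ∈ Cfsg.GU n F q :=
  g.2

/-- The inclusion of `SU` in `GU`. -/
def suToGU (n : ℕ) (F : Type*) [Field F] (q : ℕ) : Cfsg.SU n F q →* Cfsg.GU n F q :=
  (Matrix.SpecialLinearGroup.toGL.comp (Cfsg.SU n F q).subtype).codRestrict _ fun g => g.2

/-- `SU` as the determinant-one isometries. -/
noncomputable def suEquiv (n : ℕ) (hF : Fintype.card F = q ^ 2) :
    Cfsg.SU n F q ≃* HSU (hermStd n hF) :=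
  MulEquiv.ofBijective
    (((guEquiv n hF).toMonoidHom.comp (suToGU n F q)).codRestrict _ fun g => by
      rw [MonoidHom.mem_ker]
      ext
      exact (guEquiv_det hF (suToGU n F q g)).trans
        (g : Matrix.SpecialLinearGroup (Fin n) F).det_coe)
    ⟨fun a b hab => by
      have h1 : suToGU n F q a = suToGU n F q b :=
        (guEquiv n hF).injective (congrArg Subtype.val hab)
      exact Subtype.ext (Matrix.SpecialLinearGroup.toGL_injective (congrArg Subtype.val h1)),
    fun x => by
      obtain ⟨g, hg⟩ := (guEquiv n hF).surjective (x : HU (hermStd n hF))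
      have hdet : ((g : Matrix.GeneralLinearGroup (Fin n) F) :
          Matrix (Fin n) (Fin n) F).det = 1 := by
        rw [← guEquiv_det hF g, hg, MonoidHom.mem_ker.1 x.2, Units.val_one]
      refine ⟨⟨⟨_, hdet⟩, fun u v => g.2 u v⟩, Subtype.ext ?_⟩
      show guEquiv n hF _ = _
      rw [← hg]
      congr 1
      exact Subtype.ext (Units.ext rfl)⟩

theorem suEquiv_apply (hF : Fintype.card F = q ^ 2) (g : Cfsg.SU n F q) (v : Fin n → F) :
    ((suEquiv n hF g : HU (hermStd n hF)) : (Fin n → F) ≃ₗ[F] (Fin n → F)) v =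
      ((g : Matrix.SpecialLinearGroup (Fin n) F) : Matrix (Fin n) (Fin n) F) *ᵥ v := rfl

theorem card_GU (hF : Fintype.card F = q ^ 2) (n : ℕ) :
    Nat.card (Cfsg.GU n F q) = q ^ (n * (n - 1) / 2) *
      ∏ i ∈ Finset.range n, (if Even i then q ^ (i + 1) + 1 else q ^ (i + 1) - 1) := by
  rw [Nat.card_congr (guEquiv n hF).toEquiv, (hermStd_isHerm hF).card_HU n finrank_std,
    card_fixed_powHom hF]

theorem card_SU (hF : Fintype.card F = q ^ 2) (n : ℕ) (hn : 1 ≤ n) :
    (q + 1) * Nat.card (Cfsg.SU n F q) = q ^ (n * (n - 1) / 2) *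
      ∏ i ∈ Finset.range n, (if Even i then q ^ (i + 1) + 1 else q ^ (i + 1) - 1) := by
  have : Nonempty (Fin n) := ⟨⟨0, hn⟩⟩
  have h := (hermStd_isHerm (n := n) hF).card_HSU_mul
  rw [← Nat.card_congr (suEquiv n hF).toEquiv, card_fixed_powHom hF,
    (hermStd_isHerm hF).card_HU n finrank_std, card_fixed_powHom hF] at h
  exact h

theorem card_center_SU (hF : Fintype.card F = q ^ 2) (n : ℕ) (hn : 3 ≤ n) :
    Nat.card (Subgroup.center (Cfsg.SU n F q)) = Nat.gcd n (q + 1) := by
  rw [Nat.card_congr (Subgroup.centerCongr (suEquiv n hF)).toEquiv,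
    (hermStd_isHerm hF).card_center_HSU (by rw [finrank_std]; exact hn), finrank_std,
    card_fixed_powHom hF]

theorem unitaryTransvection_mulVec (hF : Fintype.card F = q ^ 2) (v : Fin n → F) (c : F)
    (x : Fin n → F) :
    (Cfsg.unitaryTransvection n q v c) *ᵥ x = x + (c * hermStd n hF v x) • v := by
  rw [Cfsg.unitaryTransvection, Matrix.add_mulVec, Matrix.one_mulVec, Matrix.smul_mulVec,
    Matrix.vecMulVec_mulVec, op_smul_eq_smul, smul_smul, hermStd_apply, Cfsg.hermForm,
    dotProduct]
  simp [mul_comm (x _)]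

theorem card_hermForm_norm (hF : Fintype.card F = q ^ 2) (n : ℕ) (c : F) :
    Nat.card {v : Fin n → F // Cfsg.hermForm n F q v v = c} = normCount (powHom hF) n c :=
  rfl

end CfsgLib.Classical.Herm
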