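import Cfsg.Agent.Lib.Classical.Unitary.Order

/-!
Unitary transvections, Eichler transformations, and generation of the special unitary group.
-/

set_option autoImplicit false

namespace CfsgLib.Classical.Herm

open scoped commutatorElement

variable {F : Type*} [Field F] {V : Type*} [AddCommGroup V] [Module F V] {σ : F →+* F}
  {B : V →ₛₗ[σ] V →ₗ[F] F}

/-- The transvection map `y ↦ y + c B(u, y) u`. -/
def trMap (B : V →ₛₗ[σ] V →ₗ[F] F) (u : V) (c : F) : V →ₗ[F] V :=
  LinearMap.id + c • (B u).smulRight u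

theorem trMap_apply (u : V) (c : F) (y : V) : trMap B u c y = y + (c * B u y) • u := by
  simp [trMap, smul_smul]

/-- The Eichler map `y ↦ y + B(u,y) x + (a B(u,y) - B(x,y)) u`. -/
def eichMap (B : V →ₛₗ[σ] V →ₗ[F] F) (u x : V) (a : F) : V →ₗ[F] V :=
  LinearMap.id + (B u).smulRight x + (a • B u - B x).smulRight u

theorem eichMap_apply (u x : V) (a : F) (y : V) :
    eichMap B u x a y = y + B u y • x + (a * B u y - B x y) • u := by
  simp [eichMap]

namespace IsHerm

variable (h : IsHerm B)
include h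

theorem trMap_preserves {u : V} (hu : B u u = 0) {c : F} (hc : c + σ c = 0) (y z : V) :
    B (trMap B u c y) (trMap B u c z) = B y z := by
  simp only [trMap_apply, map_add, LinearMap.add_apply, smul_left, smul_right, hu, map_mul,
    h.symm]
  linear_combination (B u z * B y u) * hc

theorem injective_of_preserves (f : V →ₗ[F] V) (hf : ∀ y z, B (f y) (f z) = B y z) :
    Function.Injective f := by
  rw [injective_iff_map_eq_zero]
  intro y hy
  refine h.nondeg y fun z => ?_
  rw [← hf y z, hy, zero_left]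

/-- A form-preserving linear map as an isometry. -/
noncomputable def ofPreserves [FiniteDimensional F V] (f : V →ₗ[F] V)
    (hf : ∀ y z, B (f y) (f z) = B y z) : HU B :=
  ⟨LinearEquiv.ofInjectiveEndo f (h.injective_of_preserves f hf), fun y z => hf y z⟩

@[simp] theorem ofPreserves_apply [FiniteDimensional F V] (f : V →ₗ[F] V)
    (hf : ∀ y z, B (f y) (f z) = B y z) (y : V) :
    (h.ofPreserves f hf : V ≃ₗ[F] V) y = f y := rfl

theorem coe_ofPreserves [FiniteDimensional F V] (f : V →ₗ[F] V)
    (hf : ∀ y z, B (f y) (f z) = B y z) :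
    ((h.ofPreserves f hf : V ≃ₗ[F] V) : V →ₗ[F] V) = f := rfl

variable [FiniteDimensional F V]

/-- The unitary transvection. -/
noncomputable def tr {u : V} (hu : B u u = 0) {c : F} (hc : c + σ c = 0) : HU B :=
  h.ofPreserves (trMap B u c) (h.trMap_preserves hu hc)

theorem tr_apply {u : V} (hu : B u u = 0) {c : F} (hc : c + σ c = 0) (y : V) :
    (h.tr hu hc : V ≃ₗ[F] V) y = y + (c * B u y) • u :=
  trMap_apply u c y

theorem tr_fix {u : V} (hu : B u u = 0) {c : F} (hc : c + σ c = 0) {y : V} (hy : B u y = 0) :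
    (h.tr hu hc : V ≃ₗ[F] V) y = y := by
  rw [tr_apply, hy, mul_zero, zero_smul, add_zero]

theorem det_tr {u : V} (hu : B u u = 0) {c : F} (hc : c + σ c = 0) :
    HU.det B (h.tr hu hc) = 1 := by
  ext
  show ((LinearEquiv.det (h.tr hu hc : V ≃ₗ[F] V) : Fˣ) : F) = 1
  have h2 : trMap B u c = LinearMap.transvection (c • B u) u := LinearMap.ext fun y => by
    rw [trMap_apply, LinearMap.transvection.apply, LinearMap.smul_apply, smul_eq_mul]
  rw [LinearEquiv.coe_det, tr, coe_ofPreserves, h2, LinearMap.transvection.det,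
    LinearMap.smul_apply, smul_eq_mul, hu, mul_zero, add_zero]

theorem conj_tr {u : V} (hu : B u u = 0) {c : F} (hc : c + σ c = 0) (g : HU B) :
    g * h.tr hu hc * g⁻¹ =
      h.tr (u := (g : V ≃ₗ[F] V) u) ((HU.map_eq g u u).trans hu) hc := by
  rw [mul_inv_eq_iff_eq_mul]
  ext y
  simp only [Subgroup.coe_mul, LinearEquiv.mul_apply, tr_apply, HU.map_eq, map_add,
    LinearEquiv.map_smul]

/-- The subgroup generated by the unitary transvections. -/
noncomputable def trGroup : Subgroup (HU B) :=
  Subgroup.closure {g | ∃ (u : V) (hu : B u u = 0) (c : F) (hc : c + σ c = 0), g = h.tr hu hc}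

theorem tr_mem {u : V} (hu : B u u = 0) {c : F} (hc : c + σ c = 0) : h.tr hu hc ∈ h.trGroup :=
  Subgroup.subset_closure ⟨u, hu, c, hc, rfl⟩

theorem trGroup_le : h.trGroup ≤ HSU B := by
  rw [trGroup, Subgroup.closure_le]
  rintro _ ⟨u, hu, c, hc, rfl⟩
  exact h.det_tr hu hc

theorem exists_skew : ∃ θ : F, θ ≠ 0 ∧ θ + σ θ = 0 := by
  obtain ⟨θ, h0, h1⟩ := h.invol.exists_skew
  exact ⟨θ, h0, by rw [h1, add_neg_cancel]⟩

theorem exists_isotropic_partner {u : V} (hu : u ≠ 0) (huu : B u u = 0) :
    ∃ f, B u f = 1 ∧ B f f = 0 := by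
  obtain ⟨f, hf⟩ := h.exists_apply_eq_one hu
  obtain ⟨t, ht⟩ := h.invol.exists_trace_eq (μ := -B f f) (by rw [map_neg, h.self_fixed])
  have hfu : B f u = 1 := by rw [← h.symm, hf, map_one]
  refine ⟨f + t • u, by rw [map_add, hf, smul_right, huu, mul_zero, add_zero], ?_⟩
  simp only [map_add, LinearMap.add_apply, smul_left, smul_right, huu, hfu, hf]
  linear_combination ht

omit [FiniteDimensional F V] in
theorem linearIndependent_hyperbolic {u f : V} (huu : B u u = 0) (hff : B f f = 0)
    (huf : B u f = 1) : LinearIndependent F ![u, f] := by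
  have hfu : B f u = 1 := by rw [← h.symm, huf, map_one]
  rw [LinearIndependent.pair_iff]
  intro r s hrs
  have e1 := congrArg (B u) hrs
  have e2 := congrArg (B f) hrs
  rw [map_add, smul_right, smul_right, map_zero, huu, huf, mul_zero, zero_add, mul_one] at e1
  rw [map_add, smul_right, smul_right, map_zero, hff, hfu, mul_zero, add_zero, mul_one] at e2
  exact ⟨e2, e1⟩

theorem exists_isotropic [Finite F] (h2 : 2 ≤ Module.finrank F V) :
    ∃ u, u ≠ 0 ∧ B u u = 0 := by
  obtain ⟨b, hb⟩ := h.exists_orthonormal_basis rfl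
  let i : Fin (Module.finrank F V) := ⟨0, by omega⟩
  let j : Fin (Module.finrank F V) := ⟨1, by omega⟩
  have hij : i ≠ j := by simp [i, j, Fin.ext_iff]
  obtain ⟨a, ha⟩ := h.invol.exists_norm_eq (μ := -1) (by rw [map_neg, map_one])
  refine ⟨b i + a • b j, ?_, ?_⟩
  · intro h0
    have := congrArg (B (b i)) h0
    rw [map_add, smul_right, map_zero, hb, hb, if_pos rfl, if_neg hij] at this
    simp at this
  · simp only [map_add, LinearMap.add_apply, smul_left, smul_right, hb, if_neg hij,
      if_neg hij.symm, ↓reduceIte]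
    linear_combination ha

/-! ### Moving vectors by transvections -/

theorem exists_direct {x y : V} (hx : B x x = 0) (hy : B y y = 0) (hne : B x y ≠ 0)
    (ht : B x y + σ (B x y) = 0) :
    ∃ g ∈ h.trGroup, (g : V ≃ₗ[F] V) x = y ∧
      ∀ z, B (y - x) z = 0 → (g : V ≃ₗ[F] V) z = z := by
  have hw : B (y - x) (y - x) = 0 := by
    rw [sub_left, map_sub, map_sub, hx, hy, ← h.symm x y]
    linear_combination -ht
  have hc : -(B x y)⁻¹ + σ (-(B x y)⁻¹) = 0 := by
    rw [map_neg, map_inv₀, eq_neg_of_add_eq_zero_right ht, inv_neg, neg_neg, neg_add_cancel]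
  refine ⟨h.tr hw hc, h.tr_mem hw hc, ?_, fun z hz => h.tr_fix hw hc hz⟩
  rw [tr_apply, sub_left, hx, sub_zero, ← h.symm x y, eq_neg_of_add_eq_zero_right ht,
    neg_mul_neg, inv_mul_cancel₀ hne]
  module

/-- The orthogonal complement of a submodule. -/
def orth (_h : IsHerm B) (W : Submodule F V) : Submodule F V := ⨅ w : W, LinearMap.ker (B (w : V))

omit [FiniteDimensional F V] in
theorem mem_orth {W : Submodule F V} {y : V} : y ∈ h.orth W ↔ ∀ w ∈ W, B w y = 0 := by
  simp [orth, Submodule.mem_iInf]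

theorem isCompl_orth [Finite F] {W : Submodule F V}
    (hW : ∀ x ∈ W, (∀ y ∈ W, B x y = 0) → x = 0) : IsCompl W (h.orth W) := by
  constructor
  · rw [Submodule.disjoint_def]
    intro x hx hx'
    exact hW x hx fun y hy => h.eq_zero_symm (h.mem_orth.1 hx' y hy)
  · rw [Submodule.codisjoint_iff_exists_add_eq]
    intro y
    obtain ⟨b, hb⟩ := (h.restrict_herm hW).exists_orthonormal_basis rfl
    refine ⟨∑ i, B (b i : V) y • (b i : V), y - ∑ i, B (b i : V) y • (b i : V),
      Submodule.sum_mem _ fun i _ => Submodule.smul_mem _ _ (b i).2, ?_, add_sub_cancel _ _⟩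
    have hbi : ∀ i, B (b i : V) (y - ∑ i, B (b i : V) y • (b i : V)) = 0 := by
      intro i
      rw [map_sub, map_sum, Finset.sum_eq_single i]
      · have := hb i i
        rw [restrict_apply, if_pos rfl] at this
        rw [smul_right, this, mul_one, sub_self]
      · intro j _ hj
        have := hb i j
        rw [restrict_apply, if_neg (Ne.symm hj)] at this
        rw [smul_right, this, mul_zero]
      · simp
    rw [h.mem_orth]
    intro w hw
    have hw' : w = ∑ i, b.repr ⟨w, hw⟩ i • (b i : V) := by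
      have h2 := congrArg Subtype.val (b.sum_repr ⟨w, hw⟩)
      rw [Submodule.coe_sum] at h2
      exact h2.symm
    rw [hw', map_sum, LinearMap.sum_apply]
    exact Finset.sum_eq_zero fun i _ => by rw [smul_left, hbi, mul_zero]

theorem orth_nondeg [Finite F] {W : Submodule F V}
    (hW : ∀ x ∈ W, (∀ y ∈ W, B x y = 0) → x = 0) :
    ∀ x ∈ h.orth W, (∀ y ∈ h.orth W, B x y = 0) → x = 0 := by
  intro x hx hz
  refine h.nondeg x fun y => ?_
  obtain ⟨w, u, hw, hu, rfl⟩ :=
    Submodule.codisjoint_iff_exists_add_eq.1 (h.isCompl_orth hW).codisjoint y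
  rw [map_add, hz u hu, h.eq_zero_symm (h.mem_orth.1 hx w hw), add_zero]

omit [FiniteDimensional F V] in
theorem add_add_orth (W : Submodule F V) (w w' : W) (u u' : h.orth W) :
    B ((w : V) + u) ((w' : V) + u') = B w w' + B u u' := by
  have e1 : B (w : V) u' = 0 := h.mem_orth.1 u'.2 w w.2
  have e2 : B (u : V) w' = 0 := h.eq_zero_symm (h.mem_orth.1 u.2 w' w'.2)
  rw [add_left, map_add, map_add, e1, e2, add_zero, zero_add]

theorem finrank_orth [Finite F] {W : Submodule F V}
    (hW : ∀ x ∈ W, (∀ y ∈ W, B x y = 0) → x = 0) :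
    Module.finrank F W + Module.finrank F (h.orth W) = Module.finrank F V :=
  Submodule.finrank_add_eq_of_isCompl (h.isCompl_orth hW)

omit [FiniteDimensional F V] in
theorem pair_nondeg {x y : V} (hd : B x x * B y y - B x y * σ (B x y) ≠ 0) :
    ∀ z ∈ Submodule.span F ({x, y} : Set V),
      (∀ w ∈ Submodule.span F ({x, y} : Set V), B z w = 0) → z = 0 := by
  intro z hz hrad
  obtain ⟨r, s, rfl⟩ := Submodule.mem_span_pair.1 hz
  have h1 := hrad x (Submodule.subset_span (Set.mem_insert x _))
  have h2 := hrad y (Submodule.subset_span (Set.mem_insert_of_mem x rfl))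
  rw [add_left, smul_left, smul_left, ← h.symm x y] at h1
  rw [add_left, smul_left, smul_left] at h2
  have er : σ r * (B x x * B y y - B x y * σ (B x y)) = 0 := by
    linear_combination B y y * h1 - σ (B x y) * h2
  have es : σ s * (B x x * B y y - B x y * σ (B x y)) = 0 := by
    linear_combination B x x * h2 - B x y * h1
  rw [IsInvol.apply_eq_zero_iff.1 ((mul_eq_zero.1 er).resolve_right hd),
    IsInvol.apply_eq_zero_iff.1 ((mul_eq_zero.1 es).resolve_right hd)]
  simp

omit [FiniteDimensional F V] in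
theorem pair_finrank {x y : V} (hd : B x x * B y y - B x y * σ (B x y) ≠ 0) :
    Module.finrank F (Submodule.span F ({x, y} : Set V)) = 2 := by
  have hli : LinearIndependent F ![x, y] := by
    rw [LinearIndependent.pair_iff]
    intro r s hrs
    have e1 := congrArg (B x) hrs
    have e2 := congrArg (B y) hrs
    rw [map_add, smul_right, smul_right, map_zero] at e1
    rw [map_add, smul_right, smul_right, map_zero, ← h.symm x y] at e2
    exact ⟨(mul_eq_zero.1 (show r * (B x x * B y y - B x y * σ (B x y)) = 0 by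
        linear_combination B y y * e1 - B x y * e2)).resolve_right hd,
      (mul_eq_zero.1 (show s * (B x x * B y y - B x y * σ (B x y)) = 0 by
        linear_combination B x x * e2 - σ (B x y) * e1)).resolve_right hd⟩
  have h2 := finrank_span_eq_card hli
  rwa [Matrix.range_cons_cons_empty, Fintype.card_fin] at h2

theorem exists_norm_in [Finite F] {U : Submodule F V}
    (hU : ∀ x ∈ U, (∀ y ∈ U, B x y = 0) → x = 0) (hpos : 0 < Module.finrank F U) {μ : F}
    (hμ : σ μ = μ) : ∃ v ∈ U, B v v = μ := by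
  by_cases h0 : μ = 0
  · exact ⟨0, U.zero_mem, by rw [h0, zero_left]⟩
  have : Nontrivial U := Module.nontrivial_of_finrank_pos (R := F) hpos
  obtain ⟨x, hx⟩ := exists_ne (0 : U)
  obtain ⟨y, hy⟩ := (h.restrict_herm hU).exists_anisotropic hx
  obtain ⟨a, -, ha⟩ := (h.restrict_herm hU).scale_to hy hμ h0
  exact ⟨((a • y : U) : V), (a • y).2, ha⟩

omit [FiniteDimensional F V] in
theorem hyperbolic_disc {u f : V} (huu : B u u = 0) (huf : B u f = 1) :
    B u u * B f f - B u f * σ (B u f) ≠ 0 := by
  rw [huu, huf, map_one]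
  simp

theorem transitive_isotropic [Finite F] (h3 : 3 ≤ Module.finrank F V) {u u' : V} (hu : u ≠ 0)
    (hu' : u' ≠ 0) (huu : B u u = 0) (huu' : B u' u' = 0) :
    ∃ g ∈ h.trGroup, (g : V ≃ₗ[F] V) u = u' := by
  obtain ⟨θ, hθ0, hθ⟩ := h.exists_skew
  -- the case of independent vectors
  have indep : ∀ x y : V, x ≠ 0 → y ≠ 0 → B x x = 0 → B y y = 0 → LinearIndependent F ![x, y] →
      ∃ g ∈ h.trGroup, (g : V ≃ₗ[F] V) x = y := by
    intro x y hx0 hy0 hxx hyy hli
    obtain ⟨z, hz, hxz, hyz⟩ : ∃ z, B z z = 0 ∧ B x z = θ ∧ B y z = θ := by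
      by_cases hb : B x y = 0
      · -- totally isotropic span
        obtain ⟨fx, hfx, -⟩ := h.exists_isotropic_partner hx0 hxx
        have hne : B y fx • x - y ≠ 0 := fun hc => by
          have := LinearIndependent.pair_iff.1 hli (B y fx) (-1) (by rw [neg_one_smul, ← sub_eq_add_neg, hc])
          exact one_ne_zero (neg_eq_zero.1 this.2)
        obtain ⟨k, hk⟩ : ∃ k : V, B x k = 0 ∧ B y k = 1 := by
          by_contra hc
          push Not at hc
          have hall : ∀ k, B x k = 0 → B y k = 0 := fun k hk => by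
            by_contra hne'
            exact hc ((B y k)⁻¹ • k) (by rw [smul_right, hk, mul_zero])
              (by rw [smul_right, inv_mul_cancel₀ hne'])
          have hy_eq : y = σ (B y fx) • x := sub_eq_zero.1 (h.nondeg _ fun k => by
            have h1 := hall (k - B x k • fx) (by rw [map_sub, smul_right, hfx, mul_one, sub_self])
            rw [map_sub, smul_right] at h1
            rw [sub_left, smul_left, h.invol.invol]
            linear_combination h1)
          have := LinearIndependent.pair_iff.1 hli (σ (B y fx)) (-1)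
            (by rw [neg_one_smul, ← hy_eq, add_neg_cancel])
          exact one_ne_zero (neg_eq_zero.1 this.2)
        let z₀ := θ • fx + (θ - θ * B y fx) • k
        have hxz₀ : B x z₀ = θ := by
          simp only [z₀, map_add, smul_right, hfx, hk.1]; ring
        have hyz₀ : B y z₀ = θ := by
          simp only [z₀, map_add, smul_right, hk.2]; ring
        obtain ⟨a, ha⟩ := h.invol.exists_trace_eq (μ := -B z₀ z₀) (by rw [map_neg, h.self_fixed])
        have hθ' : σ θ = -θ := eq_neg_of_add_eq_zero_right hθ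
        refine ⟨z₀ + (a / -θ) • x, ?_, ?_, ?_⟩
        · have hz₀x : B z₀ x = -θ := by rw [← h.symm, hxz₀, hθ']
          simp only [map_add, LinearMap.add_apply, smul_left, smul_right, hxz₀, hz₀x, hxx,
            map_div₀, map_neg, hθ', neg_neg]
          field_simp
          linear_combination θ ^ 2 * ha
        · rw [map_add, smul_right, hxx, mul_zero, add_zero, hxz₀]
        · rw [map_add, smul_right, h.eq_zero_symm hb, mul_zero, add_zero, hyz₀]
      · -- non-degenerate span
        have hd : B x x * B y y - B x y * σ (B x y) ≠ 0 := by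
          rw [hxx, hyy]
          simp [hb]
        have hyx : B y x ≠ 0 := fun hc => hb (h.eq_zero_symm hc)
        let z₀ := (θ / B y x) • x + (θ / B x y) • y
        have hxz₀ : B x z₀ = θ := by
          simp only [z₀, map_add, smul_right, hxx, mul_zero, zero_add, div_mul_cancel₀ _ hb]
        have hyz₀ : B y z₀ = θ := by
          simp only [z₀, map_add, smul_right, hyy, mul_zero, add_zero, div_mul_cancel₀ _ hyx]
        have hW := h.pair_nondeg hd
        have hr := h.finrank_orth hW
        rw [h.pair_finrank hd] at hr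
        obtain ⟨v, hv, hvv⟩ := h.exists_norm_in (h.orth_nondeg hW) (by omega)
          (μ := -B z₀ z₀) (by rw [map_neg, h.self_fixed])
        rw [h.mem_orth] at hv
        have hxv := hv x (Submodule.subset_span (Set.mem_insert x _))
        have hyv := hv y (Submodule.subset_span (Set.mem_insert_of_mem x rfl))
        have hz₀v : B z₀ v = 0 :=
          hv z₀ (Submodule.mem_span_pair.2 ⟨_, _, rfl⟩)
        refine ⟨z₀ + v, ?_, by rw [map_add, hxz₀, hxv, add_zero],
          by rw [map_add, hyz₀, hyv, add_zero]⟩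
        rw [h.add_self_of_perp hz₀v, hvv, add_neg_cancel]
    obtain ⟨g₁, hg₁, e1, -⟩ := h.exists_direct hxx hz (by rw [hxz]; exact hθ0) (by rw [hxz, hθ])
    obtain ⟨g₂, hg₂, e2, -⟩ := h.exists_direct hz hyy
      (by rw [← h.symm, hyz]; exact fun hc => hθ0 (IsInvol.apply_eq_zero_iff.1 hc))
      (by rw [← h.symm y z, hyz, h.invol.invol, add_comm, hθ])
    exact ⟨g₂ * g₁, mul_mem hg₂ hg₁, by simp [e1, e2]⟩
  by_cases hli : LinearIndependent F ![u, u']
  · exact indep u u' hu hu' huu huu' hli
  obtain ⟨f, huf, hff⟩ := h.exists_isotropic_partner hu huu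
  have hf0 : f ≠ 0 := by rintro rfl; simp at huf
  have h1 := h.linearIndependent_hyperbolic huu hff huf
  rw [LinearIndependent.pair_iff' hu] at hli
  push Not at hli
  obtain ⟨a, ha⟩ := hli
  have ha0 : a ≠ 0 := by rintro rfl; exact hu' (by rw [← ha, zero_smul])
  have h2 : LinearIndependent F ![f, u'] := by
    rw [LinearIndependent.pair_iff]
    intro r s hrs
    rw [← ha, smul_smul] at hrs
    obtain ⟨e1, e2⟩ := LinearIndependent.pair_iff.1 h1 (s * a) r (by rw [add_comm]; exact hrs)
    exact ⟨e2, (mul_eq_zero.1 e1).resolve_right ha0⟩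
  obtain ⟨g₁, hg₁, e1⟩ := indep u f hu hf0 huu hff h1
  obtain ⟨g₂, hg₂, e2⟩ := indep f u' hf0 hu' hff huu' h2
  exact ⟨g₂ * g₁, mul_mem hg₂ hg₁, by simp [e1, e2]⟩

theorem transitive_partner [Finite F] (h4 : 4 ≤ Module.finrank F V) {u f f' : V}
    (huu : B u u = 0) (huf : B u f = 1) (huf' : B u f' = 1) (hff : B f f = 0)
    (hff' : B f' f' = 0) :
    ∃ g ∈ h.trGroup, (g : V ≃ₗ[F] V) u = u ∧ (g : V ≃ₗ[F] V) f = f' := by
  obtain ⟨θ, hθ0, hθ⟩ := h.exists_skew
  have hu0 : u ≠ 0 := by rintro rfl; rw [zero_left] at huf; exact zero_ne_one huf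
  have hfu : ∀ z, B u z = 1 → B z u = 1 := fun z hz => by rw [← h.symm, hz, map_one]
  -- moves with a skew product
  have direct : ∀ x y, B u x = 1 → B u y = 1 → B x x = 0 → B y y = 0 → B x y ≠ 0 →
      B x y + σ (B x y) = 0 →
      ∃ g ∈ h.trGroup, (g : V ≃ₗ[F] V) u = u ∧ (g : V ≃ₗ[F] V) x = y := by
    intro x y hux huy hxx hyy hne ht
    obtain ⟨g, hg, e, efix⟩ := h.exists_direct hxx hyy hne ht
    exact ⟨g, hg, efix u (by rw [sub_left, hfu y huy, hfu x hux, sub_self]), e⟩
  have generic : ∀ x y, B u x = 1 → B u y = 1 → B x x = 0 → B y y = 0 →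
      B x y + σ (B x y) ≠ 0 →
      ∃ g ∈ h.trGroup, (g : V ≃ₗ[F] V) u = u ∧ (g : V ≃ₗ[F] V) x = y := by
    intro x y hux huy hxx hyy ht
    set β := B x y with hβ
    have hxu := hfu x hux
    set w := y - x - β • u with hw
    have hww : B w w = -(β + σ β) := by
      simp only [hw, map_sub, LinearMap.sub_apply, smul_left, smul_right, hxx, hyy, huu, hxu,
        hfu y huy, hux, huy, ← hβ]
      rw [← h.symm x y, ← hβ]
      ring
    have hww0 : B w w ≠ 0 := by rw [hww]; exact neg_ne_zero.2 ht
    have huw : B u w = 0 := by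
      rw [hw, map_sub, map_sub, smul_right, huu, huy, hux, mul_zero, sub_zero, sub_self]
    have hxw : B x w = 0 := by
      rw [hw, map_sub, map_sub, smul_right, hxx, hxu, ← hβ, sub_zero, mul_one, sub_self]
    -- a vector orthogonal to u, x and w
    have hW := h.pair_nondeg (h.hyperbolic_disc (f := x) huu hux)
    have hrP := h.finrank_orth hW
    rw [h.pair_finrank (h.hyperbolic_disc (f := x) huu hux)] at hrP
    have hwmem : w ∈ h.orth (Submodule.span F ({u, x} : Set V)) := by
      rw [h.mem_orth]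
      intro p hp
      obtain ⟨r, s, rfl⟩ := Submodule.mem_span_pair.1 hp
      rw [add_left, smul_left, smul_left, huw, hxw, mul_zero, mul_zero, add_zero]
    have hH := h.restrict_herm (h.orth_nondeg hW)
    have hwA : restrict B (h.orth (Submodule.span F ({u, x} : Set V))) ⟨w, hwmem⟩ ⟨w, hwmem⟩ ≠ 0 :=
      hww0
    have hrw := hH.finrank_perp hwA
    set r := -σ β / B w w with hr
    obtain ⟨v, hv, hvv⟩ := hH.exists_norm_in (hH.perp_nondeg hwA) (by omega)
      (μ := -(r * σ r * B w w))
      (by rw [map_neg, map_mul, map_mul, h.invol.invol, h.self_fixed, mul_comm (σ r)])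
    rw [restrict_apply] at hvv
    have hwv : B w (v : V) = 0 := hH.mem_perp.1 hv
    have huv : B u (v : V) = 0 :=
      h.mem_orth.1 v.2 u (Submodule.subset_span (Set.mem_insert u _))
    have hxv : B x (v : V) = 0 :=
      h.mem_orth.1 v.2 x (Submodule.subset_span (Set.mem_insert_of_mem u rfl))
    set z := x + θ • u + r • w + (v : V) with hz
    have huz : B u z = 1 := by
      simp only [hz, map_add, smul_right, hux, huu, huw, huv]; ring
    have hxz : B x z = θ := by
      simp only [hz, map_add, smul_right, hxx, hxu, hxw, hxv]; ring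
    have hzz : B z z = 0 := by
      have hwu : B w u = 0 := h.eq_zero_symm huw
      have hwx : B w x = 0 := h.eq_zero_symm hxw
      simp only [hz, map_add, LinearMap.add_apply, smul_left, smul_right, hxx, hxu, hxw, hxv,
        hux, huu, huw, huv, hwu, hwx, hwv, hvv, h.eq_zero_symm huv, h.eq_zero_symm hxv,
        h.eq_zero_symm hwv]
      linear_combination hθ
    have hyz : B y z = θ := by
      have hyw : y = x + β • u + w := by rw [hw]; abel
      rw [hyw, add_left, add_left, smul_left, hxz, huz]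
      have hwu : B w u = 0 := h.eq_zero_symm huw
      have hwx : B w x = 0 := h.eq_zero_symm hxw
      simp only [hz, map_add, smul_right, hwx, hwu, hwv, hr]
      field_simp
      ring
    obtain ⟨g₁, hg₁, e1, e1'⟩ := direct x z hux huz hxx hzz (by rw [hxz]; exact hθ0)
      (by rw [hxz, hθ])
    obtain ⟨g₂, hg₂, e2, e2'⟩ := direct z y huz huy hzz hyy
      (by rw [← h.symm, hyz]; exact fun hc => hθ0 (IsInvol.apply_eq_zero_iff.1 hc))
      (by rw [← h.symm y z, hyz, h.invol.invol, add_comm, hθ])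
    exact ⟨g₂ * g₁, mul_mem hg₂ hg₁, by simp [e1, e2], by simp [e1', e2']⟩
  by_cases ht : B f f' + σ (B f f') = 0
  swap
  · exact generic f f' huf huf' hff hff' ht
  by_cases hb : B f f' = 0
  swap
  · exact direct f f' huf huf' hff hff' hb ht
  by_cases hwz : f' = f
  · exact ⟨1, one_mem _, rfl, by simp [hwz]⟩
  -- f' - f is isotropic and orthogonal to u, f
  set w := f' - f with hw
  have hw0 : w ≠ 0 := sub_ne_zero.2 hwz
  have huw : B u w = 0 := by rw [hw, map_sub, huf', huf, sub_self]
  have hfw : B f w = 0 := by rw [hw, map_sub, hb, hff, sub_self]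
  have hW := h.pair_nondeg (h.hyperbolic_disc (f := f) huu huf)
  have hwmem : w ∈ h.orth (Submodule.span F ({u, f} : Set V)) := by
    rw [h.mem_orth]
    intro p hp
    obtain ⟨r, s, rfl⟩ := Submodule.mem_span_pair.1 hp
    rw [add_left, smul_left, smul_left, huw, hfw, mul_zero, mul_zero, add_zero]
  have hww : B w w = 0 := by
    rw [hw, sub_left, map_sub, map_sub, hff, hff', hb, h.eq_zero_symm hb]; ring
  have hH := h.restrict_herm (h.orth_nondeg hW)
  obtain ⟨g, hwg, hgg⟩ := hH.exists_isotropic_partner (u := ⟨w, hwmem⟩)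
    (fun hc => hw0 (congrArg Subtype.val hc)) hww
  rw [restrict_apply] at hwg hgg
  obtain ⟨s, hs1, hs2⟩ : ∃ s : F, s + σ s ≠ 0 ∧ s + σ s ≠ 2 := by
    by_cases h2 : (2 : F) = 0
    · obtain ⟨s, hs⟩ := h.invol.exists_trace_ne_zero
      exact ⟨s, hs, by rw [h2]; exact hs⟩
    · obtain ⟨s, hs⟩ := h.invol.exists_trace_eq (μ := (1 : F)) (map_one σ)
      refine ⟨s, by rw [hs]; exact one_ne_zero, ?_⟩
      rw [hs]
      intro hc
      exact one_ne_zero (α := F) (by linear_combination -hc)
  obtain ⟨hug, hfg⟩ : B u (g : V) = 0 ∧ B f (g : V) = 0 :=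
    ⟨h.mem_orth.1 g.2 u (Submodule.subset_span (Set.mem_insert u _)),
      h.mem_orth.1 g.2 f (Submodule.subset_span (Set.mem_insert_of_mem u rfl))⟩
  set w₁ := s • w + (g : V) with hw₁
  have hgw : B (g : V) w = 1 := by rw [← h.symm, hwg, map_one]
  have hw₁w₁ : B w₁ w₁ = s + σ s := by
    simp only [hw₁, map_add, LinearMap.add_apply, smul_left, smul_right, hww, hgg, hwg, hgw]
    ring
  obtain ⟨a, ha⟩ := h.invol.exists_trace_eq (μ := -(s + σ s))
    (by rw [map_neg, map_add, h.invol.invol, add_comm])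
  set f₁ := f + w₁ + a • u with hf₁
  have huw₁ : B u w₁ = 0 := by
    rw [hw₁, map_add, smul_right, huw, hug, mul_zero, add_zero]
  have hfw₁ : B f w₁ = 0 := by
    rw [hw₁, map_add, smul_right, hfw, hfg, mul_zero, add_zero]
  have huf₁ : B u f₁ = 1 := by
    rw [hf₁, map_add, map_add, smul_right, huf, huw₁, huu, mul_zero, add_zero, add_zero]
  have hff₁ : B f f₁ = a := by
    rw [hf₁, map_add, map_add, smul_right, hff, hfw₁, hfu f huf, mul_one, zero_add, zero_add]
  have hf₁f₁ : B f₁ f₁ = 0 := by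
    have e1 := hfu f huf
    simp only [hf₁, map_add, LinearMap.add_apply, smul_left, smul_right, hff, hfw₁,
      h.eq_zero_symm hfw₁, e1, huf, huw₁, h.eq_zero_symm huw₁, huu, hw₁w₁]
    linear_combination ha
  have hf₁f' : B f₁ f' = 1 + σ a := by
    have hf' : f' = f + w := by rw [hw]; abel
    have e2 : B w₁ w = 1 := by
      rw [hw₁, add_left, smul_left, hww, hgw, mul_zero, zero_add]
    rw [hf₁, hf']
    simp only [map_add, LinearMap.add_apply, smul_left, hff, hfw, h.eq_zero_symm hfw₁, e2, huf,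
      huw]
    ring
  obtain ⟨g₁, hg₁, e1, e1'⟩ := generic f f₁ huf huf₁ hff hf₁f₁
    (by rw [hff₁, ha]; exact neg_ne_zero.2 hs1)
  obtain ⟨g₂, hg₂, e2, e2'⟩ := generic f₁ f' huf₁ huf' hf₁f₁ hff'
    (by
      rw [hf₁f', map_add, map_one, h.invol.invol]
      intro hc
      exact hs2 (by linear_combination ha - hc))
  exact ⟨g₂ * g₁, mul_mem hg₂ hg₁, by simp [e1, e2], by simp [e1', e2']⟩

/-! ### Generation -/

theorem plane_generated [Finite F] (h2 : Module.finrank F V = 2) : HSU B ≤ h.trGroup := by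
  obtain ⟨u, hu0, huu⟩ := h.exists_isotropic (by omega)
  obtain ⟨f, huf, hff⟩ := h.exists_isotropic_partner hu0 huu
  have hfu : B f u = 1 := by rw [← h.symm, huf, map_one]
  let b : Module.Basis (Fin 2) F V :=
    basisOfLinearIndependentOfCardEqFinrank (h.linearIndependent_hyperbolic huu hff huf)
      (by simp [h2])
  have hb : (b : Fin 2 → V) = ![u, f] := coe_basisOfLinearIndependentOfCardEqFinrank _ _
  have hcoord : ∀ v : V, v = B f v • u + B u v • f := fun v => by
    refine sub_eq_zero.1 (h.nondeg _ fun z => ?_)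
    conv_lhs => rw [← b.sum_repr z]
    rw [Fin.sum_univ_two, hb]
    simp only [Matrix.cons_val_zero, Matrix.cons_val_one, Matrix.cons_val_fin_one, map_add,
      LinearMap.add_apply, sub_left, smul_left, smul_right, huu, hff, huf, hfu, h.symm]
    ring
  -- an element fixing `u` is a transvection
  have fixing : ∀ g ∈ HSU B, (g : V ≃ₗ[F] V) u = u → g ∈ h.trGroup := by
    intro g _ hgu
    set β := B f ((g : V ≃ₗ[F] V) f) with hβ
    have hugf : B u ((g : V ≃ₗ[F] V) f) = 1 := by
      rw [← huf, ← hgu]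
      exact (HU.map_eq g u f).trans (by rw [hgu])
    have hgf : (g : V ≃ₗ[F] V) f = β • u + f := by
      rw [hcoord ((g : V ≃ₗ[F] V) f), hugf, one_smul]
    have hskew : β + σ β = 0 := by
      have h1 := HU.map_eq g f f
      rw [hff, hgf] at h1
      simp only [map_add, LinearMap.add_apply, smul_left, smul_right, huu, hfu, huf, hff] at h1
      linear_combination h1
    have : g = h.tr huu hskew := by
      ext y
      rw [hcoord y, tr_apply]
      simp only [map_add, LinearEquiv.map_smul, hgu, hgf, smul_right, huu, huf]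
      module
    rw [this]
    exact h.tr_mem huu hskew
  -- moving `u` back
  have moving : ∀ g ∈ HSU B, B u ((g : V ≃ₗ[F] V) u) ≠ 0 → g ∈ h.trGroup := by
    intro g hg hne
    set α := B f ((g : V ≃ₗ[F] V) u) with hα
    set γ := B u ((g : V ≃ₗ[F] V) u) with hγ
    set β := B f ((g : V ≃ₗ[F] V) f) with hβ
    set δ := B u ((g : V ≃ₗ[F] V) f) with hδ
    have hgu : (g : V ≃ₗ[F] V) u = α • u + γ • f := hcoord _
    have hgf : (g : V ≃ₗ[F] V) f = β • u + δ • f := hcoord _
    have e1 : σ α * γ + σ γ * α = 0 := by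
      have h1 := HU.map_eq g u u
      rw [huu, hgu] at h1
      simp only [map_add, LinearMap.add_apply, smul_left, smul_right, huu, hff, huf, hfu] at h1
      linear_combination h1
    have e2 : σ α * δ + σ γ * β = 1 := by
      have h1 := HU.map_eq g u f
      rw [huf, hgu, hgf] at h1
      simp only [map_add, LinearMap.add_apply, smul_left, smul_right, huu, hff, huf, hfu] at h1
      linear_combination h1
    have e3 : α * δ - γ * β = 1 := by
      have h1 : ((LinearEquiv.det (g : V ≃ₗ[F] V) : Fˣ) : F) = 1 :=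
        congrArg Units.val (MonoidHom.mem_ker.1 hg)
      rw [LinearEquiv.coe_det, ← LinearMap.det_toMatrix b, Matrix.det_fin_two] at h1
      have hrep : ∀ i, b.repr ((g : V ≃ₗ[F] V) u) i = ![α, γ] i ∧
          b.repr ((g : V ≃ₗ[F] V) f) i = ![β, δ] i := by
        have hu' : u = b 0 := by rw [hb]; rfl
        have hf' : f = b 1 := by rw [hb]; rfl
        intro i
        rw [hgu, hgf, hu', hf']
        simp only [map_add, map_smul, Module.Basis.repr_self]
        fin_cases i <;> simp
      simp only [LinearMap.toMatrix_apply, hb, LinearEquiv.coe_coe, Matrix.cons_val_zero,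
        Matrix.cons_val_one, Matrix.cons_val_fin_one] at h1
      rw [(hrep 0).1, (hrep 1).1, (hrep 0).2, (hrep 1).2] at h1
      simp only [Matrix.cons_val_zero, Matrix.cons_val_one, Matrix.cons_val_fin_one] at h1
      linear_combination h1
    have hσγ : σ γ = -γ := by
      by_cases hα0 : α = 0
      · rw [hα0, map_zero, zero_mul, zero_add] at e2
        rw [hα0, zero_mul, zero_sub] at e3
        have hβ0 : β ≠ 0 := by rintro h0; rw [h0, mul_zero] at e2; exact zero_ne_one e2
        apply mul_right_cancel₀ hβ0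
        linear_combination e2 - e3
      · have hαα : σ α = α := by linear_combination -σ α * e3 + α * e2 - β * e1
        rw [hαα] at e1
        apply mul_right_cancel₀ hα0
        linear_combination e1
    have hαK : σ α = α := by
      rw [hσγ] at e1
      exact mul_right_cancel₀ hne (by linear_combination e1)
    have hc1 : -α / γ + σ (-α / γ) = 0 := by
      rw [map_div₀, map_neg, hαK, hσγ, div_neg, add_neg_cancel]
    have hc2 : -1 / γ + σ (-1 / γ) = 0 := by
      rw [map_div₀, map_neg, map_one, hσγ, div_neg, add_neg_cancel]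
    have hc3 : γ + σ γ = 0 := by rw [hσγ, add_neg_cancel]
    set T₁ := h.tr huu hc1
    set T₂ := h.tr huu hc2 * h.tr hff hc3
    have hT₁ : T₁ ∈ h.trGroup := h.tr_mem huu hc1
    have hT₂ : T₂ ∈ h.trGroup := mul_mem (h.tr_mem huu hc2) (h.tr_mem hff hc3)
    have m1 : (T₁ : V ≃ₗ[F] V) ((g : V ≃ₗ[F] V) u) = γ • f := by
      rw [tr_apply, hgu]
      simp only [map_add, smul_right, huu, huf]
      match_scalars <;> field_simp <;> ring
    have m2 : (T₂ : V ≃ₗ[F] V) u = γ • f := by
      show (h.tr huu hc2 : V ≃ₗ[F] V) ((h.tr hff hc3 : V ≃ₗ[F] V) u) = γ • f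
      rw [tr_apply, tr_apply]
      simp only [map_add, smul_right, huu, huf, hfu]
      match_scalars <;> field_simp <;> ring
    have hm : T₂⁻¹ * T₁ * g ∈ h.trGroup := fixing _
      (mul_mem (mul_mem (inv_mem (h.trGroup_le hT₂)) (h.trGroup_le hT₁)) hg) (by
        simp only [Subgroup.coe_mul, Subgroup.coe_inv, LinearEquiv.mul_apply, LinearEquiv.coe_inv,
          m1, LinearEquiv.symm_apply_eq]
        exact m2.symm)
    have := mul_mem (mul_mem (inv_mem hT₁) hT₂) hm
    simpa [mul_assoc] using this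
  intro g hg
  by_cases hne : B u ((g : V ≃ₗ[F] V) u) = 0
  · obtain ⟨θ, hθ0, hθ⟩ := h.exists_skew
    have hm := moving (h.tr hff hθ * g) (mul_mem (h.trGroup_le (h.tr_mem hff hθ)) hg) (by
      simp only [Subgroup.coe_mul, LinearEquiv.mul_apply, tr_apply, map_add, smul_right, hne,
        huf, zero_add, mul_one]
      refine mul_ne_zero hθ0 fun hc => ?_
      have h0 := hcoord ((g : V ≃ₗ[F] V) u)
      rw [hc, hne] at h0
      exact hu0 ((g : V ≃ₗ[F] V).injective (by simpa using h0)))
    simpa using mul_mem (inv_mem (h.tr_mem hff hθ)) hm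
  · exact moving g hg hne

/-- Extending an isometry of the orthogonal complement by the identity. -/
noncomputable def extend [Finite F] {W : Submodule F V}
    (hW : ∀ x ∈ W, (∀ y ∈ W, B x y = 0) → x = 0) : HU (restrict B (h.orth W)) →* HU B :=
  (sumHom (f := fun u v => B u v) (h.isCompl_orth hW) (h.add_add_orth W)).comp
    (MonoidHom.inr (HU (restrict B W)) (HU (restrict B (h.orth W))))

theorem extend_apply [Finite F] {W : Submodule F V}
    (hW : ∀ x ∈ W, (∀ y ∈ W, B x y = 0) → x = 0) (b : HU (restrict B (h.orth W))) (w : W)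
    (u : h.orth W) :
    (h.extend hW b : V ≃ₗ[F] V) ((w : V) + u) = (w : V) + ((b : h.orth W ≃ₗ[F] h.orth W) u : V) :=
  sumHom_apply (f := fun u v => B u v) (h.isCompl_orth hW) (h.add_add_orth W) (1, b) w u

theorem det_extend [Finite F] {W : Submodule F V}
    (hW : ∀ x ∈ W, (∀ y ∈ W, B x y = 0) → x = 0) (b : HU (restrict B (h.orth W))) :
    HU.det B (h.extend hW b) = HU.det (restrict B (h.orth W)) b := by
  ext
  show ((LinearEquiv.det (h.extend hW b : V ≃ₗ[F] V) : Fˣ) : F) =
    ((LinearEquiv.det (b : h.orth W ≃ₗ[F] h.orth W) : Fˣ) : F)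
  rw [LinearEquiv.coe_det, LinearEquiv.coe_det]
  have hE : ((h.extend hW b : V ≃ₗ[F] V) : V →ₗ[F] V) =
      ((W.prodEquivOfIsCompl _ (h.isCompl_orth hW)) : (W × h.orth W) →ₗ[F] V) ∘ₗ
        (LinearMap.prodMap LinearMap.id
          ((b : h.orth W ≃ₗ[F] h.orth W) : h.orth W →ₗ[F] h.orth W)) ∘ₗ
        ((W.prodEquivOfIsCompl _ (h.isCompl_orth hW)).symm : V →ₗ[F] W × h.orth W) :=
    LinearMap.ext fun y => rfl
  rw [hE, LinearMap.det_conj, LinearMap.det_prodMap, LinearMap.det_id, one_mul]

theorem extend_trGroup [Finite F] {W : Submodule F V}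
    (hW : ∀ x ∈ W, (∀ y ∈ W, B x y = 0) → x = 0) {b : HU (restrict B (h.orth W))}
    (hb : b ∈ (h.restrict_herm (h.orth_nondeg hW)).trGroup) : h.extend hW b ∈ h.trGroup := by
  induction hb using Subgroup.closure_induction with
  | mem y hy =>
    obtain ⟨u, hu, c, hc, rfl⟩ := hy
    have hu' : B (u : V) (u : V) = 0 := hu
    have : h.extend hW ((h.restrict_herm (h.orth_nondeg hW)).tr hu hc) =
        h.tr hu' hc := by
      ext y
      obtain ⟨w, v, rfl⟩ := CfsgLib.Classical.exists_decomp (h.isCompl_orth hW) y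
      rw [extend_apply, tr_apply, tr_apply, map_add,
        h.eq_zero_symm (h.mem_orth.1 u.2 w w.2), zero_add, restrict_apply]
      push_cast
      abel
    rw [this]
    exact h.tr_mem _ _
  | one => simp
  | mul y z _ _ hy hz => rw [map_mul]; exact mul_mem hy hz
  | inv y _ hy => rw [map_inv]; exact inv_mem hy

theorem mem_trGroup_of_fix [Finite F] {W : Submodule F V}
    (hW : ∀ x ∈ W, (∀ y ∈ W, B x y = 0) → x = 0)
    (hgen : HSU (restrict B (h.orth W)) ≤ (h.restrict_herm (h.orth_nondeg hW)).trGroup)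
    {g : HU B} (hg : g ∈ HSU B) (hfix : ∀ w ∈ W, (g : V ≃ₗ[F] V) w = w) : g ∈ h.trGroup := by
  have hgU : ∀ y, y ∈ h.orth W ↔ (g : V ≃ₗ[F] V) y ∈ h.orth W := by
    intro y
    rw [h.mem_orth, h.mem_orth]
    refine forall₂_congr fun w hw => ?_
    conv_rhs => rw [← hfix w hw, HU.map_eq]
  let b : HU (restrict B (h.orth W)) :=
    ⟨restrictEquiv (g : V ≃ₗ[F] V) _ hgU, fun y z => HU.map_eq g (y : V) z⟩
  have hgb : h.extend hW b = g := by
    ext y
    obtain ⟨w, v, rfl⟩ := CfsgLib.Classical.exists_decomp (h.isCompl_orth hW) y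
    rw [extend_apply, map_add, hfix _ w.2]
    rfl
  rw [← hgb]
  refine h.extend_trGroup hW (hgen ?_)
  rw [MonoidHom.mem_ker, ← h.det_extend hW, hgb]
  exact hg

theorem exists_det_one_map [Finite F] (h2 : 2 ≤ Module.finrank F V) {x y : V} (hx : B x x ≠ 0)
    (hxy : B x x = B y y) : ∃ g ∈ HSU B, (g : V ≃ₗ[F] V) x = y := by
  obtain ⟨g, hg⟩ := h.exists_map_of_anisotropic hx hxy
  obtain ⟨v, hv, hvv⟩ := h.exists_norm_in (h.perp_nondeg hx)
    (by have := h.finrank_perp hx; omega) (map_one σ)
  have hv0 : B v v ≠ 0 := by rw [hvv]; exact one_ne_zero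
  have ha : ((HU.det B g)⁻¹ : Fˣ).val * σ ((HU.det B g)⁻¹ : Fˣ).val = 1 := by
    rw [Units.val_inv_eq_inv_val, map_inv₀, ← mul_inv, h.det_norm_one g, inv_one]
  refine ⟨g * h.quasiIso v hv0 _ ha, ?_, ?_⟩
  · rw [MonoidHom.mem_ker, map_mul, h.det_quasiIso, mul_inv_cancel]
  · show (g : V ≃ₗ[F] V) (quasi B v hv0 _ x) = y
    rw [quasi_apply_perp _ _ _ (h.eq_zero_symm (h.mem_perp.1 hv)), hg]

theorem plane_move [Finite F] {x y : V} (hxx : B x x = 1) (hyy : B y y = 1)
    (hd : B x y * σ (B x y) ≠ 1) : ∃ g ∈ h.trGroup, (g : V ≃ₗ[F] V) x = y := by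
  have hd' : B x x * B y y - B x y * σ (B x y) ≠ 0 := by
    rw [hxx, hyy, one_mul]; exact sub_ne_zero.2 (Ne.symm hd)
  -- work in the orthogonal complement of the complement of the plane
  have hP := h.pair_nondeg hd'
  have hQ := h.orth_nondeg hP
  set P := Submodule.span F ({x, y} : Set V) with hPdef
  have hsub : P ≤ h.orth (h.orth P) := fun z hz => h.mem_orth.2 fun w hw =>
    h.eq_zero_symm (h.mem_orth.1 hw z hz)
  have heq : h.orth (h.orth P) = P := by
    refine (Submodule.eq_of_le_of_finrank_le hsub ?_).symm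
    have h1 := h.finrank_orth hP
    have h2 := h.finrank_orth hQ
    omega
  have hH := h.restrict_herm (h.orth_nondeg hQ)
  have hr : Module.finrank F (h.orth (h.orth P)) = 2 := by rw [heq]; exact h.pair_finrank hd'
  have hxm : x ∈ h.orth (h.orth P) := hsub (Submodule.subset_span (Set.mem_insert x _))
  have hym : y ∈ h.orth (h.orth P) := hsub (Submodule.subset_span (Set.mem_insert_of_mem x rfl))
  obtain ⟨b, hb, hbx⟩ := hH.exists_det_one_map (x := ⟨x, hxm⟩) (y := ⟨y, hym⟩) (by omega)
    (by rw [restrict_apply, hxx]; exact one_ne_zero) (by rw [restrict_apply, restrict_apply, hxx, hyy])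
  refine ⟨h.extend hQ b, h.extend_trGroup hQ (hH.plane_generated hr hb), ?_⟩
  have := h.extend_apply hQ b 0 ⟨x, hxm⟩
  rw [ZeroMemClass.coe_zero, zero_add, zero_add, hbx] at this
  exact this

theorem transitive_norm_one [Finite F] (h3 : 3 ≤ Module.finrank F V)
    (hex : Module.finrank F V = 3 → Nat.card (fixedSub σ) ≠ 2) {x y : V} (hxx : B x x = 1)
    (hyy : B y y = 1) : ∃ g ∈ h.trGroup, (g : V ≃ₗ[F] V) x = y := by
  by_cases hd : B x y * σ (B x y) = 1
  swap
  · exact h.plane_move hxx hyy hd
  have hx0 : B x x ≠ 0 := by rw [hxx]; exact one_ne_zero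
  set b := B x y with hb
  suffices ∃ z, B z z = 1 ∧ B x z * σ (B x z) ≠ 1 ∧ B z y * σ (B z y) ≠ 1 by
    obtain ⟨z, hzz, h1, h2⟩ := this
    obtain ⟨g₁, hg₁, e1⟩ := h.plane_move hxx hzz h1
    obtain ⟨g₂, hg₂, e2⟩ := h.plane_move hzz hyy h2
    exact ⟨g₂ * g₁, mul_mem hg₂ hg₁, by simp [e1, e2]⟩
  have hr := h.finrank_perp hx0
  have hU := h.restrict_perp hx0
  set w := y - b • x with hw
  have hxw : B x w = 0 := by rw [hw, map_sub, smul_right, hxx, mul_one, ← hb, sub_self]
  have hwperp : w ∈ h.perp x := h.mem_perp.2 hxw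
  have hww : B w w = 0 := by
    simp only [hw, map_sub, LinearMap.sub_apply, smul_left, smul_right, hxx, hyy]
    rw [← h.symm x y, ← hb]
    linear_combination -hd
  have hyz : ∀ z : V, B x z = 0 → B z y = B z w := fun z hz => by
    have : y = w + b • x := by rw [hw]; abel
    rw [this, map_add, smul_right, h.eq_zero_symm hz, mul_zero, add_zero]
  suffices ∃ z : h.perp x, B (z : V) z = 1 ∧ B (z : V) w * σ (B (z : V) w) ≠ 1 by
    obtain ⟨z, hzz, hzw⟩ := this
    have hxz := h.mem_perp.1 z.2
    exact ⟨z, hzz, by rw [hxz, zero_mul]; exact zero_ne_one, by rw [hyz z hxz]; exact hzw⟩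
  by_cases hw0 : w = 0
  · obtain ⟨v, hv, hvv⟩ := h.exists_norm_in (h.perp_nondeg hx0) (by omega) (map_one σ)
    exact ⟨⟨v, hv⟩, hvv, by rw [hw0, map_zero, zero_mul]; exact zero_ne_one⟩
  obtain ⟨f, hwf, hff⟩ := hU.exists_isotropic_partner (u := ⟨w, hwperp⟩)
    (fun hc => hw0 (congrArg Subtype.val hc)) hww
  rw [restrict_apply] at hwf hff
  have hfw : B (f : V) w = 1 := by rw [← h.symm, hwf, map_one]
  by_cases hq : Nat.card (fixedSub σ) = 2
  · have hd2 : restrict B (h.perp x) ⟨w, hwperp⟩ ⟨w, hwperp⟩ * restrict B (h.perp x) f f -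
        restrict B (h.perp x) ⟨w, hwperp⟩ f * σ (restrict B (h.perp x) ⟨w, hwperp⟩ f) ≠ 0 :=
      hU.hyperbolic_disc hww hwf
    have hP := hU.pair_nondeg hd2
    have hrP := hU.finrank_orth hP
    rw [hU.pair_finrank hd2] at hrP
    have hdim : Module.finrank F V ≠ 3 := fun hc => hex hc hq
    obtain ⟨z, hz, hzz⟩ := hU.exists_norm_in (hU.orth_nondeg hP) (by omega) (map_one σ)
    refine ⟨z, hzz, ?_⟩
    have := hU.eq_zero_symm (hU.mem_orth.1 hz ⟨w, hwperp⟩
      (Submodule.subset_span (Set.mem_insert _ _)))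
    rw [restrict_apply] at this
    rw [this, zero_mul]
    exact zero_ne_one
  · have : Fintype (fixedSub σ) := Fintype.ofFinite _
    obtain ⟨μ, hμ0, hμ1⟩ : ∃ μ : fixedSub σ, μ ≠ 0 ∧ μ ≠ 1 := by
      classical
      by_contra hc
      push Not at hc
      have hsub : (Finset.univ : Finset (fixedSub σ)) ⊆ {0, 1} := fun k _ => by
        rcases eq_or_ne k 0 with hk | hk
        · simp [hk]
        · simp [hc k hk]
      have h1 := Finset.card_le_card hsub
      rw [Finset.card_univ, ← Nat.card_eq_fintype_card] at h1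
      have h2 : ({0, 1} : Finset (fixedSub σ)).card ≤ 2 := Finset.card_le_two
      have h3' := IsInvol.card_ge_two (σ := σ)
      omega
    obtain ⟨c, hc⟩ := h.invol.exists_norm_eq (μ := (μ : F)) μ.2
    have hc0 : c ≠ 0 := by
      rintro rfl
      exact hμ0 (Subtype.ext (by rw [← hc, zero_mul]; rfl))
    have hc0' : σ c ≠ 0 := fun hc' => hc0 (IsInvol.apply_eq_zero_iff.1 hc')
    obtain ⟨s, hs⟩ := h.invol.exists_trace_eq (μ := (1 : F)) (map_one σ)
    refine ⟨(s / σ c) • ⟨w, hwperp⟩ + c • f, ?_, ?_⟩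
    · simp only [Submodule.coe_add, Submodule.coe_smul, map_add, LinearMap.add_apply, smul_left,
        smul_right, hww, hff, hwf, hfw, map_div₀, h.invol.invol]
      field_simp
      linear_combination σ c * c * hs
    · simp only [Submodule.coe_add, Submodule.coe_smul, LinearMap.add_apply, map_add, smul_left,
        hww, hfw, mul_zero, zero_add, mul_one, h.invol.invol]
      rw [mul_comm, hc]
      exact fun hc' => hμ1 (Subtype.ext hc')

theorem generated [Finite F] (h2 : 2 ≤ Module.finrank F V)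
    (hex : Module.finrank F V = 3 → Nat.card (fixedSub σ) ≠ 2) : HSU B ≤ h.trGroup := by
  induction hk : Module.finrank F V using Nat.strong_induction_on generalizing V with
  | _ k ih =>
  subst hk
  by_cases hd2 : Module.finrank F V = 2
  · exact h.plane_generated hd2
  intro g hg
  by_cases hex4 : Module.finrank F V = 4 ∧ Nat.card (fixedSub σ) = 2
  · -- peel a hyperbolic pair
    obtain ⟨h4, -⟩ := hex4
    obtain ⟨u, hu0, huu⟩ := h.exists_isotropic (by omega)
    obtain ⟨f, huf, hff⟩ := h.exists_isotropic_partner hu0 huu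
    obtain ⟨t₁, ht₁, e1⟩ := h.transitive_isotropic (by omega) (u := (g : V ≃ₗ[F] V) u) (u' := u)
      (by simpa using hu0) hu0 ((HU.map_eq g u u).trans huu) huu
    obtain ⟨t₂, ht₂, e2, e2'⟩ := h.transitive_partner (u := u)
      (f := (t₁ : V ≃ₗ[F] V) ((g : V ≃ₗ[F] V) f)) (f' := f) (by omega) huu
      (by conv_lhs => rw [← e1]
          rw [HU.map_eq, HU.map_eq, huf]) huf
      (by rw [HU.map_eq, HU.map_eq, hff]) hff
    have hW := h.pair_nondeg (h.hyperbolic_disc (f := f) huu huf)
    have hr := h.finrank_orth hW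
    rw [h.pair_finrank (h.hyperbolic_disc (f := f) huu huf)] at hr
    have hm : t₂ * t₁ * g ∈ h.trGroup := by
      refine h.mem_trGroup_of_fix hW
        ((h.restrict_herm (h.orth_nondeg hW)).plane_generated (by omega))
        (mul_mem (mul_mem (h.trGroup_le ht₂) (h.trGroup_le ht₁)) hg) ?_
      intro p hp
      obtain ⟨r, s, rfl⟩ := Submodule.mem_span_pair.1 hp
      simp [e1, e2, e2']
    simpa [mul_assoc] using mul_mem (inv_mem (mul_mem ht₂ ht₁)) hm
  · obtain ⟨b, hb⟩ := h.exists_orthonormal_basis rfl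
    set x := b ⟨0, by omega⟩ with hx
    have hxx : B x x = 1 := by rw [hx, hb, if_pos rfl]
    obtain ⟨t, ht, e⟩ := h.transitive_norm_one (x := (g : V ≃ₗ[F] V) x) (y := x) (by omega) hex
      ((HU.map_eq g x x).trans hxx) hxx
    have hx0 : x ≠ 0 := fun h0 => by rw [h0, zero_left] at hxx; exact zero_ne_one hxx
    have hW : ∀ p ∈ Submodule.span F ({x} : Set V),
        (∀ r ∈ Submodule.span F ({x} : Set V), B p r = 0) → p = 0 := by
      intro p hp hrad
      obtain ⟨r, rfl⟩ := Submodule.mem_span_singleton.1 hp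
      have := hrad x (Submodule.mem_span_singleton_self x)
      rw [smul_left, hxx, mul_one] at this
      rw [IsInvol.apply_eq_zero_iff.1 this, zero_smul]
    have hr := h.finrank_orth hW
    rw [finrank_span_singleton hx0] at hr
    have hm : t * g ∈ h.trGroup := by
      refine h.mem_trGroup_of_fix hW (ih _ (by omega) (h.restrict_herm (h.orth_nondeg hW))
        (by omega) ?_ rfl) (mul_mem (h.trGroup_le ht) hg) ?_
      · intro h3 hq
        exact hex4 ⟨by omega, hq⟩
      · intro p hp
        obtain ⟨r, rfl⟩ := Submodule.mem_span_singleton.1 hp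
        simp [e]
    simpa using mul_mem (inv_mem ht) hm

theorem trGroup_eq [Finite F] (h2 : 2 ≤ Module.finrank F V)
    (hex : Module.finrank F V = 3 → Nat.card (fixedSub σ) ≠ 2) : h.trGroup = HSU B :=
  le_antisymm h.trGroup_le (h.generated h2 hex)

end IsHerm

end CfsgLib.Classical.Herm
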