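import Cfsg.Agent.Lib.Classical.Unitary.MatrixStructure

/-!
The quotient of `GU` by `SU` and the centre.
-/

set_option autoImplicit false

namespace CfsgLib.Classical.Herm

variable {F : Type*} [Field F] {V : Type*} [AddCommGroup V] [Module F V] {σ : F →+* F}
  {B : V →ₛₗ[σ] V →ₗ[F] F}

namespace IsHerm

variable (h : IsHerm B)
include h

theorem eigen_of_mem_center_HU [Finite F] [FiniteDimensional F V] (hpos : 0 < Module.finrank F V)
    {g : HU B} (hg : g ∈ Subgroup.center (HU B)) :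
    ∃ a : F, a * σ a = 1 ∧ ∀ v, (g : V ≃ₗ[F] V) v = a • v := by
  obtain ⟨b, hb⟩ := h.exists_orthonormal_basis rfl
  obtain ⟨a, ha1, ha⟩ := h.exists_norm_one_ne_one
  have hbb : ∀ i, B (b i) (b i) ≠ 0 := fun i => by rw [hb, if_pos rfl]; exact one_ne_zero
  have heig : ∀ x, B x x ≠ 0 →
      (g : V ≃ₗ[F] V) x = (B x ((g : V ≃ₗ[F] V) x) / B x x) • x := by
    intro x hx
    have h1 := congrArg (fun t : HU B => (t : V ≃ₗ[F] V) x)
      (Subgroup.mem_center_iff.1 hg (h.quasiIso x hx a ha))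
    have h2 : quasi B x hx a ((g : V ≃ₗ[F] V) x) = (g : V ≃ₗ[F] V) (quasi B x hx a x) := h1
    rw [quasi_apply_self, map_smul, quasi_apply] at h2
    have hne : (a : F) - 1 ≠ 0 := sub_ne_zero.2 ha1
    apply smul_right_injective V hne
    show ((a : F) - 1) • (g : V ≃ₗ[F] V) x = ((a : F) - 1) • (B x ((g : V ≃ₗ[F] V) x) / B x x) • x
    rw [sub_smul, one_smul, ← h2]
    match_scalars <;> field_simp <;> ring
  let i₀ : Fin (Module.finrank F V) := ⟨0, hpos⟩
  set c := B (b i₀) ((g : V ≃ₗ[F] V) (b i₀)) / B (b i₀) (b i₀) with hc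
  have hall : ∀ i, (g : V ≃ₗ[F] V) (b i) = c • b i := by
    intro i
    obtain ⟨s, hs⟩ := h.exists_map_of_anisotropic (x := b i₀) (y := b i) (hbb i₀) (by simp [hb])
    have h1 := congrArg (fun t : HU B => (t : V ≃ₗ[F] V) (b i₀)) (Subgroup.mem_center_iff.1 hg s)
    have h2 : (s : V ≃ₗ[F] V) ((g : V ≃ₗ[F] V) (b i₀)) =
        (g : V ≃ₗ[F] V) ((s : V ≃ₗ[F] V) (b i₀)) := h1
    rw [heig _ (hbb i₀), map_smul, hs] at h2
    exact h2.symm
  have hlin : ∀ v, (g : V ≃ₗ[F] V) v = c • v := by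
    have : ((g : V ≃ₗ[F] V) : V →ₗ[F] V) = c • LinearMap.id :=
      b.ext fun i => by rw [LinearMap.smul_apply, LinearMap.id_apply]; exact hall i
    exact fun v => LinearMap.congr_fun this v
  refine ⟨c, ?_, hlin⟩
  have h3 := HU.map_eq g (b i₀) (b i₀)
  rw [hlin, smul_left, smul_right, hb, if_pos rfl] at h3
  linear_combination h3

theorem det_center [Finite F] [FiniteDimensional F V] [Nontrivial V] :
    (Subgroup.center (HU B)).map (HU.det B) =
      (HU.det B).range.map (powMonoidHom (Module.finrank F V)) := by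
  obtain ⟨y, hy⟩ := exists_ne (0 : V)
  obtain ⟨x, hx⟩ := h.exists_anisotropic hy
  ext d
  constructor
  · rintro ⟨g, hg, rfl⟩
    obtain ⟨a, ha, hga⟩ := h.eigen_of_mem_center_HU Module.finrank_pos hg
    have ha' : ((Units.mk0 a (left_ne_zero_of_mul_eq_one ha) : Fˣ) : F) *
        σ ((Units.mk0 a (left_ne_zero_of_mul_eq_one ha) : Fˣ) : F) = 1 := ha
    refine ⟨_, ⟨h.quasiIso x hx _ ha', rfl⟩, ?_⟩
    ext
    rw [powMonoidHom_apply, h.det_quasiIso, Units.val_pow_eq_pow_val, Units.val_mk0]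
    show a ^ Module.finrank F V = ((LinearEquiv.det (g : V ≃ₗ[F] V) : Fˣ) : F)
    rw [LinearEquiv.coe_det,
      show ((g : V ≃ₗ[F] V) : V →ₗ[F] V) = a • LinearMap.id from LinearMap.ext fun v => hga v,
      LinearMap.det_smul, LinearMap.det_id, mul_one]
  · rintro ⟨_, ⟨k, rfl⟩, rfl⟩
    have hk := h.det_norm_one k
    set a : Fˣ := HU.det B k with ha
    let s : HU B := ⟨LinearEquiv.smulOfUnit a, fun u v => by
      show B ((a : F) • u) ((a : F) • v) = B u v
      rw [smul_left, smul_right, ← mul_assoc, mul_comm (σ (a : F)), hk, one_mul]⟩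
    refine ⟨s, Subgroup.mem_center_iff.2 fun g => Subtype.ext (LinearEquiv.ext fun v => ?_), ?_⟩
    · show (g : V ≃ₗ[F] V) ((a : F) • v) = (a : F) • (g : V ≃ₗ[F] V) v
      rw [map_smul]
    · ext
      show ((LinearEquiv.det (s : V ≃ₗ[F] V) : Fˣ) : F) = ((a ^ Module.finrank F V : Fˣ) : F)
      rw [LinearEquiv.coe_det,
        show ((s : V ≃ₗ[F] V) : V →ₗ[F] V) = (a : F) • LinearMap.id from LinearMap.ext fun v => rfl,
        LinearMap.det_smul, LinearMap.det_id, mul_one, Units.val_pow_eq_pow_val]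

theorem exists_quot_det_center [Finite F] [FiniteDimensional F V] [Nontrivial V] {n Q : ℕ}
    (hn : Module.finrank F V = n) (hQ : Nat.card (fixedSub σ) = Q) :
    ∃ φ : HU B →* Multiplicative (ZMod (Nat.gcd n (Q + 1))),
      Function.Surjective φ ∧ φ.ker = HSU B ⊔ Subgroup.center (HU B) := by
  set C := (HU.det B).range with hC
  have hcard : Nat.card C = Q + 1 := by rw [hC, h.det_range, hQ]
  let e : Multiplicative (ZMod (Nat.card C)) ≃* C := zmodCyclicMulEquiv inferInstance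
  have hd : Nat.gcd n (Q + 1) ∣ Nat.card C := by rw [hcard]; exact Nat.gcd_dvd_right _ _
  let π : Multiplicative (ZMod (Nat.card C)) →* Multiplicative (ZMod (Nat.gcd n (Q + 1))) :=
    (ZMod.castHom hd (ZMod (Nat.gcd n (Q + 1)))).toAddMonoidHom.toMultiplicative
  let φ := π.comp (e.symm.toMonoidHom.comp (HU.det B).rangeRestrict)
  have hπ : Function.Surjective π := fun y => by
    obtain ⟨x, hx⟩ := ZMod.castHom_surjective hd (Multiplicative.toAdd y)
    exact ⟨Multiplicative.ofAdd x, congrArg Multiplicative.ofAdd hx⟩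
  refine ⟨φ, hπ.comp (e.symm.surjective.comp (HU.det B).rangeRestrict_surjective), ?_⟩
  have hker : ∀ c : C, π (e.symm c) = 1 ↔ ∃ b : C, b ^ n = c := by
    intro c
    have hne : NeZero (Nat.card C) := ⟨by rw [hcard]; omega⟩
    constructor
    · intro hc
      have h0 : ((Multiplicative.toAdd (e.symm c)).val : ZMod (Nat.gcd n (Q + 1))) = 0 := by
        have h1 : ZMod.castHom hd (ZMod (Nat.gcd n (Q + 1))) (Multiplicative.toAdd (e.symm c)) = 0 :=
          congrArg Multiplicative.toAdd hc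
        rwa [ZMod.castHom_apply, ZMod.cast_eq_val] at h1
      obtain ⟨m, hm⟩ := (ZMod.natCast_eq_zero_iff _ _).1 h0
      have hab := Nat.gcd_eq_gcd_ab n (Q + 1)
      refine ⟨e (Multiplicative.ofAdd ((Nat.gcdA n (Q + 1) * m : ℤ) : ZMod (Nat.card C))), ?_⟩
      rw [← map_pow, ← ofAdd_nsmul, ← MulEquiv.eq_symm_apply]
      apply Multiplicative.toAdd.injective
      rw [toAdd_ofAdd, nsmul_eq_mul, ← ZMod.natCast_zmod_val (Multiplicative.toAdd (e.symm c)),
        hm, Nat.cast_mul]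
      have h2 : ((Q + 1 : ℕ) : ZMod (Nat.card C)) = 0 := by
        rw [← hcard, ZMod.natCast_self]
      have h3 := congrArg (fun z : ℤ => (z : ZMod (Nat.card C))) hab
      push_cast at h3 h2 ⊢
      rw [h3, h2]
      ring
    · rintro ⟨b, rfl⟩
      rw [map_pow, map_pow]
      apply Multiplicative.toAdd.injective
      rw [toAdd_pow, nsmul_eq_mul, toAdd_one]
      rw [(ZMod.natCast_eq_zero_iff _ _).2 (Nat.gcd_dvd_left n (Q + 1)), zero_mul]
  ext g
  rw [MonoidHom.mem_ker, sup_comm, ← Subgroup.comap_map_eq, Subgroup.mem_comap, h.det_center, hn]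
  show π (e.symm ((HU.det B).rangeRestrict g)) = 1 ↔ _
  rw [hker, Subgroup.mem_map]
  constructor
  · rintro ⟨b, hb⟩
    exact ⟨b, b.2, by rw [powMonoidHom_apply]; exact congrArg Subtype.val hb⟩
  · rintro ⟨b, hb, e⟩
    exact ⟨⟨b, hb⟩, Subtype.ext e⟩

end IsHerm

theorem exists_gu_quot {F : Type*} [Field F] [Fintype F] {q : ℕ} (hF : Fintype.card F = q ^ 2)
    (n : ℕ) (hn : 1 ≤ n) :
    ∃ φ : ↥(Cfsg.GU n F q) →* Multiplicative (ZMod (Nat.gcd n (q + 1))), Function.Surjective φ ∧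
      φ.ker = (Matrix.GeneralLinearGroup.det : Matrix.GeneralLinearGroup (Fin n) F →* Fˣ).ker.subgroupOf
        (Cfsg.GU n F q) ⊔ Subgroup.center ↥(Cfsg.GU n F q) := by
  have : Nonempty (Fin n) := ⟨⟨0, hn⟩⟩
  obtain ⟨φ, hφ, hker⟩ := (hermStd_isHerm (n := n) hF).exists_quot_det_center finrank_std
    (card_fixed_powHom hF)
  refine ⟨φ.comp (guEquiv n hF).toMonoidHom, hφ.comp (guEquiv n hF).surjective, ?_⟩
  rw [← MonoidHom.comap_ker, hker,
    ← Subgroup.comap_sup_eq _ _ _ (guEquiv n hF).surjective, ← map_center_of_equiv (guEquiv n hF),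
    Subgroup.comap_map_eq_self_of_injective (guEquiv n hF).injective]
  congr 1
  ext g
  rw [Subgroup.mem_comap, MonoidHom.mem_ker, Subgroup.mem_subgroupOf, MonoidHom.mem_ker,
    Units.ext_iff, Units.ext_iff, MulEquiv.coe_toMonoidHom, guEquiv_det hF]
  rfl

end CfsgLib.Classical.Herm
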