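import Cfsg.Agent.Lib.Classical.Iso
import Cfsg.Agent.Lib.Classical.Unitary.Field

/-!
Hermitian forms over finite fields: orthonormal bases, isotropic vectors, Witt's theorem and
quasi-reflections.
-/

set_option autoImplicit false

namespace CfsgLib.Classical.Herm

variable {F : Type*} [Field F] {V : Type*} [AddCommGroup V] [Module F V] {σ : F →+* F}

/-- A non-degenerate form which is conjugate symmetric for an involutory automorphism. -/
structure IsHerm (B : V →ₛₗ[σ] V →ₗ[F] F) : Prop where
  invol : IsInvol σ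
  symm : ∀ x y, σ (B x y) = B y x
  nondeg : ∀ x, (∀ y, B x y = 0) → x = 0

/-- The isometry group of a sesquilinear form. -/
abbrev HU (B : V →ₛₗ[σ] V →ₗ[F] F) : Subgroup (V ≃ₗ[F] V) := Iso F fun u v => B u v

/-- The determinant on the isometry group. -/
noncomputable def HU.det (B : V →ₛₗ[σ] V →ₗ[F] F) : HU B →* Fˣ :=
  LinearEquiv.det.comp (HU B).subtype

/-- The special unitary group of a form. -/
noncomputable abbrev HSU (B : V →ₛₗ[σ] V →ₗ[F] F) : Subgroup (HU B) := (HU.det B).ker

variable {B : V →ₛₗ[σ] V →ₗ[F] F}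

theorem HU.map_eq (g : HU B) (u v : V) : B ((g : V ≃ₗ[F] V) u) ((g : V ≃ₗ[F] V) v) = B u v :=
  g.2 u v

theorem smul_left (a : F) (x y : V) : B (a • x) y = σ a * B x y := by
  rw [LinearMap.map_smulₛₗ, LinearMap.smul_apply, smul_eq_mul]

theorem smul_right (a : F) (x y : V) : B x (a • y) = a * B x y := by
  rw [LinearMap.map_smul, smul_eq_mul]

theorem add_left (x x' y : V) : B (x + x') y = B x y + B x' y := by
  rw [map_add, LinearMap.add_apply]

theorem sub_left (x x' y : V) : B (x - x') y = B x y - B x' y := by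
  rw [map_sub, LinearMap.sub_apply]

theorem zero_left (y : V) : B 0 y = 0 := by rw [map_zero, LinearMap.zero_apply]

theorem linearIndependent_pair_of_perp {x y : V} (hx : B x x ≠ 0) (hy : B y y ≠ 0)
    (h1 : B x y = 0) (h2 : B y x = 0) : LinearIndependent F ![x, y] := by
  rw [LinearIndependent.pair_iff]
  intro a b hab
  have e1 := congrArg (B x) hab
  have e2 := congrArg (B y) hab
  rw [map_add, smul_right, smul_right, map_zero, h1, mul_zero, add_zero] at e1
  rw [map_add, smul_right, smul_right, map_zero, h2, mul_zero, zero_add] at e2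
  exact ⟨(mul_eq_zero.1 e1).resolve_right hx, (mul_eq_zero.1 e2).resolve_right hy⟩

namespace IsHerm

variable (h : IsHerm B)
include h

theorem self_fixed (x : V) : σ (B x x) = B x x := h.symm x x

theorem eq_zero_symm {x y : V} (hxy : B x y = 0) : B y x = 0 := by
  rw [← h.symm x y, hxy, map_zero]

theorem exists_apply_eq_one {x : V} (hx : x ≠ 0) : ∃ y, B x y = 1 := by
  by_contra hc
  push Not at hc
  refine hx (h.nondeg x fun y => ?_)
  by_contra hy
  exact hc ((B x y)⁻¹ • y) (by rw [smul_right, inv_mul_cancel₀ hy])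

theorem apply_smul_add (a b : F) (u v : V) :
    B (a • u + b • v) (a • u + b • v) =
      a * σ a * B u u + b * σ b * B v v + (σ a * b * B u v + σ (σ a * b * B u v)) := by
  simp only [map_add, LinearMap.add_apply, smul_left, smul_right, map_mul, h.invol.invol, h.symm]
  ring

omit h in
theorem smul_self (a : F) (x : V) : B (a • x) (a • x) = a * σ a * B x x := by
  rw [smul_left, smul_right]; ring

theorem add_self_of_perp {x y : V} (hxy : B x y = 0) : B (x + y) (x + y) = B x x + B y y := by
  simp [hxy, h.eq_zero_symm hxy]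

theorem exists_anisotropic {x : V} (hx : x ≠ 0) : ∃ y : V, B y y ≠ 0 := by
  obtain ⟨y, hy⟩ := h.exists_apply_eq_one hx
  by_contra hc
  push Not at hc
  obtain ⟨a, ha⟩ := h.invol.exists_trace_ne_zero
  have key := h.apply_smul_add 1 a x y
  rw [hc, hc, hc, hy] at key
  simp at key
  exact ha key.symm

theorem scale_to {x : V} (hx : B x x ≠ 0) {μ : F} (hμ : σ μ = μ) (hμ0 : μ ≠ 0) [Finite F] :
    ∃ a : F, a ≠ 0 ∧ B (a • x) (a • x) = μ := by
  obtain ⟨a, ha⟩ := h.invol.exists_norm_eq (μ := μ / B x x) (by rw [map_div₀, hμ, h.self_fixed])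
  refine ⟨a, ?_, by rw [smul_self, ha, div_mul_cancel₀ _ hx]⟩
  rintro rfl
  rw [zero_mul] at ha
  exact div_ne_zero hμ0 hx ha.symm

/-- The vectors orthogonal to a given one. -/
def perp (_h : IsHerm B) (x : V) : Submodule F V := LinearMap.ker (B x)

theorem mem_perp {x y : V} : y ∈ h.perp x ↔ B x y = 0 := LinearMap.mem_ker

theorem isCompl_perp {x : V} (hx : B x x ≠ 0) : IsCompl (Submodule.span F {x}) (h.perp x) := by
  constructor
  · rw [Submodule.disjoint_def]
    intro y hy hy'
    obtain ⟨a, rfl⟩ := Submodule.mem_span_singleton.1 hy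
    rw [h.mem_perp, smul_right, mul_eq_zero] at hy'
    rw [hy'.resolve_right hx, zero_smul]
  · rw [Submodule.codisjoint_iff_exists_add_eq]
    intro y
    refine ⟨(B x y / B x x) • x, y - (B x y / B x x) • x,
      Submodule.smul_mem _ _ (Submodule.mem_span_singleton_self x), ?_, add_sub_cancel _ _⟩
    rw [h.mem_perp, map_sub, smul_right, div_mul_cancel₀ _ hx, sub_self]

theorem finrank_perp [FiniteDimensional F V] {x : V} (hx : B x x ≠ 0) :
    Module.finrank F (h.perp x) + 1 = Module.finrank F V := by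
  rw [← Submodule.finrank_add_eq_of_isCompl (h.isCompl_perp hx),
    finrank_span_singleton (fun hx0 => hx (by rw [hx0]; exact zero_left _)), add_comm]

omit h in
/-- The restriction of a form to a submodule. -/
def restrict (B : V →ₛₗ[σ] V →ₗ[F] F) (U : Submodule F V) : U →ₛₗ[σ] U →ₗ[F] F where
  toFun x := (B (x : V)).comp U.subtype
  map_add' _ _ := LinearMap.ext fun _ => add_left (B := B) _ _ _
  map_smul' _ _ := LinearMap.ext fun _ => smul_left (B := B) _ _ _

omit h in
@[simp] theorem restrict_apply (U : Submodule F V) (x y : U) : restrict B U x y = B x y := rfl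

theorem restrict_herm {U : Submodule F V} (hU : ∀ x ∈ U, (∀ y ∈ U, B x y = 0) → x = 0) :
    IsHerm (restrict B U) where
  invol := h.invol
  symm x y := h.symm x y
  nondeg x hx := Subtype.ext (hU x x.2 fun y hy => hx ⟨y, hy⟩)

theorem perp_nondeg {x : V} (hx : B x x ≠ 0) :
    ∀ y ∈ h.perp x, (∀ z ∈ h.perp x, B y z = 0) → y = 0 := by
  intro y hy hz
  refine h.nondeg y fun w => ?_
  obtain ⟨a, b, ha, hb, rfl⟩ :=
    Submodule.codisjoint_iff_exists_add_eq.1 (h.isCompl_perp hx).codisjoint w
  obtain ⟨c, rfl⟩ := Submodule.mem_span_singleton.1 ha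
  rw [map_add, hz b hb, smul_right, h.eq_zero_symm (h.mem_perp.1 hy), mul_zero, add_zero]

theorem restrict_perp {x : V} (hx : B x x ≠ 0) : IsHerm (restrict B (h.perp x)) :=
  h.restrict_herm (h.perp_nondeg hx)

theorem add_add_apply (x : V) (w w' : Submodule.span F ({x} : Set V)) (u u' : h.perp x) :
    B ((w : V) + u) ((w' : V) + u') = B w w' + B u u' := by
  obtain ⟨a, ha⟩ := Submodule.mem_span_singleton.1 w.2
  obtain ⟨b, hb⟩ := Submodule.mem_span_singleton.1 w'.2
  have e1 : B (w : V) u' = 0 := by rw [← ha, smul_left, h.mem_perp.1 u'.2, mul_zero]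
  have e2 : B (u : V) w' = 0 := by
    rw [← hb, smul_right, h.eq_zero_symm (h.mem_perp.1 u.2), mul_zero]
  rw [add_left, map_add, map_add, e1, e2, add_zero, zero_add]

theorem exists_orthonormal_basis [Finite F] [FiniteDimensional F V] {n : ℕ}
    (hn : Module.finrank F V = n) :
    ∃ b : Module.Basis (Fin n) F V, ∀ i j, B (b i) (b j) = if i = j then 1 else 0 := by
  induction n generalizing V with
  | zero => exact ⟨Module.finBasisOfFinrankEq F V hn, fun i => i.elim0⟩
  | succ n ih =>
    have : Nontrivial V := Module.nontrivial_of_finrank_pos (R := F) (by omega)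
    obtain ⟨y, hy⟩ := exists_ne (0 : V)
    obtain ⟨x, hx⟩ := h.exists_anisotropic hy
    obtain ⟨a, ha, hax⟩ := h.scale_to hx (map_one σ) one_ne_zero
    set e := a • x with he
    have he0 : B e e ≠ 0 := by rw [hax]; exact one_ne_zero
    obtain ⟨b, hb⟩ := ih (h.restrict_perp he0) (by have := h.finrank_perp he0; omega)
    set v : Fin (n + 1) → V := Fin.cons e (fun i => (b i : V)) with hv
    have horth : ∀ i j, B (v i) (v j) = if i = j then 1 else 0 := by
      intro i j
      have hcross : ∀ k, B e (b k : V) = 0 := fun k => h.mem_perp.1 (b k).2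
      cases i using Fin.cases with
      | zero =>
        cases j using Fin.cases with
        | zero => simp [hv, hax]
        | succ j => simp [hv, hcross, (Fin.succ_ne_zero j).symm]
      | succ i =>
        cases j using Fin.cases with
        | zero => simp [hv, h.eq_zero_symm (hcross i)]
        | succ j => simpa [hv] using hb i j
    have hli : LinearIndependent F v := by
      rw [Fintype.linearIndependent_iff]
      intro c hc i
      have h2 := congrArg (B (v i)) hc
      simpa [map_sum, horth] using h2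
    refine ⟨basisOfLinearIndependentOfCardEqFinrank hli (by simp [hn]), ?_⟩
    simpa [coe_basisOfLinearIndependentOfCardEqFinrank] using horth

omit h in
theorem apply_eq_sum {n : ℕ} {b : Module.Basis (Fin n) F V}
    (hb : ∀ i j, B (b i) (b j) = if i = j then 1 else 0) (u v : V) :
    B u v = ∑ i, σ (b.repr u i) * b.repr v i := by
  conv_lhs => rw [← b.sum_repr u, ← b.sum_repr v]
  rw [map_sum]
  refine Finset.sum_congr rfl fun i _ => ?_
  rw [smul_right, map_sum, LinearMap.sum_apply, Finset.sum_eq_single i]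
  · rw [smul_left, hb, if_pos rfl, mul_one]
    exact mul_comm _ _
  · intro j _ hj
    rw [smul_left, hb, if_neg hj, mul_zero]
  · simp

omit h in
theorem exists_isometry_of_finrank_eq [Finite F] {W : Type*} [AddCommGroup W] [Module F W]
    [FiniteDimensional F V] [FiniteDimensional F W] {B' : W →ₛₗ[σ] W →ₗ[F] F}
    (h : IsHerm B) (h' : IsHerm B') (hd : Module.finrank F V = Module.finrank F W) :
    ∃ e : V ≃ₗ[F] W, ∀ u v, B' (e u) (e v) = B u v := by
  obtain ⟨b, hb⟩ := h.exists_orthonormal_basis rfl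
  obtain ⟨c, hc⟩ := h'.exists_orthonormal_basis hd.symm
  refine ⟨b.equiv c (Equiv.refl _), fun u v => ?_⟩
  rw [apply_eq_sum hc, apply_eq_sum hb]
  simp [Module.Basis.equiv]

theorem exists_map_of_anisotropic [Finite F] [FiniteDimensional F V] {x y : V}
    (hx : B x x ≠ 0) (hxy : B x x = B y y) : ∃ g : HU B, (g : V ≃ₗ[F] V) x = y := by
  have hy : B y y ≠ 0 := hxy ▸ hx
  obtain ⟨e, he⟩ := exists_isometry_of_finrank_eq (h.restrict_perp hx) (h.restrict_perp hy)
    (by have := h.finrank_perp hx; have := h.finrank_perp hy; omega)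
  have hx0 : x ≠ 0 := fun hx0 => hx (by rw [hx0]; exact zero_left _)
  have hy0 : y ≠ 0 := fun hy0 => hy (by rw [hy0]; exact zero_left _)
  let l : Submodule.span F {x} ≃ₗ[F] Submodule.span F {y} :=
    (LinearEquiv.toSpanNonzeroSingleton F V x hx0).symm.trans
      (LinearEquiv.toSpanNonzeroSingleton F V y hy0)
  let g : V ≃ₗ[F] V := (Submodule.prodEquivOfIsCompl _ _ (h.isCompl_perp hx)).symm.trans
    ((l.prodCongr e).trans (Submodule.prodEquivOfIsCompl _ _ (h.isCompl_perp hy)))
  have hg : ∀ (w : Submodule.span F ({x} : Set V)) (u : h.perp x),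
      g ((w : V) + u) = (l w : V) + e u := by
    intro w u
    have hs : (Submodule.prodEquivOfIsCompl _ _ (h.isCompl_perp hx)).symm ((w : V) + u) = (w, u) := by
      rw [LinearEquiv.symm_apply_eq]; rfl
    simp [g, hs]
  have hl : ∀ a : F, l ⟨a • x, Submodule.smul_mem _ _ (Submodule.mem_span_singleton_self x)⟩ =
      ⟨a • y, Submodule.smul_mem _ _ (Submodule.mem_span_singleton_self y)⟩ := by
    intro a
    apply Subtype.ext
    have : (LinearEquiv.toSpanNonzeroSingleton F V x hx0).symm
        ⟨a • x, Submodule.smul_mem _ _ (Submodule.mem_span_singleton_self x)⟩ = a := by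
      rw [LinearEquiv.symm_apply_eq]; exact Subtype.ext rfl
    simp [l, this]
  refine ⟨⟨g, fun p r => ?_⟩, ?_⟩
  · obtain ⟨w, u, rfl⟩ := CfsgLib.Classical.exists_decomp (h.isCompl_perp hx) p
    obtain ⟨w', u', rfl⟩ := CfsgLib.Classical.exists_decomp (h.isCompl_perp hx) r
    show B (g _) (g _) = B _ _
    rw [hg, hg, h.add_add_apply, h.add_add_apply]
    obtain ⟨w, hw⟩ := w
    obtain ⟨w', hw'⟩ := w'
    obtain ⟨a, rfl⟩ := Submodule.mem_span_singleton.1 hw
    obtain ⟨c, rfl⟩ := Submodule.mem_span_singleton.1 hw'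
    have he' : B ((e u : h.perp y) : V) (e u') = B (u : V) u' := he u u'
    rw [he', hl a, hl c]
    simp only [smul_left, smul_right, hxy]
  · have h1 := hg ⟨x, Submodule.mem_span_singleton_self x⟩ 0
    have h2 := hl 1
    simp only [one_smul] at h2
    rw [h2, map_zero] at h1
    simpa using h1

theorem exists_extension [Finite F] [FiniteDimensional F V] (X : Submodule F V) (φ : X →ₗ[F] V)
    (hinj : Function.Injective φ) (hφ : ∀ a b : X, B (φ a) (φ b) = B (a : V) b) :
    ∃ g : HU B, ∀ a : X, (g : V ≃ₗ[F] V) a = φ a := by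
  induction hk : Module.finrank F V using Nat.strong_induction_on generalizing V with
  | _ k ih =>
  subst hk
  -- the case of an anisotropic vector in the domain
  have step : ∀ (X : Submodule F V) (φ : X →ₗ[F] V), Function.Injective φ →
      (∀ a b : X, B (φ a) (φ b) = B (a : V) b) → ∀ x : X, B (x : V) x ≠ 0 →
      ∃ g : HU B, ∀ a : X, (g : V ≃ₗ[F] V) a = φ a := by
    intro X φ hinj hφ x hx
    obtain ⟨g₀, hg₀⟩ := h.exists_map_of_anisotropic hx (hφ x x).symm
    let φ' : X →ₗ[F] V := (g₀ : V ≃ₗ[F] V).symm.toLinearMap.comp φ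
    have hφ'x : φ' x = x := by
      show (g₀ : V ≃ₗ[F] V).symm (φ x) = x
      rw [LinearEquiv.symm_apply_eq, hg₀]
    have hφ' : ∀ a b : X, B (φ' a) (φ' b) = B (a : V) b := fun a b => by
      rw [← hφ a b]
      exact ((HU.map_eq g₀ _ _).symm).trans (by simp [φ'])
    have hmem : ∀ a : (X.comap (h.perp x).subtype),
        φ' ⟨((a : h.perp x) : V), a.2⟩ ∈ h.perp x := fun a => by
      rw [h.mem_perp]
      calc B (x : V) (φ' ⟨((a : h.perp x) : V), a.2⟩)
          = B (φ' x) (φ' ⟨((a : h.perp x) : V), a.2⟩) := by rw [hφ'x]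
        _ = B (x : V) ((a : h.perp x) : V) := hφ' _ _
        _ = 0 := h.mem_perp.1 (a : h.perp x).2
    let ψ : X.comap (h.perp x).subtype →ₗ[F] h.perp x :=
      LinearMap.codRestrict _ (φ'.comp
        ({ toFun := fun a => ⟨((a : h.perp x) : V), a.2⟩
           map_add' := fun _ _ => rfl
           map_smul' := fun _ _ => rfl } : X.comap (h.perp x).subtype →ₗ[F] X)) hmem
    obtain ⟨g₁, hg₁⟩ := ih _ (by have := h.finrank_perp hx; omega) (h.restrict_perp hx)
      (X.comap (h.perp x).subtype) ψ (fun a b hab => by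
        have h1 : φ' ⟨((a : h.perp x) : V), a.2⟩ = φ' ⟨((b : h.perp x) : V), b.2⟩ :=
          congrArg Subtype.val hab
        have h2 := hinj ((g₀ : V ≃ₗ[F] V).symm.injective h1)
        exact Subtype.ext (Subtype.ext (congrArg (fun t : X => (t : V)) h2))) (fun a b => hφ' _ _) rfl
    have hc := h.isCompl_perp hx
    let G : HU B := sumHom (f := fun u v => B u v) hc (h.add_add_apply x)
      (1, ⟨(g₁ : h.perp x ≃ₗ[F] h.perp x), fun a b => g₁.2 a b⟩)
    refine ⟨g₀ * G, fun a => ?_⟩
    have hx0 : (x : V) ∈ Submodule.span F {(x : V)} := Submodule.mem_span_singleton_self _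
    set c := B (x : V) a / B (x : V) x with hcdef
    have hu : (a : V) - c • (x : V) ∈ h.perp x := by
      rw [h.mem_perp, map_sub, smul_right, hcdef, div_mul_cancel₀ _ hx, sub_self]
    have hG := sumHom_apply (f := fun u v => B u v) hc (h.add_add_apply x)
      (1, ⟨(g₁ : h.perp x ≃ₗ[F] h.perp x), fun a b => g₁.2 a b⟩)
      ⟨c • (x : V), Submodule.smul_mem _ _ hx0⟩ ⟨_, hu⟩
    simp only [add_sub_cancel] at hG
    have hx' : (⟨(a : V) - c • (x : V), hu⟩ : h.perp x) ∈ X.comap (h.perp x).subtype :=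
      X.sub_mem a.2 (X.smul_mem _ x.2)
    have hga := congrArg (fun t : h.perp x => (t : V)) (hg₁ ⟨_, hx'⟩)
    have hψ : ((ψ ⟨_, hx'⟩ : h.perp x) : V) = φ' (a - c • x) := rfl
    show (g₀ : V ≃ₗ[F] V) ((G : V ≃ₗ[F] V) (a : V)) = φ a
    rw [show ((G : V ≃ₗ[F] V) (a : V)) = φ' a by
      rw [hG]
      simp only [hψ] at hga
      rw [hga, map_sub, map_smul, hφ'x]
      simp]
    simp [φ']
  by_cases haniso : ∃ x : X, B (x : V) x ≠ 0
  · obtain ⟨x, hx⟩ := haniso
    exact step X φ hinj hφ x hx
  push Not at haniso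
  by_cases hbot : X = ⊥
  · subst hbot
    exact ⟨1, fun a => by
      have ha : a = 0 := Subsingleton.elim _ _
      simp [ha]⟩
  -- totally isotropic: add an isotropic partner of a vector
  have htot : ∀ a b : X, B (a : V) b = 0 := by
    intro a b
    by_contra hab
    obtain ⟨t, ht⟩ := h.invol.exists_trace_ne_zero
    have key := h.apply_smul_add 1 (t / B (a : V) b) (a : V) b
    have h0 := haniso (⟨(1 : F) • (a : V) + (t / B (a : V) b) • (b : V),
      X.add_mem (X.smul_mem _ a.2) (X.smul_mem _ b.2)⟩)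
    rw [h0, haniso, haniso] at key
    simp [hab] at key
    exact ht key.symm
  obtain ⟨x, hxX, hx0⟩ := Submodule.exists_mem_ne_zero_of_ne_bot hbot
  obtain ⟨Y, hxY, hY⟩ : ∃ Y : Submodule F V, Submodule.span F {x} ⊔ Y = X ∧ x ∉ Y := by
    obtain ⟨Y', hY'⟩ := Submodule.exists_isCompl
      ((Submodule.span F {(⟨x, hxX⟩ : X)}))
    refine ⟨Y'.map X.subtype, ?_, ?_⟩
    · have hmap := congrArg (Submodule.map X.subtype) hY'.sup_eq_top
      rwa [Submodule.map_sup, Submodule.map_span, Set.image_singleton, Submodule.map_top,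
        Submodule.range_subtype] at hmap
    · rintro ⟨z, hz, hzx⟩
      have hz' : z = ⟨x, hxX⟩ := Subtype.ext hzx
      have := Submodule.disjoint_def.1 hY'.disjoint z (hz' ▸ Submodule.mem_span_singleton_self _) hz
      exact hx0 (by rw [← hzx, this]; rfl)
  have hYX : Y ≤ X := hxY ▸ le_sup_right
  -- a partner for an injective isometric image
  have partner : ∀ (ρ : X →ₗ[F] V), Function.Injective ρ → (∀ a b : X, B (ρ a) (ρ b) = B (a : V) b) →
      ∃ f : V, B (ρ ⟨x, hxX⟩) f = 1 ∧ B f f = 0 ∧
        ∀ (y : X), (y : V) ∈ Y → B (ρ y) f = 0 := by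
    intro ρ hρi hρ
    obtain ⟨f₀, hf1, hf2⟩ : ∃ f : V, B (ρ ⟨x, hxX⟩) f = 1 ∧
        ∀ (y : X), (y : V) ∈ Y → B (ρ y) f = 0 := by
      let R : Submodule F V := (Y.comap X.subtype).map ρ
      have hnot : ρ ⟨x, hxX⟩ ∉ R := by
        rintro ⟨y, hy, hyx⟩
        rw [hρi hyx] at hy
        exact hY hy
      -- a vector orthogonal to `R` but not to the image of `x`
      by_contra hc
      push Not at hc
      have hker : ∀ v : V, (∀ r ∈ R, B r v = 0) → B (ρ ⟨x, hxX⟩) v = 0 := by
        intro v hv
        by_contra hne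
        obtain ⟨y, hy, hy'⟩ := hc ((B (ρ ⟨x, hxX⟩) v)⁻¹ • v)
          (by rw [smul_right, inv_mul_cancel₀ hne])
        exact hy' (by rw [smul_right, hv _ ⟨y, hy, rfl⟩, mul_zero])
      apply hnot
      classical
      let b := Module.finBasis F R
      have hspan : B (ρ ⟨x, hxX⟩) ∈ Submodule.span F (Set.range fun i => B (b i : V)) := by
        apply mem_span_of_iInf_ker_le_ker
        intro v hv
        rw [LinearMap.mem_ker]
        refine hker v fun r hr => ?_
        have hr' : (⟨r, hr⟩ : R) = ∑ i, b.repr ⟨r, hr⟩ i • b i := (b.sum_repr _).symm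
        have hrv : r = ∑ i, b.repr ⟨r, hr⟩ i • (b i : V) := by
          have h2 := congrArg Subtype.val hr'
          rw [Submodule.coe_sum] at h2
          exact h2
        rw [Submodule.mem_iInf] at hv
        rw [hrv, map_sum, LinearMap.sum_apply]
        refine Finset.sum_eq_zero fun i _ => ?_
        rw [smul_left, LinearMap.mem_ker.1 (hv i), mul_zero]
      rw [Submodule.mem_span_range_iff_exists_fun] at hspan
      obtain ⟨c, hc'⟩ := hspan
      have heq : ρ ⟨x, hxX⟩ = ∑ i, σ (c i) • (b i : V) := by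
        rw [← sub_eq_zero]
        refine h.nondeg _ fun v => ?_
        rw [sub_left, ← hc', map_sum, LinearMap.sum_apply, LinearMap.sum_apply, sub_eq_zero]
        refine Finset.sum_congr rfl fun i _ => ?_
        rw [smul_left, h.invol.invol, LinearMap.smul_apply, smul_eq_mul]
      rw [heq]
      exact Submodule.sum_mem _ fun i _ => Submodule.smul_mem _ _ (b i).2
    obtain ⟨t, ht⟩ := h.invol.exists_trace_eq (μ := -B f₀ f₀) (by rw [map_neg, h.self_fixed])
    have hxx : B (ρ ⟨x, hxX⟩) (ρ ⟨x, hxX⟩) = 0 := by rw [hρ]; exact htot _ _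
    refine ⟨f₀ + t • ρ ⟨x, hxX⟩, ?_, ?_, fun y hy => ?_⟩
    · rw [map_add, hf1, smul_right, hxx, mul_zero, add_zero]
    · have hfx : B f₀ (ρ ⟨x, hxX⟩) = 1 := by rw [← h.symm, hf1, map_one]
      rw [add_left, map_add, map_add, smul_left, smul_left, smul_right, smul_right, hxx, hfx, hf1]
      linear_combination ht
    · rw [map_add, hf2 y hy, smul_right, hρ, htot, mul_zero, add_zero]
  obtain ⟨f, hf1, hf2, hf3⟩ := partner X.subtype Subtype.val_injective (fun _ _ => rfl)
  obtain ⟨f', hf1', hf2', hf3'⟩ := partner φ hinj hφ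
  -- `X ⊔ span f` with the extended map
  have hall : ∀ a : X, B (a : V) f = B (φ a) f' := by
    intro a
    have hmem : (a : V) ∈ Submodule.span F {x} ⊔ Y := hxY.symm ▸ a.2
    obtain ⟨p, hp, r, hr, hpr⟩ := Submodule.mem_sup.1 hmem
    obtain ⟨c, rfl⟩ := Submodule.mem_span_singleton.1 hp
    have ha : a = c • (⟨x, hxX⟩ : X) + ⟨r, hYX hr⟩ := Subtype.ext hpr.symm
    rw [ha, map_add, map_smul]
    simp only [Submodule.coe_add, Submodule.coe_smul, add_left, smul_left]
    rw [show B x f = 1 from hf1, hf1', show B r f = 0 from hf3 ⟨r, hYX hr⟩ hr,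
      hf3' ⟨r, hYX hr⟩ hr]
  have hfX : f ∉ X := fun hfX => by
    have := htot ⟨x, hxX⟩ ⟨f, hfX⟩
    rw [show B x f = 1 from hf1] at this
    exact one_ne_zero this
  have hfφ : f' ∉ LinearMap.range φ := by
    rintro ⟨a, ha⟩
    rw [← ha, hφ, htot] at hf1'
    exact zero_ne_one hf1'
  let P : Submodule F V := X ⊔ Submodule.span F {f}
  have hdec : ∀ p : P, ∃ ac : X × F, (p : V) = (ac.1 : V) + ac.2 • f := by
    intro p
    obtain ⟨a, ha, b, hb, hab⟩ := Submodule.mem_sup.1 p.2
    obtain ⟨c, rfl⟩ := Submodule.mem_span_singleton.1 hb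
    exact ⟨(⟨a, ha⟩, c), hab.symm⟩
  choose dec hdec using hdec
  have huniq : ∀ (a a' : X) (c c' : F), (a : V) + c • f = (a' : V) + c' • f → a = a' ∧ c = c' := by
    intro a a' c c' he
    have hc : c = c' := by
      by_contra hne
      apply hfX
      have : (c - c') • f = (a' : V) - a := by linear_combination (norm := module) he
      rw [← inv_smul_smul₀ (sub_ne_zero.2 hne) f, this]
      exact X.smul_mem _ (X.sub_mem a'.2 a.2)
    subst hc
    exact ⟨Subtype.ext (add_right_cancel he), rfl⟩
  let Φ : P →ₗ[F] V :=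
    { toFun := fun p => φ (dec p).1 + (dec p).2 • f'
      map_add' := fun p r => by
        obtain ⟨h1, h2⟩ := huniq (dec (p + r)).1 ((dec p).1 + (dec r).1) (dec (p + r)).2
          ((dec p).2 + (dec r).2) (by
            rw [← hdec, Submodule.coe_add, Submodule.coe_add, hdec p, hdec r]; module)
        rw [h1, h2, map_add]; module
      map_smul' := fun c p => by
        obtain ⟨h1, h2⟩ := huniq (dec (c • p)).1 (c • (dec p).1) (dec (c • p)).2 (c * (dec p).2) (by
            rw [← hdec, Submodule.coe_smul, Submodule.coe_smul, hdec p]; module)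
        rw [h1, h2, map_smul, RingHom.id_apply]; module }
  have hΦ : ∀ p r : P, B (Φ p) (Φ r) = B (p : V) r := by
    intro p r
    show B (φ (dec p).1 + (dec p).2 • f') (φ (dec r).1 + (dec r).2 • f') = _
    rw [hdec p, hdec r]
    simp only [map_add, LinearMap.add_apply, smul_left, smul_right, hφ, hf2, hf2', ← hall]
    rw [show B f' (φ (dec r).1) = B f ((dec r).1 : V) by
      rw [← h.symm, ← hall, h.symm]]
  have hΦi : Function.Injective Φ := by
    rw [injective_iff_map_eq_zero]
    intro p hp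
    have hp' : φ (dec p).1 + (dec p).2 • f' = 0 := hp
    have hc : (dec p).2 = 0 := by
      by_contra hne
      apply hfφ
      refine ⟨-((dec p).2⁻¹ • (dec p).1), ?_⟩
      rw [map_neg, map_smul, ← smul_neg, inv_smul_eq_iff₀ hne]
      linear_combination (norm := module) -hp'
    rw [hc, zero_smul, add_zero] at hp'
    have ha : (dec p).1 = 0 := hinj (by rw [hp', map_zero])
    exact Subtype.ext (by rw [hdec p, hc, ha]; simp)
  obtain ⟨t, ht⟩ := h.invol.exists_trace_ne_zero
  have hPmem : x + t • f ∈ P :=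
    P.add_mem (Submodule.mem_sup_left hxX)
      (Submodule.mem_sup_right (Submodule.smul_mem _ _ (Submodule.mem_span_singleton_self f)))
  have hPne : B (x + t • f) (x + t • f) ≠ 0 := by
    have hfx : B f x = 1 := by rw [← h.symm, show B x f = 1 from hf1, map_one]
    rw [add_left, map_add, map_add, smul_left, smul_left, smul_right, smul_right, hf2, hfx,
      show B x f = 1 from hf1, show B x x = 0 from htot ⟨x, hxX⟩ ⟨x, hxX⟩]
    simpa using ht
  obtain ⟨g, hg⟩ := step P Φ hΦi hΦ ⟨_, hPmem⟩ hPne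
  refine ⟨g, fun a => ?_⟩
  have := hg ⟨(a : V), Submodule.mem_sup_left a.2⟩
  obtain ⟨h1, h2⟩ := huniq (dec ⟨(a : V), Submodule.mem_sup_left a.2⟩).1 a
    (dec ⟨(a : V), Submodule.mem_sup_left a.2⟩).2 0 (by rw [← hdec]; simp)
  rw [this]
  show φ _ + _ • f' = φ a
  rw [h1, h2, zero_smul, add_zero]

end IsHerm

end CfsgLib.Classical.Herm
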