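import Cfsg.Agent.Lib.Classical.Unitary.Transvection
import Cfsg.Agent.Lib.Classical.Unitary.Matrix

/-!
Totally isotropic subspaces of a Hermitian space: counting and stabilisers.
-/

set_option autoImplicit false

namespace CfsgLib.Classical.Herm

variable {F : Type*} [Field F] {V : Type*} [AddCommGroup V] [Module F V] {σ : F →+* F}
  {B : V →ₛₗ[σ] V →ₗ[F] F}

/-- The factors of the order of the unitary group. -/
def ordFactor (Q i : ℕ) : ℕ := if Even i then Q ^ (i + 1) + 1 else Q ^ (i + 1) - 1

/-- Their product. -/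
def ordProd (Q n : ℕ) : ℕ := ∏ i ∈ Finset.range n, ordFactor Q i

theorem ordProd_pos {Q : ℕ} (hQ : 2 ≤ Q) (n : ℕ) : 0 < ordProd Q n :=
  Finset.prod_pos fun i _ => by
    have : 2 ≤ Q ^ (i + 1) := le_trans hQ (Nat.le_self_pow (by omega) Q)
    unfold ordFactor
    split_ifs <;> omega

/-- The linearly independent totally isotropic tuples. -/
def isoTuples (B : V →ₛₗ[σ] V →ₗ[F] F) (k : ℕ) : Set (Fin k → V) :=
  {v | LinearIndependent F v ∧ ∀ i j, B (v i) (v j) = 0}

namespace IsHerm

variable (h : IsHerm B)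
include h

theorem card_isotropic_ne_zero [Finite F] [FiniteDimensional F V] {m : ℕ}
    (hn : Module.finrank F V = m + 2) :
    Nat.card {u : V // u ≠ 0 ∧ B u u = 0} =
      ordFactor (Nat.card (fixedSub σ)) (m + 1) * ordFactor (Nat.card (fixedSub σ)) m := by
  classical
  have : Fintype F := Fintype.ofFinite F
  have : Finite V := Module.finite_of_finite F
  have : Fintype V := Fintype.ofFinite V
  have h1 : Nat.card {u : V // u ≠ 0 ∧ B u u = 0} + 1 = Nat.card {u : V // B u u = 0} := by
    have e : {u : V // B u u = 0} ≃ Option {u : V // u ≠ 0 ∧ B u u = 0} :=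
      { toFun := fun u => if hu : (u : V) = 0 then none else some ⟨u, hu, u.2⟩
        invFun := fun o => o.elim ⟨0, zero_left _⟩ fun u => ⟨u, u.2.2⟩
        left_inv := fun u => by
          by_cases hu : (u : V) = 0
          · simp [hu]; exact Subtype.ext hu.symm
          · simp [hu]
        right_inv := fun o => by
          cases o with
          | none => simp
          | some u => simp [u.2.1] }
    rw [Nat.card_congr e, Finite.card_option]
  rw [h.card_norm_eq_count hn, normCount_zero h.invol] at h1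
  rw [Nat.add_right_cancel h1, ordFactor, ordFactor]
  by_cases hm : Even m
  · have hm1 : ¬ Even (m + 1) := by rw [Nat.even_add_one]; exact not_not_intro hm
    have hm2 : Even (m + 2) := by rw [Nat.even_add_one]; exact hm1
    rw [if_pos hm2, if_pos hm, if_neg hm1]
    congr 1
  · have hm1 : Even (m + 1) := Nat.even_add_one.2 hm
    have hm2 : ¬ Even (m + 2) := by rw [Nat.even_add_one]; exact not_not_intro hm1
    rw [if_neg hm2, if_neg hm, if_pos hm1]
    congr 1

theorem card_isoTuples_tail [Finite F] [FiniteDimensional F V] {u f : V} (huu : B u u = 0)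
    (hff : B f f = 0) (huf : B u f = 1) (k : ℕ) :
    Nat.card {w : Fin k → V // Fin.cons u w ∈ isoTuples B (k + 1)} =
      Nat.card F ^ k *
        Nat.card (isoTuples (restrict B (h.orth (Submodule.span F ({u, f} : Set V)))) k) := by
  set U := h.orth (Submodule.span F ({u, f} : Set V)) with hU
  have hfu : B f u = 1 := by rw [← h.symm, huf, map_one]
  have hu : ∀ z ∈ U, B u z = 0 := fun z hz =>
    h.mem_orth.1 hz u (Submodule.subset_span (Set.mem_insert u _))
  have hf : ∀ z ∈ U, B f z = 0 := fun z hz =>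
    h.mem_orth.1 hz f (Submodule.subset_span (Set.mem_insert_of_mem u rfl))
  have hmem : ∀ w : Fin k → V, Fin.cons u w ∈ isoTuples B (k + 1) →
      ∀ i, w i - B f (w i) • u ∈ U := by
    intro w hw i
    rw [hU, h.mem_orth]
    intro p hp
    obtain ⟨r, s, rfl⟩ := Submodule.mem_span_pair.1 hp
    have h0 : B u (w i) = 0 := by simpa using hw.2 0 i.succ
    rw [add_left, smul_left, smul_left, map_sub, map_sub, smul_right, smul_right, h0, huu, hfu]
    ring
  have key : ∀ (t : Fin k → F) (z : Fin k → U),
      Fin.cons u (fun i => t i • u + (z i : V)) ∈ isoTuples B (k + 1) ↔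
        z ∈ isoTuples (restrict B U) k := by
    intro t z
    constructor
    · rintro ⟨hli, hiso⟩
      refine ⟨?_, fun i j => ?_⟩
      · rw [Fintype.linearIndependent_iff] at hli ⊢
        intro g hg i
        have hg' : ∑ i, g i • (z i : V) = 0 := by
          have := congrArg Subtype.val hg
          simpa using this
        have := hli (Fin.cons (-∑ i, g i * t i) g) (by
          rw [Fin.sum_univ_succ]
          simp only [Fin.cons_zero, Fin.cons_succ, smul_add, Finset.sum_add_distrib, hg', add_zero,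
            smul_smul, ← Finset.sum_smul, neg_smul, neg_add_cancel]) i.succ
        simpa using this
      · have := hiso i.succ j.succ
        simp only [Fin.cons_succ, map_add, LinearMap.add_apply, smul_left, smul_right, huu,
          hu _ (z j).2, h.eq_zero_symm (hu _ (z i).2)] at this
        rw [restrict_apply]
        linear_combination this
    · rintro ⟨hli, hiso⟩
      refine ⟨?_, fun i j => ?_⟩
      · rw [Fintype.linearIndependent_iff] at hli ⊢
        intro g hg
        rw [Fin.sum_univ_succ] at hg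
        simp only [Fin.cons_zero, Fin.cons_succ, smul_add, Finset.sum_add_distrib, smul_smul,
          ← Finset.sum_smul, ← add_assoc, ← add_smul] at hg
        have h0 := congrArg (B f) hg
        have hz : B f (∑ i, g (Fin.succ i) • (z i : V)) = 0 := by
          rw [map_sum]
          exact Finset.sum_eq_zero fun i _ => by rw [smul_right, hf _ (z i).2, mul_zero]
        rw [map_add, smul_right, hfu, mul_one, hz, map_zero, add_zero] at h0
        rw [h0, zero_smul, zero_add] at hg
        have hs := hli (fun i => g i.succ) (Subtype.ext (by simpa using hg))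
        intro i
        refine Fin.cases ?_ hs i
        simpa [hs] using h0
      · refine Fin.cases ?_ (fun i => ?_) i
        · refine Fin.cases ?_ (fun j => ?_) j
          · simpa using huu
          · simp [smul_right, huu, hu _ (z j).2]
        · refine Fin.cases ?_ (fun j => ?_) j
          · simp [smul_left, huu, h.eq_zero_symm (hu _ (z i).2)]
          · have hij := hiso i j
            rw [restrict_apply] at hij
            simp [smul_left, smul_right, huu, hu _ (z j).2, h.eq_zero_symm (hu _ (z i).2), hij]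
  rw [show Nat.card F ^ k = Nat.card (Fin k → F) by rw [Nat.card_fun, Nat.card_fin],
    ← Nat.card_prod]
  exact Nat.card_congr
    { toFun := fun w => (fun i => B f ((w : Fin k → V) i),
        ⟨fun i => ⟨(w : Fin k → V) i - B f ((w : Fin k → V) i) • u, hmem w w.2 i⟩, by
          refine (key (fun i => B f ((w : Fin k → V) i)) _).1 ?_
          simp only [add_sub_cancel]
          exact w.2⟩)
      invFun := fun p => ⟨fun i => p.1 i • u + ((p.2 : Fin k → U) i : V), (key _ _).2 p.2.2⟩
      left_inv := fun w => Subtype.ext (funext fun i => by simp)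
      right_inv := fun p => by
        refine Prod.ext (funext fun i => ?_) (Subtype.ext (funext fun i => Subtype.ext ?_))
        · simp [smul_right, hfu, hf _ ((p.2 : Fin k → U) i).2]
        · simp [smul_right, hfu, hf _ ((p.2 : Fin k → U) i).2] }

theorem card_isoTuples [Finite F] [FiniteDimensional F V] {n k : ℕ}
    (hn : Module.finrank F V = n) (hk : 2 * k ≤ n) :
    Nat.card (isoTuples B k) * ordProd (Nat.card (fixedSub σ)) (n - 2 * k) =
      Nat.card (fixedSub σ) ^ (k * (k - 1)) * ordProd (Nat.card (fixedSub σ)) n := by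
  classical
  induction k generalizing V n with
  | zero =>
    have : Nat.card (isoTuples B 0) = 1 := by
      rw [Nat.card_eq_one_iff_unique]
      exact ⟨inferInstance,
        ⟨⟨Fin.elim0, linearIndependent_empty_type, fun i => i.elim0⟩⟩⟩
    rw [this]
    simp
  | succ k ih =>
    obtain ⟨m, rfl⟩ : ∃ m, n = m + 2 := ⟨n - 2, by omega⟩
    have : Finite V := Module.finite_of_finite F
    have : Fintype {u : V // u ≠ 0 ∧ B u u = 0} := Fintype.ofFinite _
    set Q := Nat.card (fixedSub σ) with hQ
    have hpos : 0 < ordProd Q (m + 2 - 2 * (k + 1)) :=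
      ordProd_pos (IsInvol.card_ge_two (σ := σ)) _
    have e : isoTuples B (k + 1) ≃ Σ u : {u : V // u ≠ 0 ∧ B u u = 0},
        {w : Fin k → V // Fin.cons (u : V) w ∈ isoTuples B (k + 1)} :=
      { toFun := fun v => ⟨⟨(v : Fin (k + 1) → V) 0, v.2.1.ne_zero 0, v.2.2 0 0⟩,
          Fin.tail (v : Fin (k + 1) → V), by rw [Fin.cons_self_tail]; exact v.2⟩
        invFun := fun s => ⟨Fin.cons (s.1 : V) (s.2 : Fin k → V), s.2.2⟩
        left_inv := fun v => Subtype.ext (Fin.cons_self_tail _)
        right_inv := fun s => by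
          obtain ⟨⟨u, hu⟩, w, hw⟩ := s
          simp only
          refine Sigma.subtype_ext ?_ ?_ <;> simp }
    rw [Nat.card_congr e, Nat.card_sigma, Finset.sum_mul,
      Finset.sum_congr rfl (g := fun _ => Q ^ (2 * k) * (Q ^ (k * (k - 1)) * ordProd Q m)) ?_,
      Finset.sum_const, Finset.card_univ, ← Nat.card_eq_fintype_card,
      h.card_isotropic_ne_zero hn, smul_eq_mul, ordProd, ordProd, Finset.prod_range_succ,
      Finset.prod_range_succ, ← hQ]
    · rw [show (k + 1) * (k + 1 - 1) = 2 * k + k * (k - 1) from by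
        cases k <;> simp <;> ring, pow_add]
      ring
    · rintro ⟨u, hu0, huu⟩ -
      obtain ⟨f, huf, hff⟩ := h.exists_isotropic_partner hu0 huu
      have hW := h.pair_nondeg (h.hyperbolic_disc (f := f) huu huf)
      have hr := h.finrank_orth hW
      rw [h.pair_finrank (h.hyperbolic_disc (f := f) huu huf)] at hr
      rw [h.card_isoTuples_tail huu hff huf, mul_assoc,
        show m + 2 - 2 * (k + 1) = m - 2 * k by omega,
        ih (h.restrict_herm (h.orth_nondeg hW)) (n := m) (by omega) (by omega),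
        h.invol.card_sq, ← pow_mul]

theorem exists_map_isoTuples [Finite F] [FiniteDimensional F V] {k : ℕ} {v v' : Fin k → V}
    (hv : v ∈ isoTuples B k) (hv' : v' ∈ isoTuples B k) :
    ∃ g : HU B, ∀ i, (g : V ≃ₗ[F] V) (v i) = v' i := by
  let b : Module.Basis (Fin k) F (Submodule.span F (Set.range v)) := Module.Basis.span hv.1
  let φ : Submodule.span F (Set.range v) →ₗ[F] V := b.constr F v'
  have hinj : Function.Injective φ := by
    rw [injective_iff_map_eq_zero]
    intro p hp
    rw [← b.sum_repr p, map_sum] at hp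
    simp only [map_smul, φ, Module.Basis.constr_basis] at hp
    have := Fintype.linearIndependent_iff.1 hv'.1 _ hp
    rw [← b.sum_repr p]
    simp [this]
  have hzero : ∀ a : Submodule.span F (Set.range v), ∀ c : Submodule.span F (Set.range v),
      B (φ a) (φ c) = B (a : V) c := by
    intro a c
    rw [← b.sum_repr a, ← b.sum_repr c]
    simp only [map_sum, map_smul, φ, Module.Basis.constr_basis, Submodule.coe_sum,
      Submodule.coe_smul, LinearMap.sum_apply, smul_left, smul_right, b,
      Module.Basis.coe_span_apply, hv.2, hv'.2]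
  obtain ⟨g, hg⟩ := h.exists_extension _ φ hinj hzero
  refine ⟨g, fun i => ?_⟩
  have := hg (b i)
  simp only [φ, Module.Basis.constr_basis] at this
  rw [← this, show ((b i : Submodule.span F (Set.range v)) : V) = v i from
    Module.Basis.coe_span_apply hv.1 i]

theorem card_isoStab_mul [Finite F] [FiniteDimensional F V] {k : ℕ} (W : Submodule F V)
    (hWk : Module.finrank F W = k) (hW : ∀ u ∈ W, ∀ v ∈ W, B u v = 0) :
    Nat.card (isoTuples B k) * Nat.card (isoStab (fun u v => B u v) W) =
      (∏ i : Fin k, (Nat.card F ^ k - Nat.card F ^ (i : ℕ))) * Nat.card (HU B) := by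
  classical
  have : Fintype F := Fintype.ofFinite F
  have : Finite V := Module.finite_of_finite F
  have : Finite (V ≃ₗ[F] V) := Finite.of_injective _ DFunLike.coe_injective
  let c := Module.finBasisOfFinrankEq F W hWk
  let v₀ : Fin k → V := fun i => (c i : V)
  have hv₀ : v₀ ∈ isoTuples B k :=
    ⟨c.linearIndependent.map' W.subtype W.ker_subtype, fun i j => hW _ (c i).2 _ (c j).2⟩
  set S := isoStab (fun u v => B u v) W with hS
  have horb : MulAction.orbit (HU B) v₀ = isoTuples B k := by
    ext v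
    constructor
    · rintro ⟨g, rfl⟩
      refine ⟨hv₀.1.map' ((g : V ≃ₗ[F] V) : V →ₗ[F] V) (LinearEquiv.ker _), fun i j => ?_⟩
      exact (HU.map_eq g _ _).trans (hv₀.2 i j)
    · intro hv
      obtain ⟨g, hg⟩ := h.exists_map_isoTuples hv₀ hv
      exact ⟨g, funext hg⟩
  have horb' : MulAction.orbit S v₀ = {v | LinearIndependent F v ∧ ∀ i, v i ∈ W} := by
    ext v
    constructor
    · rintro ⟨g, rfl⟩
      exact ⟨hv₀.1.map' (((g : HU B) : V ≃ₗ[F] V) : V →ₗ[F] V) (LinearEquiv.ker _),
        fun i => (g.2 _).1 (c i).2⟩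
    · rintro ⟨hli, hvW⟩
      obtain ⟨g, hg⟩ := h.exists_map_isoTuples hv₀
        ⟨hli, fun i j => hW _ (hvW i) _ (hvW j)⟩
      have hle : W.map ((g : V ≃ₗ[F] V) : V →ₗ[F] V) ≤ W := by
        rintro _ ⟨y, hy, rfl⟩
        rw [show y = ∑ i, c.repr ⟨y, hy⟩ i • v₀ i by
          have := congrArg Subtype.val (c.sum_repr ⟨y, hy⟩)
          simp only [Submodule.coe_sum, Submodule.coe_smul] at this
          exact this.symm, map_sum]
        refine Submodule.sum_mem _ fun i _ => ?_
        rw [map_smul]
        refine Submodule.smul_mem _ _ ?_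
        rw [show ((g : V ≃ₗ[F] V) : V →ₗ[F] V) (v₀ i) = v i from hg i]
        exact hvW i
      have heq := Submodule.eq_of_le_of_finrank_eq hle
        (LinearEquiv.finrank_map_eq (g : V ≃ₗ[F] V) W)
      have hgS : g ∈ S := fun x => by
        constructor
        · exact fun hx => hle ⟨x, hx, rfl⟩
        · intro hx
          rw [← heq] at hx
          obtain ⟨y, hy, e⟩ := hx
          rwa [← (g : V ≃ₗ[F] V).injective e]
      exact ⟨⟨g, hgS⟩, funext hg⟩
  have hfix : MulAction.stabilizer (HU B) v₀ ≤ S := by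
    intro g hg x
    have hg' : ∀ i, (g : V ≃ₗ[F] V) (v₀ i) = v₀ i := congrFun (MulAction.mem_stabilizer_iff.1 hg)
    have hfixW : ∀ y ∈ W, (g : V ≃ₗ[F] V) y = y := fun y hy => by
      rw [show y = ∑ i, c.repr ⟨y, hy⟩ i • v₀ i by
        have := congrArg Subtype.val (c.sum_repr ⟨y, hy⟩)
        simp only [Submodule.coe_sum, Submodule.coe_smul] at this
        exact this.symm, map_sum]
      exact Finset.sum_congr rfl fun i _ => by rw [map_smul, hg']
    constructor
    · intro hx; rw [hfixW x hx]; exact hx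
    · intro hx
      have := (g : V ≃ₗ[F] V).injective (hfixW _ hx)
      rwa [this] at hx
  have e : MulAction.stabilizer S v₀ ≃ MulAction.stabilizer (HU B) v₀ :=
    { toFun := fun g => ⟨(g : S).1, g.2⟩
      invFun := fun g => ⟨⟨g.1, hfix g.2⟩, g.2⟩
      left_inv := fun _ => rfl
      right_inv := fun _ => rfl }
  have k1 : Nat.card (isoTuples B k) * Nat.card (MulAction.stabilizer (HU B) v₀) =
      Nat.card (HU B) := by
    rw [← horb, ← Nat.card_prod]
    exact Nat.card_congr (MulAction.orbitProdStabilizerEquivGroup _ _)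
  have k2 : Nat.card {v : Fin k → V | LinearIndependent F v ∧ ∀ i, v i ∈ W} *
      Nat.card (MulAction.stabilizer (HU B) v₀) = Nat.card S := by
    rw [← horb', ← Nat.card_congr e, ← Nat.card_prod]
    exact Nat.card_congr (MulAction.orbitProdStabilizerEquivGroup _ _)
  have : Fintype W := Fintype.ofFinite W
  have k3 : Nat.card {v : Fin k → V | LinearIndependent F v ∧ ∀ i, v i ∈ W} =
      ∏ i : Fin k, (Nat.card F ^ k - Nat.card F ^ (i : ℕ)) := by
    have e' : {s : Fin k → W // LinearIndependent F s} ≃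
        {v : Fin k → V | LinearIndependent F v ∧ ∀ i, v i ∈ W} :=
      { toFun := fun s => ⟨fun i => ((s : Fin k → W) i : V),
          s.2.map' W.subtype W.ker_subtype, fun i => ((s : Fin k → W) i).2⟩
        invFun := fun v => ⟨fun i => ⟨(v : Fin k → V) i, v.2.2 i⟩,
          LinearIndependent.of_comp W.subtype v.2.1⟩
        left_inv := fun _ => rfl
        right_inv := fun _ => rfl }
    rw [← Nat.card_congr e', card_linearIndependent (by rw [hWk]), hWk, Nat.card_eq_fintype_card]
  rw [← k2, ← k1, k3]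
  ring

theorem card_isoStab [Finite F] [FiniteDimensional F V] {n k : ℕ}
    (hn : Module.finrank F V = n) (hk : 2 * k ≤ n) (W : Submodule F V)
    (hWk : Module.finrank F W = k) (hW : ∀ u ∈ W, ∀ v ∈ W, B u v = 0) :
    Nat.card (isoStab (fun u v => B u v) W) =
      Nat.card (fixedSub σ) ^ (k * (2 * n - 3 * k)) *
        (∏ i : Fin k, ((Nat.card (fixedSub σ) ^ 2) ^ k -
          (Nat.card (fixedSub σ) ^ 2) ^ (i : ℕ))) *
        (Nat.card (fixedSub σ) ^ ((n - 2 * k) * ((n - 2 * k) - 1) / 2) *
          ordProd (Nat.card (fixedSub σ)) (n - 2 * k)) := by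
  have : Fintype F := Fintype.ofFinite F
  have h1 := h.card_isoStab_mul W hWk hW
  have h2 := h.card_isoTuples hn hk
  have h3 : Nat.card (HU B) = Nat.card (fixedSub σ) ^ (n * (n - 1) / 2) *
      ordProd (Nat.card (fixedSub σ)) n := h.card_HU n hn
  rw [h3, h.invol.card_sq] at h1
  set Q := Nat.card (fixedSub σ) with hQ
  have hQ2 : 2 ≤ Q := IsInvol.card_ge_two (σ := σ)
  set P := ∏ i : Fin k, ((Q ^ 2) ^ k - (Q ^ 2) ^ (i : ℕ))
  have hexp : k * (2 * n - 3 * k) + (n - 2 * k) * ((n - 2 * k) - 1) / 2 + k * (k - 1) =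
      n * (n - 1) / 2 := by
    obtain ⟨m, rfl⟩ : ∃ m, n = m + 2 * k := ⟨n - 2 * k, by omega⟩
    rw [Nat.add_sub_cancel, show 2 * (m + 2 * k) - 3 * k = 2 * m + k by omega]
    rw [← Finset.sum_range_id, ← Finset.sum_range_id, Finset.sum_range_add]
    rw [Finset.sum_add_distrib, Finset.sum_const, Finset.card_range, smul_eq_mul]
    have h4 := Finset.sum_range_id_mul_two (2 * k)
    rcases k with _ | k
    · simp
    · simp only [Nat.add_sub_cancel] at h4 ⊢
      rw [show 2 * (k + 1) - 1 = 2 * k + 1 by omega] at h4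
      nlinarith
  apply Nat.eq_of_mul_eq_mul_left
    (Nat.mul_pos (Nat.pow_pos (n := k * (k - 1)) (by omega : 0 < Q)) (ordProd_pos hQ2 n))
  rw [show Q ^ (k * (k - 1)) * ordProd Q n * Nat.card (isoStab (fun u v => B u v) W) =
      ordProd Q (n - 2 * k) *
        (Nat.card (isoTuples B k) * Nat.card (isoStab (fun u v => B u v) W)) by rw [← h2]; ring,
    h1, ← hexp, pow_add, pow_add]
  ring

theorem card_totallyIsotropic_mul [Finite F] [FiniteDimensional F V] (k : ℕ) :
    Nat.card {W : Submodule F V // Module.finrank F W = k ∧ ∀ u ∈ W, ∀ v ∈ W, B u v = 0} *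
      (∏ i : Fin k, (Nat.card F ^ k - Nat.card F ^ (i : ℕ))) = Nat.card (isoTuples B k) := by
  classical
  have : Fintype F := Fintype.ofFinite F
  have : Finite V := Module.finite_of_finite F
  have : Fintype V := Fintype.ofFinite V
  let 𝒲 := {W : Submodule F V // Module.finrank F W = k ∧ ∀ u ∈ W, ∀ v ∈ W, B u v = 0}
  have : Finite (Submodule F V) := Finite.of_injective (fun W => (W : Set V)) SetLike.coe_injective
  have : Fintype 𝒲 := Fintype.ofFinite 𝒲
  have hspan : ∀ v ∈ isoTuples B k,
      Module.finrank F (Submodule.span F (Set.range v)) = k ∧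
        ∀ a ∈ Submodule.span F (Set.range v), ∀ b ∈ Submodule.span F (Set.range v),
          B a b = 0 := by
    intro v hv
    refine ⟨by rw [finrank_span_eq_card hv.1, Fintype.card_fin], fun a ha b hb => ?_⟩
    obtain ⟨r, rfl⟩ := (Submodule.mem_span_range_iff_exists_fun F).1 ha
    obtain ⟨s, rfl⟩ := (Submodule.mem_span_range_iff_exists_fun F).1 hb
    simp [map_sum, LinearMap.sum_apply, smul_left, hv.2]
  let sp : isoTuples B k → 𝒲 := fun v =>
    ⟨Submodule.span F (Set.range (v : Fin k → V)), hspan v v.2⟩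
  have efib : ∀ W : 𝒲, {v : isoTuples B k // sp v = W} ≃
      {s : Fin k → (W : Submodule F V) // LinearIndependent F s} := fun W =>
    { toFun := fun v => ⟨fun i => ⟨((v : isoTuples B k) : Fin k → V) i, by
          have h0 : Submodule.span F (Set.range ((v : isoTuples B k) : Fin k → V)) = W.1 :=
            congrArg Subtype.val v.2
          rw [← h0]
          exact Submodule.subset_span ⟨i, rfl⟩⟩,
        LinearIndependent.of_comp (Submodule.subtype _) v.1.2.1⟩
      invFun := fun s => ⟨⟨fun i => (s.1 i : V),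
        s.2.map' (Submodule.subtype _) (Submodule.ker_subtype _),
        fun i j => W.2.2 _ (s.1 i).2 _ (s.1 j).2⟩, Subtype.ext (by
          have hs' : LinearIndependent F fun i => (s.1 i : V) :=
            s.2.map' (Submodule.subtype _) (Submodule.ker_subtype _)
          refine Submodule.eq_of_le_of_finrank_eq
            (Submodule.span_le.2 (Set.range_subset_iff.2 fun i => (s.1 i).2)) ?_
          rw [finrank_span_eq_card hs', Fintype.card_fin, W.2.1])⟩
      left_inv := fun _ => rfl
      right_inv := fun _ => rfl }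
  rw [← Nat.card_congr (Equiv.sigmaFiberEquiv sp), Nat.card_sigma,
    Finset.sum_congr rfl (fun (W : 𝒲) _ => ?_),
    Finset.sum_const, Finset.card_univ, ← Nat.card_eq_fintype_card, smul_eq_mul]
  have : Fintype (W : Submodule F V) := Fintype.ofFinite _
  rw [Nat.card_congr (efib W), card_linearIndependent (le_of_eq W.2.1.symm), W.2.1,
    Nat.card_eq_fintype_card]

/-- The map `y ↦ y + (a - 1) B(f, y) u + (σ a⁻¹ - 1) B(u, y) f`. -/
theorem exists_dilation [FiniteDimensional F V] {u f : V} (huu : B u u = 0) (hff : B f f = 0)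
    (huf : B u f = 1) {a : F} (ha : a ≠ 0) :
    ∃ g : HU B, ((HU.det B g : Fˣ) : F) = a / σ a ∧
      ∀ x, B u x = 0 → (g : V ≃ₗ[F] V) x = x + ((a - 1) * B f x) • u := by
  have hfu : B f u = 1 := by rw [← h.symm, huf, map_one]
  have hsa : σ a ≠ 0 := fun h0 => ha (IsInvol.apply_eq_zero_iff.1 h0)
  let D : V →ₗ[F] V := LinearMap.transvection ((a - 1) • B f) u ∘ₗ
    LinearMap.transvection (((σ a)⁻¹ - 1) • B u) f
  have hD : ∀ y, D y = y + ((a - 1) * B f y) • u + (((σ a)⁻¹ - 1) * B u y) • f := fun y => by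
    simp only [D, LinearMap.comp_apply, LinearMap.transvection.apply, LinearMap.smul_apply,
      smul_eq_mul, map_add, map_smul, hff]
    match_scalars <;> ring
  have hpres : ∀ y z, B (D y) (D z) = B y z := fun y z => by
    simp only [hD, map_add, LinearMap.add_apply, smul_left, smul_right, huu, hff, huf, hfu,
      map_sub, map_mul, map_inv₀, map_one, h.invol.invol, h.symm]
    field_simp
    ring
  refine ⟨h.ofPreserves D hpres, ?_, fun x hx => ?_⟩
  · show ((LinearEquiv.det (h.ofPreserves D hpres : V ≃ₗ[F] V) : Fˣ) : F) = _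
    rw [LinearEquiv.coe_det, coe_ofPreserves, LinearMap.det_comp, LinearMap.transvection.det,
      LinearMap.transvection.det, LinearMap.smul_apply, LinearMap.smul_apply, smul_eq_mul,
      smul_eq_mul, hfu, huf]
    field_simp
    ring
  · rw [ofPreserves_apply, hD, hx, mul_zero, zero_smul, add_zero]

theorem isoStab_det_range [Finite F] [FiniteDimensional F V] {k : ℕ} (W : Submodule F V)
    (hWk : Module.finrank F W = k) (hW : ∀ u ∈ W, ∀ v ∈ W, B u v = 0) :
    (isoStab (fun u v => B u v) W).map (HU.det B) = (HU.det B).range := by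
  refine le_antisymm (Subgroup.map_le_range _ _) ?_
  rintro _ ⟨g, rfl⟩
  rcases Nat.eq_zero_or_pos k with hk | hk
  · subst hk
    have hbot : W = ⊥ := Submodule.finrank_eq_zero.1 hWk
    exact ⟨g, fun x => by simp [hbot], rfl⟩
  have : Nontrivial W := Module.nontrivial_of_finrank_pos (R := F) (by rw [hWk]; exact hk)
  obtain ⟨⟨u, huW⟩, hu⟩ := exists_ne (0 : W)
  have hu0 : u ≠ 0 := fun h0 => hu (Subtype.ext h0)
  have huu := hW u huW u huW
  obtain ⟨f, huf, hff⟩ := h.exists_isotropic_partner hu0 huu
  have hd := h.det_norm_one g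
  set d : F := ((HU.det B g : Fˣ) : F) with hdd
  obtain ⟨a, ha0, ha⟩ : ∃ a : F, a ≠ 0 ∧ a / σ a = d := by
    by_cases hd1 : 1 + d = 0
    · obtain ⟨θ, hθ0, hθ⟩ := h.exists_skew
      refine ⟨θ, hθ0, ?_⟩
      rw [eq_neg_of_add_eq_zero_right hθ, eq_neg_of_add_eq_zero_right hd1, div_neg, div_self hθ0]
    · have hs : σ (1 + d) ≠ 0 := fun h0 => hd1 (IsInvol.apply_eq_zero_iff.1 h0)
      refine ⟨1 + d, hd1, ?_⟩
      rw [div_eq_iff hs, map_add, map_one]
      linear_combination -hd
  obtain ⟨s, hs, hsx⟩ := h.exists_dilation huu hff huf ha0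
  refine ⟨s, fun x => ?_, Units.ext (hs.trans ha)⟩
  constructor
  · intro hx
    rw [hsx x (hW u huW x hx)]
    exact W.add_mem hx (W.smul_mem _ huW)
  · intro hx
    have hux : B u x = 0 := by
      have hsu : (s : V ≃ₗ[F] V) u = a • u := by
        rw [hsx u huu, show B f u = 1 by rw [← h.symm, huf, map_one], mul_one, sub_smul, one_smul,
          add_sub_cancel]
      have h1 := HU.map_eq s u x
      rw [hsu, smul_left, hW u huW _ hx, mul_zero] at h1
      exact h1.symm
    rw [hsx x hux] at hx
    have := W.sub_mem hx (W.smul_mem ((a - 1) * B f x) huW)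
    simpa using this

theorem card_isoStab_HSU [Finite F] [FiniteDimensional F V] [Nontrivial V] {k : ℕ}
    (W : Submodule F V) (hWk : Module.finrank F W = k) (hW : ∀ u ∈ W, ∀ v ∈ W, B u v = 0) :
    (Nat.card (fixedSub σ) + 1) * Nat.card ((isoStab (fun u v => B u v) W).subgroupOf (HSU B)) =
      Nat.card (isoStab (fun u v => B u v) W) := by
  set S := isoStab (fun u v => B u v) W
  have h1 := ((HU.det B).comp S.subtype).ker.card_mul_index
  rw [Subgroup.index_ker, MonoidHom.range_comp, Subgroup.range_subtype,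
    h.isoStab_det_range W hWk hW, h.det_range] at h1
  rw [← h1, mul_comm (Nat.card (fixedSub σ) + 1)]
  congr 1
  exact Nat.card_congr
    { toFun := fun g => ⟨⟨(g : HSU B).1, g.2⟩, (g : HSU B).2⟩
      invFun := fun g => ⟨⟨(g : S).1, g.2⟩, (g : S).2⟩
      left_inv := fun _ => rfl
      right_inv := fun _ => rfl }

end IsHerm

section Std

variable {q : ℕ} [Fintype F]

theorem card_su_stab (hF : Fintype.card F = q ^ 2) (n k : ℕ) (hn : 1 ≤ n) (hk : 2 * k ≤ n)
    (W : Submodule F (Fin n → F)) (hWk : Module.finrank F W = k)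
    (hW : ∀ u ∈ W, ∀ v ∈ W, Cfsg.hermForm n F q u v = 0) :
    (q + 1) * Nat.card ↥((Cfsg.stabilizing (Cfsg.slToMat n F) (W : Set (Fin n → F))).subgroupOf
        (Cfsg.SU n F q)) =
      q ^ (k * (2 * n - 3 * k)) * (∏ i : Fin k, ((q ^ 2) ^ k - (q ^ 2) ^ (i : ℕ))) *
        (q ^ ((n - 2 * k) * ((n - 2 * k) - 1) / 2) * ∏ i ∈ Finset.range (n - 2 * k),
          (if Even i then q ^ (i + 1) + 1 else q ^ (i + 1) - 1)) := by
  have : Nonempty (Fin n) := ⟨⟨0, hn⟩⟩
  have h := hermStd_isHerm (n := n) hF
  have hW' : ∀ u ∈ W, ∀ v ∈ W, hermStd n hF u v = 0 := fun u hu v hv => hW v hv u hu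
  have e : ↥((Cfsg.stabilizing (Cfsg.slToMat n F) (W : Set (Fin n → F))).subgroupOf
      (Cfsg.SU n F q)) ≃
      ↥((isoStab (fun u v => hermStd n hF u v) W).subgroupOf (HSU (hermStd n hF))) :=
    (suEquiv n hF).toEquiv.subtypeEquiv fun g => Iff.rfl
  have h1 := h.card_isoStab_HSU W hWk hW'
  rw [h.card_isoStab finrank_std hk W hWk hW', card_fixed_powHom hF] at h1
  rw [Nat.card_congr e, h1]
  rfl

theorem card_isotropic_lines (hF : Fintype.card F = q ^ 2) (n : ℕ) (hn : 4 ≤ n) :
    Nat.card {W : Submodule F (Fin n → F) //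
        Module.finrank F W = 2 ∧ ∀ u ∈ W, ∀ v ∈ W, Cfsg.hermForm n F q u v = 0} *
      (((q ^ 2) ^ 2 - 1) * ((q ^ 2) ^ 2 - q ^ 2)) * ordProd q (n - 4) =
        q ^ 2 * ordProd q n := by
  have h := hermStd_isHerm (n := n) hF
  have h1 := h.card_totallyIsotropic_mul 2
  rw [Fin.prod_univ_two, h.invol.card_sq, card_fixed_powHom hF] at h1
  have h2 := h.card_isoTuples (k := 2) finrank_std (by omega)
  rw [← h1, card_fixed_powHom hF] at h2
  rw [← Nat.card_congr (Equiv.subtypeEquivRight fun W => ?_)] at h2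
  · simpa using h2
  · exact and_congr_right fun _ =>
      ⟨fun hW u hu v hv => hW v hv u hu, fun hW u hu v hv => hW v hv u hu⟩

theorem card_isotropic_lines_four (hF : Fintype.card F = q ^ 2) :
    Nat.card {W : Submodule F (Fin 4 → F) //
        Module.finrank F W = 2 ∧ ∀ u ∈ W, ∀ v ∈ W, Cfsg.hermForm 4 F q u v = 0} =
      (q + 1) * (q ^ 3 + 1) := by
  have h1 := card_isotropic_lines hF 4 le_rfl
  have hq := two_le_of_card_sq hF
  have a2 : 1 ≤ q ^ 2 := Nat.one_le_pow _ _ (by omega)
  have a4 : 1 ≤ q ^ 4 := Nat.one_le_pow _ _ (by omega)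
  have b : q ^ 2 ≤ q ^ 4 := Nat.pow_le_pow_right (by omega) (by norm_num)
  norm_num [ordProd, ordFactor, Finset.prod_range_succ, ← pow_mul, even_iff_two_dvd] at h1
  have hz : (0 : ℤ) < ((q : ℤ) ^ 4 - 1) * ((q : ℤ) ^ 4 - q ^ 2) := by
    have : (2 : ℤ) ≤ q := by exact_mod_cast hq
    exact mul_pos (by nlinarith) (by nlinarith)
  zify [a2, a4, b] at h1 ⊢
  apply mul_right_cancel₀ hz.ne'
  linear_combination h1

theorem card_isotropic_lines_five (hF : Fintype.card F = q ^ 2) :
    Nat.card {W : Submodule F (Fin 5 → F) //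
        Module.finrank F W = 2 ∧ ∀ u ∈ W, ∀ v ∈ W, Cfsg.hermForm 5 F q u v = 0} =
      (q ^ 3 + 1) * (q ^ 5 + 1) := by
  have h1 := card_isotropic_lines hF 5 (by norm_num)
  have hq := two_le_of_card_sq hF
  have a2 : 1 ≤ q ^ 2 := Nat.one_le_pow _ _ (by omega)
  have a4 : 1 ≤ q ^ 4 := Nat.one_le_pow _ _ (by omega)
  have b : q ^ 2 ≤ q ^ 4 := Nat.pow_le_pow_right (by omega) (by norm_num)
  norm_num [ordProd, ordFactor, Finset.prod_range_succ, ← pow_mul, even_iff_two_dvd] at h1
  have hz : (0 : ℤ) < ((q : ℤ) ^ 4 - 1) * ((q : ℤ) ^ 4 - q ^ 2) * (q + 1) := by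
    have : (2 : ℤ) ≤ q := by exact_mod_cast hq
    exact mul_pos (mul_pos (by nlinarith) (by nlinarith)) (by linarith)
  zify [a2, a4, b] at h1 ⊢
  apply mul_right_cancel₀ hz.ne'
  linear_combination h1

end Std

end CfsgLib.Classical.Herm
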