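import Cfsg.Agent.Lib.Classical.Unitary.MatrixStructure

/-!
Stabilisers of non-degenerate subspaces in `GU`.
-/

set_option autoImplicit false

namespace CfsgLib.Classical.Herm

open scoped Matrix

variable {n : ℕ} {F : Type*} [Field F] [Fintype F] {q : ℕ}

theorem mem_stabilizing_guEquiv (hF : Fintype.card F = q ^ 2) (W : Submodule F (Fin n → F))
    (g : Cfsg.GU n F q) :
    g ∈ (Cfsg.stabilizing (Cfsg.glToMat (Fin n) F) (W : Set (Fin n → F))).subgroupOf
        (Cfsg.GU n F q) ↔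
      guEquiv n hF g ∈ isoStab (fun u v => hermStd n hF u v) W := by
  rw [Subgroup.mem_subgroupOf, mem_isoStab]
  exact Iff.rfl

theorem nonempty_gu_stabilizer_equiv (hF : Fintype.card F = q ^ 2) (n k : ℕ)
    (W : Submodule F (Fin n → F)) (hWk : Module.finrank F W = k)
    (hW : ∀ u ∈ W, (∀ v ∈ W, Cfsg.hermForm n F q u v = 0) → u = 0) :
    Nonempty (↥((Cfsg.stabilizing (Cfsg.glToMat (Fin n) F) (W : Set (Fin n → F))).subgroupOf
      (Cfsg.GU n F q)) ≃* ↥(Cfsg.GU k F q) × ↥(Cfsg.GU (n - k) F q)) := by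
  have h := hermStd_isHerm (n := n) hF
  have hW' : ∀ x ∈ W, (∀ y ∈ W, hermStd n hF x y = 0) → x = 0 := fun x hx hy =>
    hW x hx fun v hv => h.eq_zero_symm (hy v hv)
  have hr := h.finrank_orth hW'
  rw [finrank_std, hWk] at hr
  obtain ⟨e₁, he₁⟩ := (h.restrict_herm hW').exists_isometry_of_finrank_eq
    (hermStd_isHerm (n := k) hF) (by rw [hWk, finrank_std])
  obtain ⟨e₂, he₂⟩ := (h.restrict_herm (h.orth_nondeg hW')).exists_isometry_of_finrank_eq
    (hermStd_isHerm (n := n - k) hF) (by rw [finrank_std]; omega)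
  have hstab : ((Cfsg.stabilizing (Cfsg.glToMat (Fin n) F) (W : Set (Fin n → F))).subgroupOf
      (Cfsg.GU n F q)).map (guEquiv n hF).toMonoidHom =
      isoStab (fun u v => hermStd n hF u v) W := by
    ext g
    rw [Subgroup.mem_map_equiv, mem_stabilizing_guEquiv hF, MulEquiv.apply_symm_apply]
  have hpres : ∀ g ∈ HU (hermStd n hF), (∀ x, x ∈ W ↔ g x ∈ W) → ∀ u ∈ h.orth W,
      g u ∈ h.orth W := by
    intro g hg hgW u hu
    rw [h.mem_orth] at hu ⊢
    intro w hw
    obtain ⟨w', rfl⟩ := g.surjective w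
    rw [show hermStd n hF (g w') (g u) = hermStd n hF w' u from hg w' u]
    exact hu w' ((hgW w').2 hw)
  exact ⟨((((guEquiv n hF).subgroupMap _).trans (MulEquiv.subgroupCongr hstab)).trans
    (isoStabEquiv (f := fun u v => hermStd n hF u v) (h.isCompl_orth hW') (h.add_add_orth W)
      hpres).symm).trans
    (((isoCongrEq e₁ he₁).trans (guEquiv k hF).symm).prodCongr
      ((isoCongrEq e₂ he₂).trans (guEquiv (n - k) hF).symm))⟩

end CfsgLib.Classical.Herm
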