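import Cfsg.Agent.Lib.Classical.Unitary.Order

/-!
Involutions of the special unitary group in dimension three, odd characteristic: they correspond
to the anisotropic points, two of them commuting exactly when the points are orthogonal.
-/

set_option autoImplicit false

namespace CfsgLib.Classical.Herm

variable {F : Type*} [Field F] {V : Type*} [AddCommGroup V] [Module F V] {σ : F →+* F}
  {B : V →ₛₗ[σ] V →ₗ[F] F}

/-- Vectors of norm one. -/
abbrev UnitVec (B : V →ₛₗ[σ] V →ₗ[F] F) : Type _ := {v : V // B v v = 1}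

theorem UnitVec.ne_zero (v : UnitVec B) : (v : V) ≠ 0 := by
  intro h0
  have := v.2
  rw [h0, zero_left] at this
  exact zero_ne_one this

theorem UnitVec.self_ne_zero (v : UnitVec B) : B (v : V) v ≠ 0 := by
  rw [v.2]; exact one_ne_zero

/-- Minus the identity as an isometry. -/
def negIso (B : V →ₛₗ[σ] V →ₗ[F] F) : HU B :=
  ⟨LinearEquiv.neg F, fun x y => by simp⟩

theorem neg_one_norm : ((-1 : Fˣ) : F) * σ ((-1 : Fˣ) : F) = 1 := by simp

theorem det_negIso (h3 : Module.finrank F V = 3) : HU.det B (negIso B) = -1 := by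
  ext
  show ((LinearEquiv.det (LinearEquiv.neg F : V ≃ₗ[F] V) : Fˣ) : F) = _
  rw [LinearEquiv.coe_det,
    show ((LinearEquiv.neg F : V ≃ₗ[F] V) : V →ₗ[F] V) = (-1 : F) • LinearMap.id from
      LinearMap.ext fun x => by simp,
    LinearMap.det_smul, LinearMap.det_id, h3]
  norm_num

namespace IsHerm

variable (h : IsHerm B)
include h

/-- The involution fixing a unit vector and negating its orthogonal complement. -/
noncomputable def invol3 (h3 : Module.finrank F V = 3) (v : UnitVec B) : HSU B :=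
  ⟨negIso B * h.quasiIso (v : V) v.self_ne_zero (-1) neg_one_norm, by
    have : FiniteDimensional F V := Module.finite_of_finrank_pos (by omega)
    rw [MonoidHom.mem_ker, map_mul, det_negIso h3, h.det_quasiIso, neg_one_mul, neg_neg]⟩

variable {h3 : Module.finrank F V = 3}

theorem invol3_apply (v : UnitVec B) (x : V) :
    ((h.invol3 h3 v : HU B) : V ≃ₗ[F] V) x = (2 * B (v : V) x) • (v : V) - x := by
  show -(quasi B (v : V) v.self_ne_zero (-1) x) = _
  rw [quasi_apply, v.2, div_one, Units.val_neg, Units.val_one]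
  module

omit h in
theorem ext_HSU {g g' : HSU B}
    (H : ∀ x, ((g : HU B) : V ≃ₗ[F] V) x = ((g' : HU B) : V ≃ₗ[F] V) x) : g = g' :=
  Subtype.ext (Subtype.ext (LinearEquiv.ext H))

omit h in
theorem mul_apply_HSU (g g' : HSU B) (x : V) :
    (((g * g' : HSU B) : HU B) : V ≃ₗ[F] V) x =
      ((g : HU B) : V ≃ₗ[F] V) (((g' : HU B) : V ≃ₗ[F] V) x) := rfl

omit h in
theorem one_apply_HSU (x : V) : (((1 : HSU B) : HU B) : V ≃ₗ[F] V) x = x := rfl

theorem invol3_mul_self (v : UnitVec B) : h.invol3 h3 v * h.invol3 h3 v = 1 := by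
  refine ext_HSU fun x => ?_
  rw [mul_apply_HSU, one_apply_HSU, h.invol3_apply, h.invol3_apply, map_sub, smul_right, v.2]
  module

theorem invol3_self (v : UnitVec B) : ((h.invol3 h3 v : HU B) : V ≃ₗ[F] V) v = v := by
  rw [h.invol3_apply, v.2]
  module

theorem invol3_perp (v : UnitVec B) {x : V} (hx : B (v : V) x = 0) :
    ((h.invol3 h3 v : HU B) : V ≃ₗ[F] V) x = -x := by
  rw [h.invol3_apply, hx]
  module

theorem conj_invol3 (g : HSU B) (v w : UnitVec B) (hvw : ((g : HU B) : V ≃ₗ[F] V) v = w) :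
    g * h.invol3 h3 v * g⁻¹ = h.invol3 h3 w := by
  rw [mul_inv_eq_iff_eq_mul]
  refine ext_HSU fun x => ?_
  rw [mul_apply_HSU, mul_apply_HSU, h.invol3_apply, h.invol3_apply, map_sub, map_smul, hvw,
    ← hvw, HU.map_eq (g : HU B)]

theorem exists_perp_unit [Finite F] (h3 : Module.finrank F V = 3) (v : UnitVec B) :
    ∃ w : UnitVec B, B (v : V) w = 0 := by
  have : FiniteDimensional F V := Module.finite_of_finrank_pos (by omega)
  have hr := h.finrank_perp v.self_ne_zero
  obtain ⟨b, hb⟩ := (h.restrict_perp v.self_ne_zero).exists_orthonormal_basis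
    (n := 2) (by omega)
  refine ⟨⟨(b 0 : V), ?_⟩, h.mem_perp.1 (b 0).2⟩
  have := hb 0 0
  rwa [restrict_apply, if_pos rfl] at this

/-- Two orthogonal unit vectors extend to an orthonormal frame. -/
theorem exists_frame [Finite F] (h3 : Module.finrank F V = 3) (v w : UnitVec B)
    (hvw : B (v : V) w = 0) :
    ∃ u : UnitVec B, B (v : V) u = 0 ∧ B (w : V) u = 0 ∧
      (∀ x, B (v : V) x = 0 → B (w : V) x = 0 → x = B (u : V) x • (u : V)) ∧
      ∀ x, x = B (v : V) x • (v : V) + B (w : V) x • (w : V) + B (u : V) x • (u : V) := by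
  have : FiniteDimensional F V := Module.finite_of_finrank_pos (by omega)
  have hv := h.finrank_perp v.self_ne_zero
  have hW := h.restrict_perp v.self_ne_zero
  set w' : h.perp (v : V) := ⟨(w : V), h.mem_perp.2 hvw⟩
  have hw' : restrict B (h.perp (v : V)) w' w' ≠ 0 := w.self_ne_zero
  have hw := hW.finrank_perp hw'
  obtain ⟨b, hb⟩ := (hW.restrict_perp hw').exists_orthonormal_basis (n := 1) (by omega)
  have hb0 : B ((b 0 : h.perp (v : V)) : V) ((b 0 : h.perp (v : V)) : V) = 1 := by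
    have := hb 0 0
    rwa [restrict_apply, restrict_apply, if_pos rfl] at this
  set u : UnitVec B := ⟨((b 0 : h.perp (v : V)) : V), hb0⟩
  have hu1 : B (v : V) u = 0 := h.mem_perp.1 (b 0 : h.perp (v : V)).2
  have hu2 : B (w : V) u = 0 := hW.mem_perp.1 (b 0).2
  have huniq : ∀ x, B (v : V) x = 0 → B (w : V) x = 0 → x = B (u : V) x • (u : V) := by
    intro x hx1 hx2
    set x' : hW.perp w' := ⟨⟨x, h.mem_perp.2 hx1⟩, hW.mem_perp.2 hx2⟩
    have he : x' = b.repr x' 0 • b 0 := by
      conv_lhs => rw [← b.sum_repr x', Fin.sum_univ_one]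
    have he' : x = b.repr x' 0 • (u : V) :=
      congrArg (fun t : hW.perp w' => ((t : h.perp (v : V)) : V)) he
    have hc : B (u : V) x = b.repr x' 0 := by
      conv_lhs => rw [he']
      rw [smul_right, u.2, mul_one]
    rw [hc]
    exact he'
  refine ⟨u, hu1, hu2, huniq, fun x => ?_⟩
  have hkey := huniq (x - B (v : V) x • (v : V) - B (w : V) x • (w : V))
    (by simp [map_sub, v.2, hvw])
    (by simp [map_sub, w.2, h.eq_zero_symm hvw])
  simp only [map_sub, smul_right, h.eq_zero_symm hu1, h.eq_zero_symm hu2, mul_zero,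
    sub_zero] at hkey
  linear_combination (norm := module) hkey

theorem invol3_ne_one [Finite F] (h2 : (2 : F) ≠ 0) (v : UnitVec B) : h.invol3 h3 v ≠ 1 := by
  intro he
  obtain ⟨w, hw⟩ := h.exists_perp_unit h3 v
  have h1 := congrArg (fun g : HSU B => ((g : HU B) : V ≃ₗ[F] V) (w : V)) he
  simp only [one_apply_HSU, h.invol3_perp v hw] at h1
  have h4 : (2 : F) • (w : V) = 0 := by linear_combination (norm := module) -h1
  exact w.ne_zero ((smul_eq_zero.1 h4).resolve_left h2)

theorem invol3_eq_iff (h2 : (2 : F) ≠ 0) (v w : UnitVec B) :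
    h.invol3 h3 v = h.invol3 h3 w ↔ ∃ a : F, a * σ a = 1 ∧ (w : V) = a • (v : V) := by
  constructor
  · intro he
    have h1 := congrArg (fun g : HSU B => ((g : HU B) : V ≃ₗ[F] V) (w : V)) he
    simp only [h.invol3_self, h.invol3_apply] at h1
    have h4 : (2 : F) • ((w : V) - B (v : V) w • (v : V)) = 0 := by
      linear_combination (norm := module) -h1
    have h5 := sub_eq_zero.1 ((smul_eq_zero.1 h4).resolve_left h2)
    refine ⟨B (v : V) w, ?_, h5⟩
    have h6 := w.2
    rw [h5, smul_self, v.2, mul_one] at h6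
    exact h6
  · rintro ⟨a, ha, hw⟩
    refine ext_HSU fun x => ?_
    rw [h.invol3_apply, h.invol3_apply, hw, smul_left, smul_smul]
    congr 2
    linear_combination -(2 * B (v : V) x) * ha

theorem commute_invol3_iff (h2 : (2 : F) ≠ 0) (v w : UnitVec B) :
    Commute (h.invol3 h3 v) (h.invol3 h3 w) ↔
      h.invol3 h3 v = h.invol3 h3 w ∨ B (v : V) w = 0 := by
  constructor
  · intro hc
    set w' : UnitVec B := ⟨((h.invol3 h3 v : HU B) : V ≃ₗ[F] V) w, by
      rw [HU.map_eq]; exact w.2⟩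
    have h1 := h.conj_invol3 (h3 := h3) (h.invol3 h3 v) w w' rfl
    rw [hc.eq, mul_inv_cancel_right] at h1
    obtain ⟨a, -, ha⟩ := (h.invol3_eq_iff h2 w w').1 h1
    simp only [w', h.invol3_apply] at ha
    refine or_iff_not_imp_right.2 fun hne => ?_
    have hne' : (2 : F) * B (v : V) w ≠ 0 := mul_ne_zero h2 hne
    have hv : (v : V) = ((2 * B (v : V) w)⁻¹ * (a + 1)) • (w : V) := by
      rw [← smul_smul, eq_inv_smul_iff₀ hne']
      linear_combination (norm := module) ha
    symm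
    refine (h.invol3_eq_iff h2 w v).2 ⟨_, ?_, hv⟩
    have h6 := v.2
    rw [hv, smul_self, w.2, mul_one] at h6
    exact h6
  · rintro (he | he)
    · rw [he]
    · show _ = _
      refine ext_HSU fun x => ?_
      simp only [mul_apply_HSU, h.invol3_apply, map_sub, smul_right, he, h.eq_zero_symm he]
      module

theorem exists_fixed_unit [Finite F] (h2 : (2 : F) ≠ 0) (g : HU B) (U : Submodule F V)
    (hU : ∀ x ∈ U, (∀ y ∈ U, B x y = 0) → x = 0) (hgU : ∀ x ∈ U, (g : V ≃ₗ[F] V) x ∈ U)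
    (hg : ∀ x, (g : V ≃ₗ[F] V) ((g : V ≃ₗ[F] V) x) = x)
    {p : V} (hp : p ∈ U) (hp0 : p ≠ 0) (hfix : (g : V ≃ₗ[F] V) p = p) :
    ∃ v : UnitVec B, (v : V) ∈ U ∧ (g : V ≃ₗ[F] V) v = v := by
  set W : Submodule F V :=
    U ⊓ LinearMap.ker (((g : V ≃ₗ[F] V) : V →ₗ[F] V) - LinearMap.id)
  have hmem : ∀ x, x ∈ W ↔ x ∈ U ∧ (g : V ≃ₗ[F] V) x = x := fun x => by
    simp [W, sub_eq_zero]
  have hW : ∀ x ∈ W, (∀ y ∈ W, B x y = 0) → x = 0 := by
    intro x hx hxy
    obtain ⟨hxU, hxg⟩ := (hmem x).1 hx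
    refine hU x hxU fun y hy => ?_
    have h1 := hxy (y + (g : V ≃ₗ[F] V) y) ((hmem _).2
      ⟨U.add_mem hy (hgU y hy), by rw [map_add, hg, add_comm]⟩)
    have h4 : B x ((g : V ≃ₗ[F] V) y) = B x y := by
      conv_lhs => rw [← hxg]
      rw [HU.map_eq]
    rw [map_add, h4, ← two_mul] at h1
    exact (mul_eq_zero.1 h1).resolve_left h2
  have hp' : (⟨p, (hmem p).2 ⟨hp, hfix⟩⟩ : W) ≠ 0 := fun h0 => hp0 (congrArg Subtype.val h0)
  have hWh := h.restrict_herm hW
  obtain ⟨y, hy⟩ := hWh.exists_anisotropic hp'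
  obtain ⟨a, -, ha⟩ := hWh.scale_to hy (map_one σ) one_ne_zero
  obtain ⟨h5, h6⟩ := (hmem _).1 (a • y : W).2
  exact ⟨⟨((a • y : W) : V), ha⟩, h5, h6⟩

theorem exists_eq_invol3 [Finite F] (h2 : (2 : F) ≠ 0) {t : HSU B} (ht : t ≠ 1)
    (ht2 : t * t = 1) : ∃ v : UnitVec B, h.invol3 h3 v = t := by
  have : FiniteDimensional F V := Module.finite_of_finrank_pos (by omega)
  set f := ((t : HU B) : V ≃ₗ[F] V) with hf
  have hff : ∀ x, f (f x) = x := fun x => by
    have h1 := congrArg (fun g : HSU B => ((g : HU B) : V ≃ₗ[F] V) x) ht2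
    simpa only [mul_apply_HSU, one_apply_HSU] using h1
  have hdet : HU.det B (t : HU B) = 1 := MonoidHom.mem_ker.1 t.2
  have hne : ((-1 : Fˣ)) ≠ 1 := fun he => h2 (by
    have h1 : ((-1 : Fˣ) : F) = ((1 : Fˣ) : F) := congrArg Units.val he
    simp only [Units.val_neg, Units.val_one] at h1
    linear_combination -h1)
  -- a fixed vector exists
  obtain ⟨v, -, hv⟩ : ∃ v : UnitVec B, (v : V) ∈ (⊤ : Submodule F V) ∧ f v = v := by
    by_cases hex : ∃ p : V, p ≠ 0 ∧ f p = p
    · obtain ⟨p, hp0, hp⟩ := hex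
      exact h.exists_fixed_unit h2 (t : HU B) ⊤
        (fun x _ hx => h.nondeg x fun y => hx y trivial) (fun _ _ => trivial) hff trivial hp0 hp
    · push Not at hex
      exfalso
      refine hne ?_
      rw [← det_negIso h3, show negIso B = (t : HU B) from
        Subtype.ext (LinearEquiv.ext fun x => ?_), hdet]
      show -x = f x
      have h0 : x + f x = 0 := by
        by_contra h0
        exact hex _ h0 (by rw [map_add, hff, add_comm])
      linear_combination (norm := module) -h0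
  -- no fixed vector orthogonal to it
  have hperp : ∀ x, B (v : V) x = 0 → B (v : V) (f x) = 0 := fun x hx => by
    conv_lhs => rw [← hv]
    exact (HU.map_eq (t : HU B) _ _).trans hx
  have hno : ∀ x, B (v : V) x = 0 → f x = -x := by
    intro x hx
    by_contra hc
    obtain ⟨w, hw, hwfix⟩ := h.exists_fixed_unit h2 (t : HU B) (h.perp (v : V))
      (h.perp_nondeg v.self_ne_zero) (fun y hy => h.mem_perp.2 (hperp y (h.mem_perp.1 hy))) hff
      (p := x + f x) (h.mem_perp.2 (by rw [map_add, hx, hperp x hx, add_zero]))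
      (fun h0 => hc (by linear_combination (norm := module) h0))
      (by rw [map_add, hff, add_comm])
    change f (w : V) = (w : V) at hwfix
    rw [h.mem_perp] at hw
    obtain ⟨u, hu1, hu2, huniq, hexp⟩ := h.exists_frame h3 v w hw
    have hfu : f u = B (u : V) (f u) • (u : V) := huniq _ (hperp u hu1) (by
      conv_lhs => rw [← hwfix]
      exact (HU.map_eq (t : HU B) _ _).trans hu2)
    set c := B (u : V) (f u)
    have hcc : c * c = 1 := by
      have h1 := hff u
      rw [hfu, map_smul, hfu, smul_smul] at h1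
      exact smul_left_injective F u.ne_zero (h1.trans (one_smul F _).symm)
    rcases mul_self_eq_one_iff.1 hcc with hc1 | hc1
    · refine ht (ext_HSU fun y => ?_)
      rw [one_apply_HSU]
      conv_lhs => rw [hexp y]
      rw [← hf, map_add, map_add, map_smul, map_smul, map_smul, hv, hwfix, hfu, hc1, one_smul,
        ← hexp y]
    · refine hne ?_
      rw [← h.det_quasiIso (u : V) u.self_ne_zero (-1) neg_one_norm,
        show h.quasiIso (u : V) u.self_ne_zero (-1) neg_one_norm = (t : HU B) from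
        Subtype.ext (LinearEquiv.ext fun y => ?_), hdet]
      show quasi B (u : V) u.self_ne_zero (-1) y = f y
      conv_rhs => rw [hexp y]
      rw [map_add, map_add, map_smul, map_smul, map_smul, hv, hwfix, hfu, hc1, quasi_apply, u.2,
        div_one, Units.val_neg, Units.val_one]
      linear_combination (norm := module) hexp y
  refine ⟨v, ext_HSU fun x => ?_⟩
  rw [h.invol3_apply, ← hf]
  have h1 := hno (x - B (v : V) x • (v : V)) (by rw [map_sub, smul_right, v.2, mul_one, sub_self])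
  rw [map_sub, map_smul, hv] at h1
  linear_combination (norm := module) -h1

theorem exists_conj_invol3 [Finite F] (v w : UnitVec B) :
    ∃ g : HSU B, g * h.invol3 h3 v * g⁻¹ = h.invol3 h3 w := by
  have : FiniteDimensional F V := Module.finite_of_finrank_pos (by omega)
  obtain ⟨g, hg⟩ := h.exists_map_of_anisotropic v.self_ne_zero (v.2.trans w.2.symm)
  obtain ⟨u, hu⟩ := h.exists_perp_unit h3 v
  have ha : ((HU.det B g)⁻¹ : Fˣ).val * σ ((HU.det B g)⁻¹ : Fˣ).val = 1 := by
    rw [Units.val_inv_eq_inv_val, map_inv₀, ← mul_inv, h.det_norm_one g, inv_one]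
  refine ⟨⟨g * h.quasiIso (u : V) u.self_ne_zero _ ha, ?_⟩, h.conj_invol3 _ v w ?_⟩
  · rw [MonoidHom.mem_ker, map_mul, h.det_quasiIso, mul_inv_cancel]
  · show (g : V ≃ₗ[F] V) (quasi B (u : V) u.self_ne_zero _ v) = w
    rw [quasi_apply_perp _ _ _ (h.eq_zero_symm hu), hg]

theorem exists_conj_involution [Finite F] (h3 : Module.finrank F V = 3) (h2 : (2 : F) ≠ 0)
    {t x : HSU B} (ht : t ≠ 1) (ht2 : t * t = 1) (hx : x ≠ 1) (hx2 : x * x = 1) :
    ∃ g : HSU B, g * t * g⁻¹ = x := by
  obtain ⟨v, rfl⟩ := h.exists_eq_invol3 (h3 := h3) h2 ht ht2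
  obtain ⟨w, rfl⟩ := h.exists_eq_invol3 (h3 := h3) h2 hx hx2
  exact h.exists_conj_invol3 v w

/-- Two distinct commuting involutions lie with exactly one further one in a commuting triple. -/
theorem card_third_involution [Finite F] (h3 : Module.finrank F V = 3) (h2 : (2 : F) ≠ 0)
    {t x : HSU B} (ht : t ≠ 1) (ht2 : t * t = 1) (hx : x ≠ 1) (hx2 : x * x = 1) (hxt : x ≠ t)
    (hc : Commute t x) :
    Nat.card {y : HSU B // y ≠ 1 ∧ y * y = 1 ∧ y ≠ t ∧ y ≠ x ∧ Commute t y ∧ Commute x y} = 1 := by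
  obtain ⟨v, rfl⟩ := h.exists_eq_invol3 (h3 := h3) h2 ht ht2
  obtain ⟨w, rfl⟩ := h.exists_eq_invol3 (h3 := h3) h2 hx hx2
  have hvw : B (v : V) w = 0 :=
    ((h.commute_invol3_iff h2 v w).1 hc).resolve_left (Ne.symm hxt)
  obtain ⟨u, hu1, hu2, huniq, -⟩ := h.exists_frame h3 v w hvw
  have key : ∀ {a b : UnitVec B}, B (a : V) b = 0 → h.invol3 h3 a ≠ h.invol3 h3 b := by
    intro a b hab he
    obtain ⟨c, hc1, hc2⟩ := (h.invol3_eq_iff h2 a b).1 he
    rw [hc2, smul_right, a.2, mul_one] at hab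
    rw [hab, zero_mul] at hc1
    exact zero_ne_one hc1
  rw [Nat.card_eq_one_iff_unique]
  refine ⟨⟨?_⟩, ⟨⟨h.invol3 h3 u, h.invol3_ne_one h2 u, h.invol3_mul_self u, (key hu1).symm,
    (key hu2).symm, (h.commute_invol3_iff h2 v u).2 (.inr hu1),
    (h.commute_invol3_iff h2 w u).2 (.inr hu2)⟩⟩⟩
  suffices H : ∀ y : {y : HSU B // y ≠ 1 ∧ y * y = 1 ∧ y ≠ h.invol3 h3 v ∧ y ≠ h.invol3 h3 w ∧
      Commute (h.invol3 h3 v) y ∧ Commute (h.invol3 h3 w) y}, (y : HSU B) = h.invol3 h3 u from
    fun y z => Subtype.ext ((H y).trans (H z).symm)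
  rintro ⟨y, hy1, hy2, hyv, hyw, hcv, hcw⟩
  obtain ⟨u', rfl⟩ := h.exists_eq_invol3 (h3 := h3) h2 hy1 hy2
  have e1 := ((h.commute_invol3_iff h2 v u').1 hcv).resolve_left (Ne.symm hyv)
  have e2 := ((h.commute_invol3_iff h2 w u').1 hcw).resolve_left (Ne.symm hyw)
  have e3 := huniq _ e1 e2
  symm
  refine (h.invol3_eq_iff h2 u u').2 ⟨_, ?_, e3⟩
  have h6 := u'.2
  rw [e3, smul_self, u.2, mul_one] at h6
  exact h6

/-- A common neighbour of two points exists unless the line joining them is a tangent. -/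
theorem exists_common_perp_iff [Finite F] (h3 : Module.finrank F V = 3) (v w : UnitVec B) :
    (∃ u : UnitVec B, B (v : V) u = 0 ∧ B (u : V) w = 0) ↔
      (B (v : V) w * σ (B (v : V) w) = 1 → (w : V) = B (v : V) w • (v : V)) := by
  set a := B (v : V) w
  set z := (w : V) - a • (v : V)
  have hvz : B (v : V) z = 0 := by simp [z, a, map_sub, v.2]
  have hzz : B z z = 1 - a * σ a := by
    simp only [z, map_sub, LinearMap.sub_apply, smul_left, smul_right, v.2, w.2, ← h.symm (v : V) (w : V)]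
    ring
  constructor
  · rintro ⟨u, hvu, huw⟩ hN
    obtain ⟨u', hu1, hu2, huniq, hexp⟩ := h.exists_frame h3 v u hvu
    have huz : B (u : V) z = 0 := by
      simp [z, map_sub, huw, h.eq_zero_symm hvu]
    have he := huniq z hvz huz
    have h0 : B (u' : V) z = 0 := by
      have h7 : B z z = B (u' : V) z * σ (B (u' : V) z) := by
        conv_lhs => rw [he, smul_self, u'.2, mul_one]
      rw [hzz, hN, sub_self] at h7
      rcases mul_eq_zero.1 h7.symm with h8 | h8
      · exact h8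
      · exact IsInvol.apply_eq_zero_iff.1 h8
    rw [h0, zero_smul] at he
    exact sub_eq_zero.1 he
  · intro H
    by_cases hN : a * σ a = 1
    · obtain ⟨u, hu⟩ := h.exists_perp_unit h3 v
      exact ⟨u, hu, by rw [H hN, smul_right, h.eq_zero_symm hu, mul_zero]⟩
    · obtain ⟨c, hc0, hc⟩ := h.scale_to (x := z) (by rw [hzz]; exact sub_ne_zero.2 (Ne.symm hN))
        (map_one σ) one_ne_zero
      obtain ⟨u, hu1, hu2, -, -⟩ := h.exists_frame h3 v ⟨c • z, hc⟩
        (by rw [smul_right, hvz, mul_zero])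
      refine ⟨u, hu1, ?_⟩
      have hu3 : B (u : V) z = 0 := by
        have h8 := h.eq_zero_symm hu2
        rw [smul_right] at h8
        exact (mul_eq_zero.1 h8).resolve_left hc0
      rw [show (w : V) = z + a • (v : V) by simp [z], map_add, smul_right, hu3,
        h.eq_zero_symm hu1]
      ring

/-- The commuting involution graph has diameter at most three. -/
theorem exists_path_three [Finite F] (h3 : Module.finrank F V = 3) (h2 : (2 : F) ≠ 0)
    {t x : HSU B} (ht : t ≠ 1) (ht2 : t * t = 1) (hx : x ≠ 1) (hx2 : x * x = 1) :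
    ∃ y z : HSU B, y ≠ 1 ∧ y * y = 1 ∧ z ≠ 1 ∧ z * z = 1 ∧
      Commute t y ∧ Commute y z ∧ Commute z x := by
  obtain ⟨v, rfl⟩ := h.exists_eq_invol3 (h3 := h3) h2 ht ht2
  obtain ⟨w, rfl⟩ := h.exists_eq_invol3 (h3 := h3) h2 hx hx2
  obtain ⟨u₁, hu₁⟩ := h.exists_perp_unit h3 v
  obtain ⟨u₂, hu₂, hu₁₂, -, hexp⟩ := h.exists_frame h3 v u₁ hu₁
  obtain ⟨y, hvy, s, hys, hsw⟩ : ∃ y : UnitVec B, B (v : V) y = 0 ∧
      ∃ s : UnitVec B, B (y : V) s = 0 ∧ B (s : V) w = 0 := by
    by_contra hc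
    push Not at hc
    have k : ∀ y : UnitVec B, B (v : V) y = 0 →
        B (y : V) w * σ (B (y : V) w) = 1 ∧ (w : V) ≠ B (y : V) w • (y : V) := by
      intro y hy
      by_contra hk
      push Not at hk
      obtain ⟨s, h5, h6⟩ := (h.exists_common_perp_iff h3 y w).2 hk
      exact hc y hy s h5 h6
    set a := B (v : V) w
    by_cases hN : a * σ a = 1
    · -- tangent line: the two norms are opposite
      obtain ⟨e1, -⟩ := k u₁ hu₁
      obtain ⟨e2, -⟩ := k u₂ hu₂
      have h7 := w.2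
      have hh := hexp (w : V)
      conv_lhs at h7 => rw [hh]
      simp only [map_add, LinearMap.add_apply, smul_left, smul_right, v.2, u₁.2, u₂.2, hu₁, hu₂, hu₁₂,
        h.eq_zero_symm hu₁, h.eq_zero_symm hu₂, h.eq_zero_symm hu₁₂, mul_zero, add_zero, zero_add,
        mul_one] at h7
      exact h2 (by linear_combination h7 - hN - e1 - e2)
    · obtain ⟨y, hy1, hy2⟩ := (h.exists_common_perp_iff h3 v w).2 fun h0 => absurd h0 hN
      obtain ⟨e1, -⟩ := k y hy1
      rw [hy2, zero_mul] at e1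
      exact zero_ne_one e1
  exact ⟨h.invol3 h3 y, h.invol3 h3 s, h.invol3_ne_one h2 y, h.invol3_mul_self y,
    h.invol3_ne_one h2 s, h.invol3_mul_self s, (h.commute_invol3_iff h2 v y).2 (.inr hvy),
    (h.commute_invol3_iff h2 y s).2 (.inr hys), (h.commute_invol3_iff h2 s w).2 (.inr hsw)⟩

end IsHerm

end CfsgLib.Classical.Herm
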