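import Cfsg.Agent.Lib.Classical.Unitary.ThreeInvolutions
import Cfsg.Agent.Lib.Classical.Unitary.Matrix

/-!
Counting involutions of the special unitary group in dimension three, odd characteristic.
-/

set_option autoImplicit false

namespace CfsgLib.Classical.Herm

variable {F : Type*} [Field F] {V : Type*} [AddCommGroup V] [Module F V] {σ : F →+* F}
  {B : V →ₛₗ[σ] V →ₗ[F] F}

namespace IsHerm

variable (h : IsHerm B) [Finite F]
include h

theorem card_involutions_subtype (h3 : Module.finrank F V = 3) (h2 : (2 : F) ≠ 0)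
    (P : HSU B → Prop) :
    (Nat.card (fixedSub σ) + 1) * Nat.card {x : HSU B // x ≠ 1 ∧ x * x = 1 ∧ P x} =
      Nat.card {w : UnitVec B // P (h.invol3 h3 w)} := by
  classical
  have : FiniteDimensional F V := Module.finite_of_finrank_pos (by omega)
  have : Finite V := Module.finite_of_finite F
  have : Finite (V ≃ₗ[F] V) := Finite.of_injective _ DFunLike.coe_injective
  set T := {x : HSU B // x ≠ 1 ∧ x * x = 1 ∧ P x}
  have : Fintype T := Fintype.ofFinite T
  set f : {w : UnitVec B // P (h.invol3 h3 w)} → T := fun w =>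
    ⟨h.invol3 h3 w, h.invol3_ne_one h2 _, h.invol3_mul_self _, w.2⟩
  have hfib : ∀ t : T, Nat.card {w // f w = t} = Nat.card (fixedSub σ) + 1 := by
    intro t
    obtain ⟨v, hv⟩ := h.exists_eq_invol3 (h3 := h3) h2 t.2.1 t.2.2.1
    rw [← h.invol.card_norm_fibre one_ne_zero (map_one σ)]
    symm
    have hu : ∀ a : {a : F // a * σ a = 1}, B ((a : F) • (v : V)) ((a : F) • (v : V)) = 1 :=
      fun a => by rw [smul_self, v.2, a.2, mul_one]
    have he : ∀ a : {a : F // a * σ a = 1}, h.invol3 h3 ⟨_, hu a⟩ = (t : HSU B) := fun a => by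
      rw [← hv]
      exact ((h.invol3_eq_iff h2 v ⟨_, hu a⟩).2 ⟨a, a.2, rfl⟩).symm
    refine Nat.card_congr (Equiv.ofBijective
      (fun a => (⟨⟨⟨_, hu a⟩, by rw [he]; exact t.2.2.2⟩, Subtype.ext (he a)⟩ : {w // f w = t}))
      ⟨fun a b hab => ?_, ?_⟩)
    · exact Subtype.ext (smul_left_injective F v.ne_zero
        (congrArg (fun w : {w // f w = t} => ((w.1.1 : UnitVec B) : V)) hab))
    · rintro ⟨⟨w, hw⟩, hwt⟩
      have h1 : h.invol3 h3 w = (t : HSU B) := congrArg Subtype.val hwt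
      obtain ⟨a, ha, haw⟩ := (h.invol3_eq_iff h2 v w).1 (hv.trans h1.symm)
      exact ⟨⟨a, ha⟩, Subtype.ext (Subtype.ext (Subtype.ext haw.symm))⟩
  rw [← Nat.card_congr (Equiv.sigmaFiberEquiv f), Nat.card_sigma]
  simp only [hfib, Finset.sum_const, Finset.card_univ, smul_eq_mul]
  rw [← Nat.card_eq_fintype_card]
  exact mul_comm _ _

theorem card_involutions (h3 : Module.finrank F V = 3) (h2 : (2 : F) ≠ 0) :
    Nat.card {x : HSU B // x ≠ 1 ∧ x * x = 1} =
      Nat.card (fixedSub σ) ^ 2 * (Nat.card (fixedSub σ) ^ 2 - Nat.card (fixedSub σ) + 1) := by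
  have : FiniteDimensional F V := Module.finite_of_finrank_pos (by omega)
  have : Fintype F := Fintype.ofFinite F
  apply Nat.eq_of_mul_eq_mul_left (show 0 < Nat.card (fixedSub σ) + 1 by omega)
  have h1 := h.card_involutions_subtype h3 h2 (fun _ => True)
  simp only [and_true] at h1
  rw [h1, Nat.card_congr (Equiv.subtypeUnivEquiv (p := fun _ : UnitVec B => True) fun _ => trivial),
    show Nat.card (UnitVec B) = normCount σ 3 1 from h.card_norm_eq_count h3 1,
    normCount_one h.invol 2, if_neg (by decide)]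
  zify [Nat.le_self_pow two_ne_zero (Nat.card (fixedSub σ))]
  ring

theorem card_centralizer_involution (h3 : Module.finrank F V = 3) (h2 : (2 : F) ≠ 0)
    {t : HSU B} (ht : t ≠ 1) (ht2 : t * t = 1) :
    Nat.card (Subgroup.centralizer ({t} : Set (HSU B))) =
      Nat.card (fixedSub σ) * (Nat.card (fixedSub σ) + 1) * (Nat.card (fixedSub σ) ^ 2 - 1) := by
  have : FiniteDimensional F V := Module.finite_of_finrank_pos (by omega)
  have : Nontrivial V := Module.nontrivial_of_finrank_pos (R := F) (by omega)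
  have : Finite V := Module.finite_of_finite F
  have : Finite (V ≃ₗ[F] V) := Finite.of_injective _ DFunLike.coe_injective
  have hconj : ∀ x : HSU B, IsConj t x ↔ x ≠ 1 ∧ x * x = 1 := by
    intro x
    rw [isConj_iff]
    refine ⟨?_, fun hx => h.exists_conj_involution h3 h2 ht ht2 hx.1 hx.2⟩
    rintro ⟨g, rfl⟩
    exact ⟨fun h0 => ht (conj_eq_one_iff.1 h0), by rw [conj_mul, ht2, mul_one, mul_inv_cancel]⟩
  have key := Nat.card_congr (MulAction.orbitProdStabilizerEquivGroup (ConjAct (HSU B)) t)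
  rw [Nat.card_prod, Nat.card_congr (ConjAct.toConjAct (G := HSU B)).toEquiv.symm] at key
  have horb : Nat.card (MulAction.orbit (ConjAct (HSU B)) t) =
      Nat.card {x : HSU B // x ≠ 1 ∧ x * x = 1} := by
    refine Nat.card_congr (Equiv.subtypeEquivRight fun x => ?_)
    rw [ConjAct.mem_orbit_conjAct, isConj_comm, hconj]
  have hstab : Nat.card (MulAction.stabilizer (ConjAct (HSU B)) t) =
      Nat.card (Subgroup.centralizer ({t} : Set (HSU B))) := by
    rw [ConjAct.stabilizer_eq_centralizer]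
    rfl
  rw [horb, hstab, h.card_involutions h3 h2] at key
  have hG := h.card_HSU_mul
  rw [← key, h.card_HU 3 h3, Finset.prod_range_succ, Finset.prod_range_succ, Finset.prod_range_one,
    if_pos (by decide), if_neg (by decide), if_pos (by decide)] at hG
  set q := Nat.card (fixedSub σ) with hq
  have hq2 : 2 ≤ q := IsInvol.card_ge_two
  apply Nat.eq_of_mul_eq_mul_left
    (show 0 < (q + 1) * (q ^ 2 * (q ^ 2 - q + 1)) by positivity)
  rw [mul_assoc, hG]
  norm_num
  zify [Nat.le_self_pow two_ne_zero q, Nat.one_le_pow 2 q (by omega)]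
  ring

theorem card_unit_perp (h3 : Module.finrank F V = 3) (v : UnitVec B) :
    Nat.card {w : UnitVec B // B (v : V) w = 0} =
      Nat.card (fixedSub σ) * (Nat.card (fixedSub σ) ^ 2 - 1) := by
  have : FiniteDimensional F V := Module.finite_of_finrank_pos (by omega)
  have : Fintype F := Fintype.ofFinite F
  have hr := h.restrict_perp v.self_ne_zero
  have hd := h.finrank_perp v.self_ne_zero
  rw [Nat.card_congr
    ({ toFun := fun w => ⟨⟨(w.1 : V), h.mem_perp.2 w.2⟩, w.1.2⟩
       invFun := fun z => ⟨⟨(z.1 : V), z.2⟩, h.mem_perp.1 z.1.2⟩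
       left_inv := fun _ => rfl
       right_inv := fun _ => rfl } :
      {w : UnitVec B // B (v : V) w = 0} ≃
        {z : h.perp (v : V) // restrict B (h.perp (v : V)) z z = 1}),
    hr.card_norm_eq_count (n := 2) (by omega) 1, normCount_one h.invol 1, if_pos (by decide),
    pow_one]

theorem card_commuting_involutions (h3 : Module.finrank F V = 3) (h2 : (2 : F) ≠ 0)
    {t : HSU B} (ht : t ≠ 1) (ht2 : t * t = 1) :
    Nat.card {x : HSU B // x ≠ 1 ∧ x * x = 1 ∧ x ≠ t ∧ Commute t x} =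
      Nat.card (fixedSub σ) * (Nat.card (fixedSub σ) - 1) := by
  obtain ⟨v, rfl⟩ := h.exists_eq_invol3 (h3 := h3) h2 ht ht2
  have h1 := h.card_involutions_subtype h3 h2
    (fun x => x ≠ h.invol3 h3 v ∧ Commute (h.invol3 h3 v) x)
  rw [Nat.card_congr (Equiv.subtypeEquivRight (q := fun w : UnitVec B => B (v : V) w = 0)
    fun w => ?_), h.card_unit_perp h3 v] at h1
  · apply Nat.eq_of_mul_eq_mul_left (show 0 < Nat.card (fixedSub σ) + 1 by omega)
    rw [h1]
    have hq2 : 2 ≤ Nat.card (fixedSub σ) := IsInvol.card_ge_two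
    zify [Nat.one_le_pow 2 (Nat.card (fixedSub σ)) (by omega),
      show 1 ≤ Nat.card (fixedSub σ) by omega]
    ring
  · constructor
    · exact fun hw => ((h.commute_invol3_iff h2 v w).1 hw.2).resolve_left (Ne.symm hw.1)
    · intro hw
      refine ⟨fun he => ?_, (h.commute_invol3_iff h2 v w).2 (.inr hw)⟩
      obtain ⟨a, ha, haw⟩ := (h.invol3_eq_iff h2 v w).1 he.symm
      rw [haw, smul_right, v.2, mul_one] at hw
      rw [hw, zero_mul] at ha
      exact zero_ne_one ha

theorem no_common_neighbour_iff (h3 : Module.finrank F V = 3) (h2 : (2 : F) ≠ 0)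
    (v w : UnitVec B) :
    (¬ Commute (h.invol3 h3 v) (h.invol3 h3 w) ∧ ∀ y : HSU B, y ≠ 1 → y * y = 1 →
        ¬ (Commute (h.invol3 h3 v) y ∧ Commute y (h.invol3 h3 w))) ↔
      B (v : V) w * σ (B (v : V) w) = 1 ∧ (w : V) ≠ B (v : V) w • (v : V) := by
  constructor
  · rintro ⟨hnc, hno⟩
    by_contra hc
    push Not at hc
    obtain ⟨u, hu1, hu2⟩ := (h.exists_common_perp_iff h3 v w).2 hc
    exact hno (h.invol3 h3 u) (h.invol3_ne_one h2 u) (h.invol3_mul_self u)
      ⟨(h.commute_invol3_iff h2 v u).2 (.inr hu1), (h.commute_invol3_iff h2 u w).2 (.inr hu2)⟩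
  · rintro ⟨hN, hne⟩
    have hnc : ¬ Commute (h.invol3 h3 v) (h.invol3 h3 w) := by
      intro hc
      rcases (h.commute_invol3_iff h2 v w).1 hc with he | he
      · obtain ⟨a, -, haw⟩ := (h.invol3_eq_iff h2 v w).1 he
        exact hne (by rw [haw, smul_right, v.2, mul_one])
      · rw [he, zero_mul] at hN
        exact zero_ne_one hN
    refine ⟨hnc, fun y hy1 hy2 => ?_⟩
    rintro ⟨hvy, hyw⟩
    obtain ⟨u, rfl⟩ := h.exists_eq_invol3 (h3 := h3) h2 hy1 hy2
    have e1 := ((h.commute_invol3_iff h2 v u).1 hvy).resolve_left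
      (fun he => hnc (he ▸ hyw))
    have e2 := ((h.commute_invol3_iff h2 u w).1 hyw).resolve_left
      (fun he => hnc (he ▸ hvy))
    exact hne ((h.exists_common_perp_iff h3 v w).1 ⟨u, e1, e2⟩ hN)

theorem card_no_common_neighbour (h3 : Module.finrank F V = 3) (h2 : (2 : F) ≠ 0)
    {t : HSU B} (ht : t ≠ 1) (ht2 : t * t = 1) :
    Nat.card {x : HSU B // x ≠ 1 ∧ x * x = 1 ∧ ¬ Commute t x ∧
        ∀ y : HSU B, y ≠ 1 → y * y = 1 → ¬ (Commute t y ∧ Commute y x)} =
      (Nat.card (fixedSub σ) + 1) * (Nat.card (fixedSub σ) ^ 2 - 1) := by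
  have : FiniteDimensional F V := Module.finite_of_finrank_pos (by omega)
  have : Finite V := Module.finite_of_finite F
  have : Fintype F := Fintype.ofFinite F
  obtain ⟨v, rfl⟩ := h.exists_eq_invol3 (h3 := h3) h2 ht ht2
  have h1 := h.card_involutions_subtype h3 h2
    (fun x => ¬ Commute (h.invol3 h3 v) x ∧
      ∀ y : HSU B, y ≠ 1 → y * y = 1 → ¬ (Commute (h.invol3 h3 v) y ∧ Commute y x))
  rw [Nat.card_congr (Equiv.subtypeEquivRight fun w => h.no_common_neighbour_iff h3 h2 v w)] at h1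
  have hr := h.restrict_perp v.self_ne_zero
  have hd := h.finrank_perp v.self_ne_zero
  have hu : ∀ (a : F) (z : h.perp (v : V)), a * σ a = 1 → B (z : V) z = 0 →
      B (a • (v : V) + (z : V)) (a • (v : V) + (z : V)) = 1 := by
    intro a z ha hz
    rw [h.add_self_of_perp (by rw [smul_left, h.mem_perp.1 z.2, mul_zero]), smul_self, v.2, ha, hz,
      mul_one, add_zero]
  have hva : ∀ (a : F) (z : h.perp (v : V)), B (v : V) (a • (v : V) + (z : V)) = a := fun a z => by
    rw [map_add, smul_right, v.2, h.mem_perp.1 z.2, mul_one, add_zero]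
  have e : {w : UnitVec B // B (v : V) w * σ (B (v : V) w) = 1 ∧
        (w : V) ≠ B (v : V) w • (v : V)} ≃
      {a : F // a * σ a = 1} ×
        {z : h.perp (v : V) // restrict B (h.perp (v : V)) z z = 0 ∧ z ≠ 0} :=
    { toFun := fun w => (⟨_, w.2.1⟩,
        ⟨⟨(w.1 : V) - B (v : V) w.1 • (v : V), h.mem_perp.2
            (by rw [map_sub, smul_right, v.2, mul_one, sub_self])⟩, by
          rw [restrict_apply]
          simp only [map_sub, LinearMap.sub_apply, smul_left, smul_right, v.2, w.1.2,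
            ← h.symm (v : V) (w.1 : V)]
          linear_combination -w.2.1,
          fun h0 => w.2.2 (sub_eq_zero.1 (congrArg Subtype.val h0))⟩)
      invFun := fun p => ⟨⟨(p.1 : F) • (v : V) + (p.2.1 : V), hu p.1 p.2.1 p.1.2 p.2.2.1⟩, by
          rw [hva]; exact p.1.2, by
          rw [hva]
          exact fun h0 => p.2.2.2 (Subtype.ext (by
            show ((p.2.1 : h.perp (v : V)) : V) = 0
            linear_combination (norm := module) h0))⟩
      left_inv := fun w => Subtype.ext (Subtype.ext (add_sub_cancel _ _))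
      right_inv := fun p => Prod.ext (Subtype.ext (hva _ _)) (Subtype.ext (Subtype.ext (by
        show _ - _ • (v : V) = _
        rw [hva, add_sub_cancel_left]))) }
  rw [Nat.card_congr e, Nat.card_prod, h.invol.card_norm_fibre one_ne_zero (map_one σ)] at h1
  rw [Nat.eq_of_mul_eq_mul_left (Nat.succ_pos _) h1]
  have hz : Nat.card {z : h.perp (v : V) // restrict B (h.perp (v : V)) z z = 0 ∧ z ≠ 0} + 1 =
      normCount σ 2 0 := by
    rw [← hr.card_norm_eq_count (n := 2) (by omega) 0]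
    show Nat.card ↥{z : h.perp (v : V) | restrict B (h.perp (v : V)) z z = 0 ∧ z ≠ 0} + 1 =
      Nat.card ↥{z : h.perp (v : V) | restrict B (h.perp (v : V)) z z = 0}
    rw [Nat.card_coe_set_eq, Nat.card_coe_set_eq,
      show {z : h.perp (v : V) | restrict B (h.perp (v : V)) z z = 0 ∧ z ≠ 0} =
        {z : h.perp (v : V) | restrict B (h.perp (v : V)) z z = 0} \ {0} from rfl]
    exact Set.ncard_sdiff_singleton_add_one (by simp) (Set.toFinite _)
  rw [normCount_zero h.invol, if_pos (by decide)] at hz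
  have hz' := Nat.add_right_cancel hz
  rw [hz', pow_one, mul_comm]

theorem card_common_neighbour (h3 : Module.finrank F V = 3) (h2 : (2 : F) ≠ 0)
    {t : HSU B} (ht : t ≠ 1) (ht2 : t * t = 1) :
    Nat.card {x : HSU B // x ≠ 1 ∧ x * x = 1 ∧ ¬ Commute t x ∧
        ∃ y : HSU B, y ≠ 1 ∧ y * y = 1 ∧ Commute t y ∧ Commute y x} =
      Nat.card (fixedSub σ) * (Nat.card (fixedSub σ) - 2) *
        (Nat.card (fixedSub σ) ^ 2 - 1) := by
  have : FiniteDimensional F V := Module.finite_of_finrank_pos (by omega)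
  have : Finite V := Module.finite_of_finite F
  have : Finite (V ≃ₗ[F] V) := Finite.of_injective _ DFunLike.coe_injective
  set A : Set (HSU B) := {x | x ≠ 1 ∧ x * x = 1 ∧ x ≠ t ∧ Commute t x}
  set C : Set (HSU B) := {x | x ≠ 1 ∧ x * x = 1 ∧ ¬ Commute t x ∧
    ∃ y : HSU B, y ≠ 1 ∧ y * y = 1 ∧ Commute t y ∧ Commute y x}
  set D : Set (HSU B) := {x | x ≠ 1 ∧ x * x = 1 ∧ ¬ Commute t x ∧
    ∀ y : HSU B, y ≠ 1 → y * y = 1 → ¬ (Commute t y ∧ Commute y x)}
  set I : Set (HSU B) := {x | x ≠ 1 ∧ x * x = 1}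
  have hI : I = insert t (A ∪ C ∪ D) := by
    ext x
    simp only [I, A, C, D, Set.mem_insert_iff, Set.mem_union, Set.mem_ofPred]
    constructor
    · rintro ⟨h1, h4⟩
      by_cases hx : x = t
      · exact .inl hx
      right
      by_cases hc : Commute t x
      · exact .inl (.inl ⟨h1, h4, hx, hc⟩)
      by_cases hy : ∃ y : HSU B, y ≠ 1 ∧ y * y = 1 ∧ Commute t y ∧ Commute y x
      · exact .inl (.inr ⟨h1, h4, hc, hy⟩)
      exact .inr ⟨h1, h4, hc, fun y a b c => hy ⟨y, a, b, c.1, c.2⟩⟩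
    · rintro (rfl | (⟨h1, h4, -⟩ | ⟨h1, h4, -⟩) | ⟨h1, h4, -⟩)
      exacts [⟨ht, ht2⟩, ⟨h1, h4⟩, ⟨h1, h4⟩, ⟨h1, h4⟩]
  have hAC : Disjoint A C := Set.disjoint_left.2 fun x a c => c.2.2.1 a.2.2.2
  have hACD : Disjoint (A ∪ C) D := Set.disjoint_left.2 fun x a d => by
    rcases a with a | ⟨-, -, -, y, a1, a2, a3, a4⟩
    · exact d.2.2.1 a.2.2.2
    · exact d.2.2.2 y a1 a2 ⟨a3, a4⟩
  have htU : t ∉ A ∪ C ∪ D := by
    rintro ((a | a) | a)
    · exact a.2.2.1 rfl
    all_goals exact a.2.2.1 (Commute.refl t)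
  have hcount := congrArg Set.ncard hI
  rw [Set.ncard_insert_of_notMem htU, Set.ncard_union_eq hACD, Set.ncard_union_eq hAC,
    ← Nat.card_coe_set_eq I, ← Nat.card_coe_set_eq A, ← Nat.card_coe_set_eq C,
    ← Nat.card_coe_set_eq D] at hcount
  have eI : Nat.card I = _ := h.card_involutions h3 h2
  have eA : Nat.card A = _ := h.card_commuting_involutions h3 h2 ht ht2
  have eD : Nat.card D = _ := h.card_no_common_neighbour h3 h2 ht ht2
  rw [eI, eA, eD] at hcount
  show Nat.card C = _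
  have hq2 : 2 ≤ Nat.card (fixedSub σ) := IsInvol.card_ge_two
  zify [Nat.le_self_pow two_ne_zero (Nat.card (fixedSub σ)),
    Nat.one_le_pow 2 (Nat.card (fixedSub σ)) (by omega), hq2,
    show 1 ≤ Nat.card (fixedSub σ) by omega] at hcount ⊢
  linear_combination -hcount

end IsHerm

theorem two_ne_zero_of_odd_card [Fintype F] {q : ℕ} (hq : Odd q)
    (hF : Fintype.card F = q ^ 2) : (2 : F) ≠ 0 := by
  intro h2
  obtain ⟨m, hm⟩ : Odd (Fintype.card F) := hF ▸ hq.pow
  have h0 : (Fintype.card F : F) = 0 := FiniteField.cast_card_eq_zero F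
  rw [hm] at h0
  push_cast at h0
  rw [h2, zero_mul, zero_add] at h0
  exact one_ne_zero h0

end CfsgLib.Classical.Herm
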