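import Cfsg.Agent.Lib.Classical.Unitary.Two

/-!
The group `PSU_3(2)`: order 72, an elementary normal subgroup of order 9, quaternion quotient.
-/

set_option autoImplicit false

namespace CfsgLib.Classical.Herm.ThreeTwo

open scoped Matrix

variable {F : Type*} [Field F]

/-- The Fourier matrix. -/
def matM (w : F) : Matrix (Fin 3) (Fin 3) F := !![1, 1, 1; 1, w, w ^ 2; 1, w ^ 2, w]

/-- A conjugate of the Fourier matrix. -/
def matX (w : F) : Matrix (Fin 3) (Fin 3) F := !![1, w ^ 2, w ^ 2; w, w, w ^ 2; w, w ^ 2, w]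

/-- The diagonal element. -/
def matD (w : F) : Matrix (Fin 3) (Fin 3) F := !![1, 0, 0; 0, w, 0; 0, 0, w ^ 2]

/-- The cyclic permutation. -/
def matP (F : Type*) [Field F] : Matrix (Fin 3) (Fin 3) F := !![0, 1, 0; 0, 0, 1; 1, 0, 0]

/-- The scalar element. -/
def matZ (w : F) : Matrix (Fin 3) (Fin 3) F := !![w, 0, 0; 0, w, 0; 0, 0, w]

theorem add_sq_char_two (h2 : (2 : F) = 0) (a b : F) : (a + b) ^ 2 = a ^ 2 + b ^ 2 := by
  linear_combination a * b * h2

theorem mem_SU {A : Matrix.SpecialLinearGroup (Fin 3) F} (h2 : (2 : F) = 0)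
    (h : ∀ j k : Fin 3, ∑ i, (A : Matrix (Fin 3) (Fin 3) F) i j *
      ((A : Matrix (Fin 3) (Fin 3) F) i k) ^ 2 = if j = k then 1 else 0) :
    A ∈ Cfsg.SU 3 F 2 := by
  intro u v
  show Cfsg.hermForm 3 F 2 ((A : Matrix (Fin 3) (Fin 3) F) *ᵥ u)
    ((A : Matrix (Fin 3) (Fin 3) F) *ᵥ v) = Cfsg.hermForm 3 F 2 u v
  have h00 := h 0 0
  have h01 := h 0 1
  have h02 := h 0 2
  have h10 := h 1 0
  have h11 := h 1 1
  have h12 := h 1 2
  have h20 := h 2 0
  have h21 := h 2 1
  have h22 := h 2 2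
  simp only [Fin.sum_univ_three, ↓reduceIte, Fin.isValue, Fin.reduceEq] at *
  simp only [Cfsg.hermForm, Matrix.mulVec, dotProduct, Fin.sum_univ_three, Fin.isValue,
    add_sq_char_two h2, mul_pow]
  linear_combination u 0 * v 0 ^ 2 * h00 + u 0 * v 1 ^ 2 * h01 + u 0 * v 2 ^ 2 * h02 +
    u 1 * v 0 ^ 2 * h10 + u 1 * v 1 ^ 2 * h11 + u 1 * v 2 ^ 2 * h12 +
    u 2 * v 0 ^ 2 * h20 + u 2 * v 1 ^ 2 * h21 + u 2 * v 2 ^ 2 * h22

/-- A root of `X ^ 2 + X + 1`, in characteristic two. -/
structure Omega (w : F) : Prop where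
  two : (2 : F) = 0
  root : w ^ 2 + w + 1 = 0

theorem exists_omega [Fintype F] (hF : Fintype.card F = 4) : ∃ w : F, Omega w := by
  classical
  obtain ⟨p, hp⟩ := CharP.exists F
  obtain ⟨n, hpp, hn⟩ := FiniteField.card F p
  have hp2 : p = 2 := by
    have h1 : p ∣ 2 ^ 2 := by
      rw [show (2 : ℕ) ^ 2 = 4 from rfl, ← hF, hn]
      exact dvd_pow_self p n.ne_zero
    exact (Nat.prime_dvd_prime_iff_eq hpp Nat.prime_two).1 (hpp.dvd_of_dvd_pow h1)
  subst hp2
  obtain ⟨w, -, hw⟩ := Finset.exists_mem_notMem_of_card_lt_card (s := ({0, 1} : Finset F))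
    (t := Finset.univ) (by rw [Finset.card_univ, hF]; exact Finset.card_le_two.trans_lt (by norm_num))
  simp only [Finset.mem_insert, Finset.mem_singleton, not_or] at hw
  have h4 := FiniteField.pow_card_sub_one_eq_one w hw.1
  rw [hF, show 4 - 1 = 3 from rfl] at h4
  refine ⟨w, CharP.cast_eq_zero F 2, ?_⟩
  apply mul_left_cancel₀ (sub_ne_zero.2 hw.2)
  linear_combination h4

variable {w : F} (hw : Omega w)
include hw

theorem cube : w ^ 3 = 1 := by linear_combination (w - 1) * hw.root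

theorem ne_zero : w ≠ 0 := by
  rintro rfl
  simpa using hw.root

theorem ne_one : w ≠ 1 := by
  rintro rfl
  exact one_ne_zero (α := F) (by linear_combination hw.root - hw.two)

theorem det_matM : (matM w).det = 1 := by
  obtain ⟨h2, h⟩ := hw
  simp [matM, Matrix.det_fin_three]
  grind

theorem det_matX : (matX w).det = 1 := by
  obtain ⟨h2, h⟩ := hw
  simp [matX, Matrix.det_fin_three]
  grind

theorem det_matD : (matD w).det = 1 := by
  obtain ⟨h2, h⟩ := hw
  simp [matD, Matrix.det_fin_three]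
  grind

theorem det_matP : (matP F).det = 1 := by simp [matP, Matrix.det_fin_three]

theorem det_matZ : (matZ w).det = 1 := by
  obtain ⟨h2, h⟩ := hw
  simp [matZ, Matrix.det_fin_three]
  grind

/-- The Fourier element of `SU_3(2)`. -/
def elM : Cfsg.SU 3 F 2 := ⟨⟨matM w, det_matM hw⟩, mem_SU hw.two fun j k => by
  obtain ⟨h2, h⟩ := hw
  fin_cases j <;> fin_cases k <;> simp [matM, Fin.sum_univ_three] <;> grind⟩

/-- The conjugate Fourier element. -/
def elX : Cfsg.SU 3 F 2 := ⟨⟨matX w, det_matX hw⟩, mem_SU hw.two fun j k => by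
  obtain ⟨h2, h⟩ := hw
  fin_cases j <;> fin_cases k <;> simp [matX, Fin.sum_univ_three] <;> grind⟩

/-- The diagonal element of `SU_3(2)`. -/
def elD : Cfsg.SU 3 F 2 := ⟨⟨matD w, det_matD hw⟩, mem_SU hw.two fun j k => by
  obtain ⟨h2, h⟩ := hw
  fin_cases j <;> fin_cases k <;> simp [matD, Fin.sum_univ_three] <;> grind⟩

/-- The cyclic element of `SU_3(2)`. -/
def elP : Cfsg.SU 3 F 2 := ⟨⟨matP F, det_matP hw⟩, mem_SU hw.two fun j k => by
  fin_cases j <;> fin_cases k <;> simp [matP, Fin.sum_univ_three]⟩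

/-- The scalar element of `SU_3(2)`. -/
def elZ : Cfsg.SU 3 F 2 := ⟨⟨matZ w, det_matZ hw⟩, mem_SU hw.two fun j k => by
  obtain ⟨h2, h⟩ := hw
  fin_cases j <;> fin_cases k <;> simp [matZ, Fin.sum_univ_three] <;> grind⟩

omit hw in
theorem su_ext {a b : Cfsg.SU 3 F 2}
    (h : ((a : Matrix.SpecialLinearGroup (Fin 3) F) : Matrix (Fin 3) (Fin 3) F) =
      ((b : Matrix.SpecialLinearGroup (Fin 3) F) : Matrix (Fin 3) (Fin 3) F)) : a = b :=
  Subtype.ext (Subtype.ext h)

theorem elZ_mem_center : elZ hw ∈ Subgroup.center (Cfsg.SU 3 F 2) := by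
  refine Subgroup.mem_center_iff.2 fun a => su_ext ?_
  show ((a : Matrix.SpecialLinearGroup (Fin 3) F) : Matrix (Fin 3) (Fin 3) F) * matZ w =
    matZ w * ((a : Matrix.SpecialLinearGroup (Fin 3) F) : Matrix (Fin 3) (Fin 3) F)
  have : matZ w = w • (1 : Matrix (Fin 3) (Fin 3) F) := by
    ext i j; fin_cases i <;> fin_cases j <;> simp [matZ]
  rw [this, mul_smul_comm, smul_mul_assoc, mul_one, one_mul]

theorem elD_pow : elD hw ^ 3 = 1 := by
  refine su_ext ?_
  show matD w ^ 3 = 1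
  obtain ⟨h2, h⟩ := hw
  ext i j
  fin_cases i <;> fin_cases j <;> simp [matD, pow_succ] <;> grind

theorem elP_pow : elP hw ^ 3 = 1 := by
  refine su_ext ?_
  show matP F ^ 3 = 1
  ext i j
  fin_cases i <;> fin_cases j <;> simp [matP, pow_succ]

theorem elM_pow : elM hw ^ 4 = 1 := by
  refine su_ext ?_
  show matM w ^ 4 = 1
  obtain ⟨h2, h⟩ := hw
  ext i j
  fin_cases i <;> fin_cases j <;> simp [matM, pow_succ] <;> grind

theorem elX_sq : elX hw ^ 2 = elM hw ^ 2 := by
  refine su_ext ?_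
  show matX w ^ 2 = matM w ^ 2
  obtain ⟨h2, h⟩ := hw
  ext i j
  fin_cases i <;> fin_cases j <;> simp [matX, matM, pow_succ] <;> grind

theorem elX_mul_elM_mul_elX : elX hw * elM hw * elX hw = elM hw := by
  refine su_ext ?_
  show matX w * matM w * matX w = matM w
  obtain ⟨h2, h⟩ := hw
  ext i j
  fin_cases i <;> fin_cases j <;> simp [matX, matM] <;> grind

theorem elP_mul_elD : elP hw * elD hw = elZ hw * elD hw * elP hw := by
  refine su_ext ?_
  show matP F * matD w = matZ w * matD w * matP F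
  obtain ⟨h2, h⟩ := hw
  ext i j
  fin_cases i <;> fin_cases j <;> simp [matP, matD, matZ] <;> grind

theorem elM_mul_elD : elM hw * elD hw = elP hw * elM hw := by
  refine su_ext ?_
  show matM w * matD w = matP F * matM w
  obtain ⟨h2, h⟩ := hw
  ext i j
  fin_cases i <;> fin_cases j <;> simp [matP, matD, matM] <;> grind

theorem elM_mul_elP : elM hw * elP hw = elD hw ^ 2 * elM hw := by
  refine su_ext ?_
  show matM w * matP F = matD w ^ 2 * matM w
  obtain ⟨h2, h⟩ := hw
  ext i j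
  fin_cases i <;> fin_cases j <;> simp [matP, matD, matM, pow_succ] <;> grind

theorem elX_mul_elD : elX hw * elD hw = elZ hw * elP hw * elD hw * elX hw := by
  refine su_ext ?_
  show matX w * matD w = matZ w * matP F * matD w * matX w
  obtain ⟨h2, h⟩ := hw
  ext i j
  fin_cases i <;> fin_cases j <;> simp [matP, matD, matX, matZ] <;> grind

theorem elX_mul_elP : elX hw * elP hw = elZ hw ^ 2 * elP hw ^ 2 * elD hw * elX hw := by
  refine su_ext ?_
  show matX w * matP F = matZ w ^ 2 * matP F ^ 2 * matD w * matX w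
  obtain ⟨h2, h⟩ := hw
  ext i j
  fin_cases i <;> fin_cases j <;> simp [matP, matD, matX, matZ, pow_succ] <;> grind

/-! ### In the central quotient -/

omit hw in
theorem center_scalar [Fintype F] (hF : Fintype.card F = 4) {g : Cfsg.SU 3 F 2}
    (hg : g ∈ Subgroup.center (Cfsg.SU 3 F 2)) :
    ∃ a : F, ((g : Matrix.SpecialLinearGroup (Fin 3) F) : Matrix (Fin 3) (Fin 3) F) = a • 1 := by
  have hF' : Fintype.card F = 2 ^ 2 := by rw [hF]; norm_num
  have hh := hermStd_isHerm (n := 3) hF'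
  have hg' : suEquiv 3 hF' g ∈ Subgroup.center (HSU (hermStd 3 hF')) := by
    rw [← map_center_of_equiv (suEquiv 3 hF')]
    exact Subgroup.mem_map_of_mem _ hg
  obtain ⟨a, ha⟩ := (hh.mem_center_HSU_iff (by rw [finrank_std])).1 hg'
  refine ⟨a, Matrix.toLin'.injective (LinearMap.ext fun v => ?_)⟩
  rw [Matrix.toLin'_apply, ← suEquiv_apply hF', ha]
  simp [Matrix.smul_mulVec]

/-- The class modulo the centre. -/
abbrev cls (g : Cfsg.SU 3 F 2) : Cfsg.PSU 3 F 2 := (g : Cfsg.PSU 3 F 2)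

theorem cls_Z : cls (elZ hw) = 1 := (QuotientGroup.eq_one_iff _).2 (elZ_mem_center hw)

theorem commute_DP : Commute (cls (elD hw)) (cls (elP hw)) := by
  show cls (elD hw) * cls (elP hw) = cls (elP hw) * cls (elD hw)
  have := congrArg cls (elP_mul_elD hw)
  simp only [cls, QuotientGroup.mk_mul] at this ⊢
  rw [this, show ((elZ hw : Cfsg.PSU 3 F 2)) = 1 from cls_Z hw, one_mul]

/-- The homomorphism from the elementary group of order nine. -/
def nineHom : Multiplicative (ZMod 3) × Multiplicative (ZMod 3) →* Cfsg.PSU 3 F 2 where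
  toFun x := cls (elD hw) ^ (Multiplicative.toAdd x.1).val *
    cls (elP hw) ^ (Multiplicative.toAdd x.2).val
  map_one' := by simp
  map_mul' x y := by
    have hD : cls (elD hw) ^ 3 = 1 := by
      show ((elD hw : Cfsg.PSU 3 F 2)) ^ 3 = 1
      rw [← QuotientGroup.mk_pow, elD_pow hw]; rfl
    have hP : cls (elP hw) ^ 3 = 1 := by
      show ((elP hw : Cfsg.PSU 3 F 2)) ^ 3 = 1
      rw [← QuotientGroup.mk_pow, elP_pow hw]; rfl
    show cls (elD hw) ^ ((Multiplicative.toAdd x.1 + Multiplicative.toAdd y.1).val) *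
      cls (elP hw) ^ ((Multiplicative.toAdd x.2 + Multiplicative.toAdd y.2).val) = _
    rw [ZMod.val_add, ZMod.val_add, ← pow_eq_pow_mod _ hD, ← pow_eq_pow_mod _ hP, pow_add, pow_add,
      mul_assoc, mul_assoc]
    congr 1
    rw [← mul_assoc, ((commute_DP hw).pow_pow _ _).eq, mul_assoc]

theorem nineHom_injective [Fintype F] (hF : Fintype.card F = 4) :
    Function.Injective (nineHom hw) := by
  rw [injective_iff_map_eq_one]
  rintro ⟨x, y⟩ hxy
  obtain ⟨i, rfl⟩ := Multiplicative.ofAdd.surjective x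
  obtain ⟨j, rfl⟩ := Multiplicative.ofAdd.surjective y
  have h1 : cls (elD hw ^ i.val * elP hw ^ j.val) = 1 := hxy
  obtain ⟨a, ha⟩ := center_scalar hF ((QuotientGroup.eq_one_iff _).1 h1)
  have ha' : matD w ^ i.val * matP F ^ j.val = a • (1 : Matrix (Fin 3) (Fin 3) F) := ha
  have e00 := congrFun₂ ha' 0 0
  have e11 := congrFun₂ ha' 1 1
  have e01 := congrFun₂ ha' 0 1
  have e02 := congrFun₂ ha' 0 2
  have hc := cube hw
  have h0 := ne_zero hw
  have h1' := ne_one hw
  have key : ∀ k : ZMod 3, k = 0 ∨ k = 1 ∨ k = 2 := by decide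
  have hv2 : (2 : ZMod 3).val = 2 := rfl
  rcases key i with rfl | rfl | rfl <;> rcases key j with rfl | rfl | rfl <;>
    simp [hv2, ZMod.val_one, matD, matP, pow_succ, ← pow_add] at e00 e11 e01 e02 <;>
    first
      | exact Prod.ext rfl rfl
      | (exfalso; grind)

theorem nine_pow (x : (nineHom hw).range) : (x : Cfsg.PSU 3 F 2) ^ 3 = 1 := by
  obtain ⟨y, hy⟩ := x.2
  have : ∀ z : Multiplicative (ZMod 3), z ^ 3 = 1 := by decide
  rw [← hy, ← map_pow, show y ^ 3 = 1 from Prod.ext (this _) (this _), map_one]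

/-- The homomorphism from the quaternion group. -/
def quatHom : QuaternionGroup 2 →* Cfsg.PSU 3 F 2 where
  toFun
    | .a i => cls (elM hw) ^ i.val
    | .xa i => cls (elX hw) * cls (elM hw) ^ i.val
  map_one' := by
    show cls (elM hw) ^ (0 : ZMod (2 * 2)).val = 1
    rw [ZMod.val_zero, pow_zero]
  map_mul' := by
    have h4 : cls (elM hw) ^ (2 * 2) = 1 := by
      show ((elM hw : Cfsg.PSU 3 F 2)) ^ 4 = 1
      rw [← QuotientGroup.mk_pow, elM_pow hw]; rfl
    have hx2 : cls (elX hw) * cls (elX hw) = cls (elM hw) ^ 2 := by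
      show ((elX hw : Cfsg.PSU 3 F 2)) * elX hw = ((elM hw : Cfsg.PSU 3 F 2)) ^ 2
      rw [← QuotientGroup.mk_mul, ← pow_two, elX_sq hw]; rfl
    have hxmx : cls (elX hw) * cls (elM hw) * cls (elX hw) = cls (elM hw) := by
      show ((elX hw : Cfsg.PSU 3 F 2)) * elM hw * elX hw = (elM hw : Cfsg.PSU 3 F 2)
      rw [← QuotientGroup.mk_mul, ← QuotientGroup.mk_mul, elX_mul_elM_mul_elX hw]
    set m := cls (elM hw)
    set x := cls (elX hw)
    have hmx : m * x = x * m⁻¹ := by
      have h1 : x * m⁻¹ = x * m ^ 3 := by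
        rw [show m⁻¹ = m ^ 3 from inv_eq_of_mul_eq_one_right (by rw [← pow_succ']; exact h4)]
      calc m * x = x⁻¹ * (x * m * x) := by group
        _ = x⁻¹ * m := by rw [hxmx]
        _ = x * m⁻¹ := by
          rw [inv_mul_eq_iff_eq_mul, ← mul_assoc, hx2, pow_two, mul_inv_cancel_right]
    have hpow : ∀ k : ℕ, m ^ k * x = x * (m ^ k)⁻¹ := by
      intro k
      induction k with
      | zero => simp
      | succ k ih => rw [pow_succ, mul_assoc, hmx, ← mul_assoc, ih, mul_assoc, ← mul_inv_rev,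
          ← pow_succ', pow_succ]
    have hmod : ∀ k : ℕ, m ^ (k % (2 * 2)) = m ^ k := fun k => (pow_eq_pow_mod k h4).symm
    have hneg : ∀ i : ZMod (2 * 2), (m ^ i.val)⁻¹ = m ^ (-i).val := fun i => by
      refine inv_eq_of_mul_eq_one_right ?_
      rw [← pow_add, ← hmod, ← ZMod.val_add, add_neg_cancel, ZMod.val_zero, pow_zero]
    have hadd : ∀ i j : ZMod (2 * 2), m ^ i.val * m ^ j.val = m ^ (i + j).val := fun i j => by
      rw [ZMod.val_add, hmod, pow_add]
    rintro (i | i) (j | j)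
    · simp only [QuaternionGroup.a_mul_a]
      rw [hadd]
    · simp only [QuaternionGroup.a_mul_xa]
      rw [← mul_assoc, hpow, mul_assoc, hneg, hadd, neg_add_eq_sub]
    · simp only [QuaternionGroup.xa_mul_a]
      rw [mul_assoc, hadd]
    · simp only [QuaternionGroup.xa_mul_xa]
      have h2 : m ^ 2 = m ^ (2 : ZMod (2 * 2)).val := rfl
      rw [mul_assoc, ← mul_assoc (m ^ i.val) x, hpow, mul_assoc, ← mul_assoc x x, hx2, hneg, hadd,
        h2, hadd]
      congr 2
      push_cast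
      ring

theorem quatHom_injective [Fintype F] (hF : Fintype.card F = 4) :
    Function.Injective (quatHom hw) := by
  have hsq : quatHom hw (.a 2) ≠ 1 := by
    intro hc
    have h1 : cls (elM hw ^ 2) = 1 := hc
    obtain ⟨a, ha⟩ := center_scalar hF ((QuotientGroup.eq_one_iff _).1 h1)
    have ha' : matM w ^ 2 = a • (1 : Matrix (Fin 3) (Fin 3) F) := ha
    have e12 := congrFun₂ ha' 1 2
    have := hw.two
    have := hw.root
    simp [matM, pow_succ] at e12
    grind
  rw [injective_iff_map_eq_one]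
  intro g hg
  by_contra hne
  have key : ∀ g : QuaternionGroup 2, g ≠ 1 → g = .a 2 ∨ g ^ 2 = .a 2 := by decide
  rcases key g hne with rfl | h2
  · exact hsq hg
  · exact hsq (by rw [← h2, map_pow, hg, one_pow])

end CfsgLib.Classical.Herm.ThreeTwo

namespace CfsgLib.Classical.Herm

variable {F : Type*} [Field F] [Fintype F]

open ThreeTwo in
theorem psu_three_two (hF : Fintype.card F = 4) :
    Nat.card (Cfsg.PSU 3 F 2) = 72 ∧
      ∃ (N : Subgroup (Cfsg.PSU 3 F 2)) (_ : N.Normal), Nat.card N = 9 ∧ (∀ x ∈ N, x ^ 3 = 1) ∧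
        Nonempty (Cfsg.PSU 3 F 2 ⧸ N ≃* QuaternionGroup 2) := by
  obtain ⟨w, hw⟩ := exists_omega hF
  have hF' : Fintype.card F = 2 ^ 2 := by rw [hF]; norm_num
  have hcard : Nat.card (Cfsg.PSU 3 F 2) = 72 := by
    have h := card_PSU hF' 3 (by norm_num)
    norm_num [Finset.prod_range_succ, Nat.gcd, even_iff_two_dvd] at h
    omega
  refine ⟨hcard, ?_⟩
  set G := Cfsg.PSU 3 F 2
  have : Finite G := Nat.finite_of_card_ne_zero (by rw [hcard]; norm_num)
  set N := (nineHom hw).range with hN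
  set Q := (quatHom hw).range with hQ
  have hcN : Nat.card N = 9 := by
    rw [hN, Nat.card_congr (MonoidHom.ofInjective (nineHom_injective hw hF)).toEquiv.symm,
      Nat.card_prod]
    simp
  have hcQ : Nat.card Q = 8 := by
    rw [hQ, Nat.card_congr (MonoidHom.ofInjective (quatHom_injective hw hF)).toEquiv.symm,
      Nat.card_eq_fintype_card, QuaternionGroup.card]
  have htop : N ⊔ Q = ⊤ := by
    refine Subgroup.eq_top_of_card_eq _ (Nat.dvd_antisymm (Subgroup.card_subgroup_dvd_card _) ?_)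
    rw [hcard, show 72 = 9 * 8 from rfl]
    refine (by norm_num : Nat.Coprime 9 8).mul_dvd_of_dvd_of_dvd ?_ ?_
    · rw [← hcN]; exact Subgroup.card_dvd_of_le le_sup_left
    · rw [← hcQ]; exact Subgroup.card_dvd_of_le le_sup_right
  have hDN : cls (elD hw) ∈ N :=
    ⟨(Multiplicative.ofAdd 1, 1), by
      show cls (elD hw) ^ (1 : ZMod 3).val * cls (elP hw) ^ (0 : ZMod 3).val = _
      rw [ZMod.val_one, ZMod.val_zero, pow_one, pow_zero, mul_one]⟩
  have hPN : cls (elP hw) ∈ N :=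
    ⟨(1, Multiplicative.ofAdd 1), by
      show cls (elD hw) ^ (0 : ZMod 3).val * cls (elP hw) ^ (1 : ZMod 3).val = _
      rw [ZMod.val_one, ZMod.val_zero, pow_one, pow_zero, one_mul]⟩
  have hconj : ∀ (g : G), g * cls (elD hw) * g⁻¹ ∈ N → g * cls (elP hw) * g⁻¹ ∈ N →
      g ∈ Subgroup.normalizer (N : Set G) := by
    intro g hD hP
    refine Subgroup.mem_normalizer_fintype ?_
    rintro _ ⟨⟨a, b⟩, rfl⟩
    show g * (cls (elD hw) ^ _ * cls (elP hw) ^ _) * g⁻¹ ∈ N
    rw [← conj_mul, ← conj_pow, ← conj_pow]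
    exact mul_mem (pow_mem hD _) (pow_mem hP _)
  have hM : cls (elM hw) ∈ Subgroup.normalizer (N : Set G) := by
    refine hconj _ ?_ ?_
    · show ((elM hw : G)) * elD hw * (elM hw : G)⁻¹ ∈ N
      rw [← QuotientGroup.mk_mul, elM_mul_elD hw, QuotientGroup.mk_mul, mul_inv_cancel_right]
      exact hPN
    · show ((elM hw : G)) * elP hw * (elM hw : G)⁻¹ ∈ N
      rw [← QuotientGroup.mk_mul, elM_mul_elP hw, QuotientGroup.mk_mul, mul_inv_cancel_right]
      exact pow_mem hDN 2
  have hX : cls (elX hw) ∈ Subgroup.normalizer (N : Set G) := by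
    refine hconj _ ?_ ?_
    · show ((elX hw : G)) * elD hw * (elX hw : G)⁻¹ ∈ N
      rw [← QuotientGroup.mk_mul, elX_mul_elD hw, QuotientGroup.mk_mul, mul_inv_cancel_right,
        QuotientGroup.mk_mul, QuotientGroup.mk_mul, show ((elZ hw : G)) = 1 from cls_Z hw, one_mul]
      exact mul_mem hPN hDN
    · show ((elX hw : G)) * elP hw * (elX hw : G)⁻¹ ∈ N
      rw [← QuotientGroup.mk_mul, elX_mul_elP hw, QuotientGroup.mk_mul, mul_inv_cancel_right,
        QuotientGroup.mk_mul, QuotientGroup.mk_mul, QuotientGroup.mk_pow,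
        show ((elZ hw : G)) = 1 from cls_Z hw, one_pow, one_mul]
      exact mul_mem (pow_mem hPN 2) hDN
  have hQn : Q ≤ Subgroup.normalizer (N : Set G) := by
    rintro _ ⟨g | g, rfl⟩
    · exact pow_mem hM _
    · exact mul_mem hX (pow_mem hM _)
  have hnormal : N.Normal := Subgroup.normalizer_eq_top_iff.1 (top_le_iff.1 (by
    rw [← htop]; exact sup_le Subgroup.le_normalizer hQn))
  refine ⟨N, hnormal, hcN, fun x hx => nine_pow hw ⟨x, hx⟩, ?_⟩
  let f := (QuotientGroup.mk' N).comp (quatHom hw)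
  have hf : Function.Injective f := by
    rw [injective_iff_map_eq_one]
    intro g hg
    have h1 : quatHom hw g ∈ N := (QuotientGroup.eq_one_iff _).1 hg
    have h2 : orderOf (quatHom hw g) = 1 := by
      refine Nat.eq_one_of_dvd_coprimes (by norm_num : Nat.Coprime 9 8) ?_ ?_
      · rw [← hcN]; exact Subgroup.orderOf_dvd_natCard N h1
      · rw [← hcQ]; exact Subgroup.orderOf_dvd_natCard Q ⟨g, rfl⟩
    exact (map_eq_one_iff _ (quatHom_injective hw hF)).1 (orderOf_eq_one_iff.1 h2)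
  refine ⟨(MulEquiv.ofBijective f ((Nat.bijective_iff_injective_and_card _).2 ⟨hf, ?_⟩)).symm⟩
  have h := N.card_eq_card_quotient_mul_card_subgroup
  rw [hcard, hcN] at h
  rw [Nat.card_eq_fintype_card, QuaternionGroup.card]
  omega

theorem isSolvable_psu_three_two (hF : Fintype.card F = 4) :
    Group.IsSolvable (Cfsg.PSU 3 F 2) := by
  obtain ⟨hcard, N, hN, hcN, -, -⟩ := psu_three_two hF
  have : Finite (Cfsg.PSU 3 F 2) := Nat.finite_of_card_ne_zero (by rw [hcard]; norm_num)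
  have : Fact (Nat.Prime 3) := ⟨Nat.prime_three⟩
  have : Fact (Nat.Prime 2) := ⟨Nat.prime_two⟩
  have h := N.card_eq_card_quotient_mul_card_subgroup
  rw [hcard, hcN] at h
  have h8 : Nat.card (Cfsg.PSU 3 F 2 ⧸ N) = 2 ^ 3 := by omega
  have h1 : Group.IsNilpotent N :=
    (IsPGroup.of_card (p := 3) (n := 2) (by rw [hcN]; norm_num)).isNilpotent
  have h2 : Group.IsNilpotent (Cfsg.PSU 3 F 2 ⧸ N) := (IsPGroup.of_card h8).isNilpotent
  exact Group.isSolvable_of_ker_le_range N.subtype (QuotientGroup.mk' N) (by simp)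

end CfsgLib.Classical.Herm
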